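/-
Regular subgroups and regular normal subgroups of multiply transitive / primitive groups.

* `eq_of_smul_eq_of_regular`, `bijective_smul_of_regular`, `card_eq_of_regular`
* `isMulCommutative_prime_exponent_of_transitive_auts` : a finite group whose automorphisms are
  transitive on non-identity elements is commutative of prime exponent
* `eq_or_all_of_invariant_equivalence` : invariant equivalence relations of a primitive action
* `isPretransitive_of_normal_ne_bot` : normal subgroups of faithful primitive actions are transitive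
* `stabilizer_eq_bot_of_commute_of_transitive`, `stabilizer_eq_bot_of_isMulCommutative`
* `regular_normal_of_two_transitive`, `regular_normal_of_two_primitive`,
  `regular_normal_of_three_primitive`, `regular_normal_of_four_transitive`
-/
import Cfsg.Agent.EqLemmas

namespace Cfsg.Agent.Perm

open MulAction

variable {G : Type*} [Group G] {X : Type*} [MulAction G X]

/-- The action of a point stabiliser on a point moved by a conjugate. -/
theorem conj_smul_of_fix {g : G} (n : G) {a : X} (hg : g • a = a) :
    (g * n * g⁻¹) • a = g • n • a := by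
  have : g⁻¹ • a = a := by
    conv_lhs => rw [← hg]
    rw [inv_smul_smul]
  rw [mul_smul, mul_smul, this]

theorem eq_of_smul_eq_of_regular {N : Subgroup G} (hreg : ∀ x : X, stabilizer N x = ⊥) {a : X}
    {n m : N} (h : n • a = m • a) : n = m := by
  have h1 : m⁻¹ * n ∈ stabilizer N a := by
    rw [mem_stabilizer_iff, mul_smul, h, inv_smul_smul]
  rw [hreg a, Subgroup.mem_bot, inv_mul_eq_one] at h1
  exact h1.symm

theorem bijective_smul_of_regular {N : Subgroup G} (ht : IsPretransitive N X)
    (hreg : ∀ x : X, stabilizer N x = ⊥) (a : X) : Function.Bijective (fun n : N => n • a) :=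
  ⟨fun _ _ h => eq_of_smul_eq_of_regular hreg h, fun x => exists_smul_eq N a x⟩

theorem card_eq_of_regular [Nonempty X] {N : Subgroup G} (ht : IsPretransitive N X)
    (hreg : ∀ x : X, stabilizer N x = ⊥) : Nat.card N = Nat.card X :=
  Nat.card_eq_of_bijective _ (bijective_smul_of_regular ht hreg (Classical.arbitrary X))

/-- A finite group with automorphisms transitive on its non-identity elements is commutative of
prime exponent. -/
theorem isMulCommutative_prime_exponent_of_transitive_auts {N : Type*} [Group N] [Finite N]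
    (h : ∀ x y : N, x ≠ 1 → y ≠ 1 → ∃ φ : N ≃* N, φ x = y) :
    IsMulCommutative N ∧ ∃ p : ℕ, p.Prime ∧ ∀ x : N, x ^ p = 1 := by
  rcases subsingleton_or_nontrivial N with hs | hn
  · exact ⟨⟨⟨fun a b => Subsingleton.elim _ _⟩⟩, 2, Nat.prime_two, fun x => Subsingleton.elim _ _⟩
  obtain ⟨p, hp, hdvd⟩ := Nat.exists_prime_and_dvd (Nat.ne_of_gt (Finite.one_lt_card (α := N)))
  have : Fact p.Prime := ⟨hp⟩
  obtain ⟨x, hx⟩ := exists_prime_orderOf_dvd_card' p hdvd
  have hx1 : x ≠ 1 := fun e => by
    rw [e, orderOf_one] at hx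
    exact hp.one_lt.ne hx
  have hexp : ∀ y : N, y ^ p = 1 := by
    intro y
    by_cases hy : y = 1
    · rw [hy, one_pow]
    · obtain ⟨φ, rfl⟩ := h x y hx1 hy
      rw [← map_pow, ← hx, pow_orderOf_eq_one, map_one]
  have hpg : IsPGroup p N := fun y => ⟨1, by rw [pow_one]; exact hexp y⟩
  have := hpg.center_nontrivial
  obtain ⟨z, hz⟩ := exists_ne (1 : Subgroup.center N)
  have hz1 : (z : N) ≠ 1 := fun e => hz (Subtype.ext e)
  refine ⟨⟨⟨fun a b => ?_⟩⟩, p, hp, hexp⟩
  by_cases ha : a = 1
  · rw [ha, one_mul, mul_one]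
  obtain ⟨φ, hφ⟩ := h z a hz1 ha
  rw [← hφ, ← φ.apply_symm_apply b, ← map_mul, ← map_mul,
    Subgroup.mem_center_iff.mp z.2 (φ.symm b)]

/-- An invariant equivalence relation of a primitive action is trivial or universal. -/
theorem eq_or_all_of_invariant_equivalence [IsPreprimitive G X] (r : X → X → Prop)
    (hr : Equivalence r) (hinv : ∀ (g : G) (x y : X), r x y → r (g • x) (g • y)) :
    (∀ x y, r x y → x = y) ∨ ∀ x y, r x y := by
  by_cases hcase : ∀ x y, r x y → x = y
  · exact Or.inl hcase
  right
  push Not at hcase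
  obtain ⟨x, y, hxy, hne⟩ := hcase
  have hB : IsBlock G {z | r x z} := by
    rw [isBlock_iff_smul_eq_or_disjoint]
    intro g
    by_cases hg : r x (g • x)
    · left
      ext z
      rw [Set.mem_smul_set_iff_inv_smul_mem]
      constructor
      · intro h
        have := hinv g _ _ h
        rw [smul_inv_smul] at this
        exact hr.trans hg this
      · intro h
        have := hinv g⁻¹ _ _ (hr.trans (hr.symm hg) h)
        rw [inv_smul_smul] at this
        exact this
    · right
      rw [Set.disjoint_left]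
      intro z hz hz'
      rw [Set.mem_smul_set_iff_inv_smul_mem] at hz
      have := hinv g _ _ hz
      rw [smul_inv_smul] at this
      exact hg (hr.trans hz' (hr.symm this))
  rcases IsPreprimitive.isTrivialBlock_of_isBlock hB with h | h
  · exact absurd (h (hr.refl x) hxy) hne
  · intro u v
    have hu : r x u := (Set.eq_univ_iff_forall.mp h) u
    have hv : r x v := (Set.eq_univ_iff_forall.mp h) v
    exact hr.trans (hr.symm hu) hv

theorem isPretransitive_of_normal_ne_bot [FaithfulSMul G X] [IsPreprimitive G X]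
    {N : Subgroup G} [N.Normal] (hN : N ≠ ⊥) : IsPretransitive N X := by
  apply IsQuasiPreprimitive.isPretransitive_of_normal (G := G) (X := X)
  intro h
  apply hN
  rw [Subgroup.eq_bot_iff_forall]
  intro n hn
  apply FaithfulSMul.eq_of_smul_eq_smul (α := X)
  intro x
  rw [one_smul]
  have := Set.eq_univ_iff_forall.mp h x
  exact this ⟨n, hn⟩

/-- A subgroup commuting with a transitive subgroup is semiregular. -/
theorem stabilizer_eq_bot_of_commute_of_transitive [FaithfulSMul G X] {M C : Subgroup G}
    (hM : IsPretransitive M X) (hc : ∀ m ∈ M, ∀ c ∈ C, Commute m c) (a : X) :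
    stabilizer C a = ⊥ := by
  rw [Subgroup.eq_bot_iff_forall]
  intro c hc'
  rw [mem_stabilizer_iff, Subgroup.smul_def] at hc'
  apply Subtype.ext
  apply FaithfulSMul.eq_of_smul_eq_smul (α := X)
  intro x
  obtain ⟨⟨m, hm⟩, rfl⟩ := exists_smul_eq M a x
  rw [Subgroup.smul_def, Subgroup.coe_one, one_smul, ← mul_smul]
  simp only
  rw [← (hc m hm c c.2).eq, mul_smul, hc']

theorem stabilizer_eq_bot_of_isMulCommutative [FaithfulSMul G X] {M : Subgroup G}
    (hM : IsPretransitive M X) (hab : IsMulCommutative M) (a : X) :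
    stabilizer M a = ⊥ :=
  stabilizer_eq_bot_of_commute_of_transitive hM
    (fun m hm c hc => congrArg Subtype.val (hab.is_comm.comm ⟨m, hm⟩ ⟨c, hc⟩)) a

/-- Conjugation by `g` as an automorphism of a normal subgroup. -/
theorem exists_auts_of_regular_normal_two_transitive
    (h2 : IsMultiplyPretransitive G X 2) {N : Subgroup G} [N.Normal] [Nonempty X]
    (hreg : ∀ x : X, stabilizer N x = ⊥) :
    ∀ x y : N, x ≠ 1 → y ≠ 1 → ∃ φ : N ≃* N, φ x = y := by
  intro x y hx hy
  obtain ⟨a⟩ := (inferInstance : Nonempty X)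
  have hne : ∀ z : N, z ≠ 1 → a ≠ z • a := fun z hz e =>
    hz (eq_of_smul_eq_of_regular hreg (a := a) (by rw [one_smul]; exact e.symm))
  obtain ⟨g, hga, hgx⟩ := is_two_pretransitive_iff.mp h2 (hne x hx) (hne y hy)
  refine ⟨MulAut.conjNormal g, ?_⟩
  apply eq_of_smul_eq_of_regular hreg (a := a)
  rw [Subgroup.smul_def, MulAut.conjNormal_apply, conj_smul_of_fix _ hga]
  exact hgx

/-- A regular normal subgroup of a 2-transitive group is elementary abelian. -/
theorem regular_normal_of_two_transitive [Finite X] [Nonempty X]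
    (h2 : IsMultiplyPretransitive G X 2) {N : Subgroup G} [N.Normal]
    (htrans : IsPretransitive N X) (hreg : ∀ x : X, stabilizer N x = ⊥) :
    IsMulCommutative N ∧ ∃ p : ℕ, p.Prime ∧ ∀ n : N, n ^ p = 1 := by
  have : Finite N := Finite.of_injective _
    (bijective_smul_of_regular htrans hreg (Classical.arbitrary X)).1
  exact isMulCommutative_prime_exponent_of_transitive_auts
    (exists_auts_of_regular_normal_two_transitive h2 hreg)

/-- A regular normal subgroup of a 2-primitive group is an elementary abelian 2-group, unless the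
degree is 3. -/
theorem regular_normal_of_two_primitive [Finite X] [Nonempty X]
    (h2 : IsMultiplyPreprimitive G X 2) {N : Subgroup G} [N.Normal]
    (htrans : IsPretransitive N X) (hreg : ∀ x : X, stabilizer N x = ⊥) :
    Nat.card X = 3 ∨
      (IsMulCommutative N ∧ (∀ n : N, n ^ 2 = 1) ∧ ∃ m : ℕ, Nat.card X = 2 ^ m) := by
  have h2t : IsMultiplyPretransitive G X 2 := h2.isMultiplyPretransitive
  obtain ⟨a⟩ := (inferInstance : Nonempty X)
  have hfin : Finite N := Finite.of_injective _ (bijective_smul_of_regular htrans hreg a).1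
  by_cases hexp : ∀ n : N, n ^ 2 = 1
  · right
    obtain ⟨hc, -⟩ := regular_normal_of_two_transitive h2t htrans hreg
    refine ⟨hc, hexp, ?_⟩
    rw [← card_eq_of_regular htrans hreg]
    have : Fact (Nat.Prime 2) := ⟨Nat.prime_two⟩
    exact IsPGroup.iff_card.mp fun n => ⟨1, by rw [pow_one]; exact hexp n⟩
  left
  push Not at hexp
  obtain ⟨n, hn⟩ := hexp
  have hn1 : n ≠ 1 := fun e => hn (by rw [e, one_pow])
  have hninv : n⁻¹ ≠ n := fun e => hn (by rw [pow_two]; nth_rewrite 1 [← e]; exact inv_mul_cancel n)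
  have : IsPretransitive G X := isPretransitive_of_is_two_pretransitive
  have h1 : IsMultiplyPreprimitive (stabilizer G a) (SubMulAction.ofStabilizer G a) 1 :=
    @isMultiplyPreprimitive_ofStabilizer G X _ _ _ 1 a h2
  rw [is_one_preprimitive_iff] at h1
  let r : SubMulAction.ofStabilizer G a → SubMulAction.ofStabilizer G a → Prop := fun x y =>
    x = y ∨ ∃ m : N, (x : X) = m • a ∧ (y : X) = m⁻¹ • a
  have hr : Equivalence r := by
    refine ⟨fun x => Or.inl rfl, ?_, ?_⟩
    · rintro x y (rfl | ⟨m, h, h'⟩)
      · exact Or.inl rfl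
      · exact Or.inr ⟨m⁻¹, h', by rw [inv_inv]; exact h⟩
    · rintro x y z (rfl | ⟨m, h, h'⟩) h2'
      · exact h2'
      rcases h2' with rfl | ⟨m', k, k'⟩
      · exact Or.inr ⟨m, h, h'⟩
      · left
        have : m⁻¹ = m' := eq_of_smul_eq_of_regular hreg (h'.symm.trans k)
        apply Subtype.ext
        rw [h, k', ← this, inv_inv]
  have hinv : ∀ (g : stabilizer G a) (x y : SubMulAction.ofStabilizer G a),
      r x y → r (g • x) (g • y) := by
    rintro g x y (rfl | ⟨m, h, h'⟩)
    · exact Or.inl rfl
    have hga : (g : G) • a = a := g.2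
    refine Or.inr ⟨MulAut.conjNormal (g : G) m, ?_, ?_⟩
    · rw [Subgroup.smul_def (MulAut.conjNormal (g : G) m), MulAut.conjNormal_apply,
        conj_smul_of_fix _ hga, SetLike.val_smul, Subgroup.smul_def, h, Subgroup.smul_def]
    · rw [← map_inv, Subgroup.smul_def (MulAut.conjNormal (g : G) m⁻¹), MulAut.conjNormal_apply,
        conj_smul_of_fix _ hga, SetLike.val_smul, Subgroup.smul_def, h', Subgroup.smul_def]
  have hmem : ∀ m : N, m ≠ 1 → m • a ∈ SubMulAction.ofStabilizer G a := fun m hm => by
    rw [SubMulAction.mem_ofStabilizer_iff]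
    exact fun e => hm (eq_of_smul_eq_of_regular hreg (a := a) (by rw [one_smul]; exact e))
  rcases eq_or_all_of_invariant_equivalence r hr hinv with h | h
  · exact absurd (eq_of_smul_eq_of_regular hreg
      (Subtype.ext_iff.mp (h ⟨_, hmem n hn1⟩ ⟨_, hmem n⁻¹ (inv_ne_one.mpr hn1)⟩
        (Or.inr ⟨n, rfl, rfl⟩)))).symm hninv
  -- every non-identity element of `N` is `n` or `n⁻¹`
  have hall : ∀ m : N, m = 1 ∨ m = n ∨ m = n⁻¹ := fun m => by
    by_cases hm : m = 1
    · exact Or.inl hm
    rcases h ⟨_, hmem n hn1⟩ ⟨_, hmem m hm⟩ with e | ⟨k, hk, hk'⟩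
    · exact Or.inr (Or.inl (eq_of_smul_eq_of_regular hreg (Subtype.ext_iff.mp e)).symm)
    · refine Or.inr (Or.inr ?_)
      rw [eq_of_smul_eq_of_regular hreg hk', eq_of_smul_eq_of_regular hreg hk]
  have : Fintype N := Fintype.ofFinite N
  classical
  rw [← card_eq_of_regular htrans hreg, Nat.card_eq_fintype_card, Fintype.card]
  have huniv : (Finset.univ : Finset N) = {1, n, n⁻¹} := by
    ext m
    simpa using hall m
  rw [huniv, Finset.card_insert_of_notMem, Finset.card_pair hninv.symm]
  simp [Ne.symm hn1, Ne.symm (inv_ne_one.mpr hn1)]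

/-- A 3-primitive group of degree at least 3 with a regular normal subgroup has degree 3 or 4. -/
theorem regular_normal_of_three_primitive [Finite X] (hX : 3 ≤ Nat.card X)
    (h3 : IsMultiplyPreprimitive G X 3) {N : Subgroup G} [N.Normal]
    (htrans : IsPretransitive N X) (hreg : ∀ x : X, stabilizer N x = ⊥) :
    Nat.card X = 3 ∨ Nat.card X = 4 := by
  have hne : Nonempty X := (Nat.card_ne_zero.mp (by omega)).1
  let a := Classical.arbitrary X
  have h3' : (3 : ℕ∞) ≤ ENat.card X := by
    rw [ENat.card_eq_coe_natCard]; exact_mod_cast hX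
  have h2 : IsMultiplyPreprimitive G X 2 :=
    isMultiplyPreprimitive_of_le G X h3 (by norm_num) h3'
  rcases regular_normal_of_two_primitive h2 htrans hreg with h | ⟨hc, hexp, -⟩
  · exact Or.inl h
  right
  have hfin : Finite N := Finite.of_injective _ (bijective_smul_of_regular htrans hreg a).1
  have hinvol : ∀ n : N, n⁻¹ = n := fun n => by
    rw [inv_eq_iff_mul_eq_one, ← pow_two]; exact hexp n
  have : Nontrivial N := by
    rw [← Finite.one_lt_card_iff_nontrivial, card_eq_of_regular htrans hreg]
    omega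
  obtain ⟨n, hn⟩ := exists_ne (1 : N)
  let b := n • a
  have hab : a ≠ b := fun e =>
    hn (eq_of_smul_eq_of_regular hreg (a := a) (by rw [one_smul]; exact e.symm))
  let S : Set X := {a, b}
  have hS : IsPreprimitive (fixingSubgroup G S) (SubMulAction.ofFixingSubgroup G S) := by
    apply IsMultiplyPreprimitive.isPreprimitive_ofFixingSubgroup G 3
    rw [Set.encard_pair hab]
    rfl
  have hmemS : ∀ g : fixingSubgroup G S, (g : G) • a = a ∧ (g : G) • b = b := fun g =>
    ⟨(mem_fixingSubgroup_iff G).mp g.2 a (by simp [S]),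
      (mem_fixingSubgroup_iff G).mp g.2 b (by simp [S])⟩
  have hconj : ∀ g : fixingSubgroup G S, MulAut.conjNormal (g : G) n = n := fun g => by
    apply eq_of_smul_eq_of_regular hreg (a := a)
    rw [Subgroup.smul_def, MulAut.conjNormal_apply, conj_smul_of_fix _ (hmemS g).1]
    exact (hmemS g).2
  let r : SubMulAction.ofFixingSubgroup G S → SubMulAction.ofFixingSubgroup G S → Prop :=
    fun x y => x = y ∨ ∃ m : N, (x : X) = m • a ∧ (y : X) = (n * m) • a
  have hnn : n * n = 1 := by rw [← pow_two]; exact hexp n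
  have hr : Equivalence r := by
    refine ⟨fun x => Or.inl rfl, ?_, ?_⟩
    · rintro x y (rfl | ⟨m, h, h'⟩)
      · exact Or.inl rfl
      · exact Or.inr ⟨n * m, h', by rw [← mul_assoc, hnn, one_mul]; exact h⟩
    · rintro x y z (rfl | ⟨m, h, h'⟩) h2'
      · exact h2'
      rcases h2' with rfl | ⟨m', k, k'⟩
      · exact Or.inr ⟨m, h, h'⟩
      · left
        have : n * m = m' := eq_of_smul_eq_of_regular hreg (h'.symm.trans k)
        apply Subtype.ext
        rw [h, k', ← this, ← mul_assoc, hnn, one_mul]
  have hinv : ∀ (g : fixingSubgroup G S) (x y : SubMulAction.ofFixingSubgroup G S),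
      r x y → r (g • x) (g • y) := by
    rintro g x y (rfl | ⟨m, h, h'⟩)
    · exact Or.inl rfl
    refine Or.inr ⟨MulAut.conjNormal (g : G) m, ?_, ?_⟩
    · rw [Subgroup.smul_def (MulAut.conjNormal (g : G) m), MulAut.conjNormal_apply,
        conj_smul_of_fix _ (hmemS g).1, SetLike.val_smul, Subgroup.smul_def, h, Subgroup.smul_def]
    · nth_rewrite 1 [← hconj g]
      rw [← map_mul, Subgroup.smul_def (MulAut.conjNormal (g : G) (n * m)),
        MulAut.conjNormal_apply, conj_smul_of_fix _ (hmemS g).1, SetLike.val_smul,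
        Subgroup.smul_def, h', Subgroup.smul_def]
  have hmem : ∀ m : N, m ≠ 1 → m ≠ n → m • a ∈ SubMulAction.ofFixingSubgroup G S := by
    intro m h1 h2
    rw [SubMulAction.mem_ofFixingSubgroup_iff]
    simp only [S, b, Set.mem_insert_iff, Set.mem_singleton_iff, not_or]
    exact ⟨fun e => h1 (eq_of_smul_eq_of_regular hreg (a := a) (by rw [one_smul]; exact e)),
      fun e => h2 (eq_of_smul_eq_of_regular hreg e)⟩
  classical
  have : Fintype N := Fintype.ofFinite N
  obtain ⟨m, hm1, hmn⟩ : ∃ m : N, m ≠ 1 ∧ m ≠ n := by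
    by_contra hc'
    push Not at hc'
    have hle : Nat.card N ≤ 2 := by
      rw [Nat.card_eq_fintype_card, ← Finset.card_univ]
      refine (Finset.card_le_card (t := {1, n}) fun m _ => ?_).trans Finset.card_le_two
      by_cases h : m = 1
      · simp [h]
      · simp [hc' m h]
    rw [card_eq_of_regular htrans hreg] at hle
    omega
  have hnm1 : n * m ≠ 1 := fun e => hmn (by rw [← hinvol n]; exact (inv_eq_of_mul_eq_one_right e).symm)
  have hnmn : n * m ≠ n := fun e => hm1 (mul_eq_left.mp e)
  have hnmm : n * m ≠ m := fun e => hn (mul_eq_right.mp e)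
  rcases eq_or_all_of_invariant_equivalence r hr hinv with h | h
  · exact absurd (eq_of_smul_eq_of_regular hreg
      (Subtype.ext_iff.mp (h ⟨_, hmem m hm1 hmn⟩ ⟨_, hmem (n * m) hnm1 hnmn⟩
        (Or.inr ⟨m, rfl, rfl⟩)))).symm hnmm
  have hall : ∀ k : N, k = 1 ∨ k = n ∨ k = m ∨ k = n * m := fun k => by
    by_cases hk1 : k = 1
    · exact Or.inl hk1
    by_cases hkn : k = n
    · exact Or.inr (Or.inl hkn)
    rcases h ⟨_, hmem m hm1 hmn⟩ ⟨_, hmem k hk1 hkn⟩ with e | ⟨l, hl, hl'⟩
    · exact Or.inr (Or.inr (Or.inl (eq_of_smul_eq_of_regular hreg (Subtype.ext_iff.mp e)).symm))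
    · refine Or.inr (Or.inr (Or.inr ?_))
      rw [eq_of_smul_eq_of_regular hreg hl', eq_of_smul_eq_of_regular hreg hl]
  rw [← card_eq_of_regular (X := X) htrans hreg, Nat.card_eq_fintype_card, Fintype.card]
  have huniv : (Finset.univ : Finset N) = {1, n, m, n * m} := by
    ext k
    simpa using hall k
  rw [huniv, Finset.card_insert_of_notMem, Finset.card_insert_of_notMem,
    Finset.card_pair hnmm.symm]
  · simp [Ne.symm hmn, Ne.symm hnmn]
  · simp [Ne.symm hn, Ne.symm hm1, Ne.symm hnm1]

/-- A 4-transitive group of degree greater than 4 has no regular normal subgroup. -/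
theorem regular_normal_of_four_transitive [Finite X] (hX : 4 < Nat.card X)
    (h4 : IsMultiplyPretransitive G X 4) {N : Subgroup G} [N.Normal]
    (htrans : IsPretransitive N X) : ∃ x : X, stabilizer N x ≠ ⊥ := by
  by_contra hreg
  push Not at hreg
  have h3 : IsMultiplyPreprimitive G X 3 := by
    apply isMultiplyPreprimitive_of_isMultiplyPretransitive_succ G X
    rw [ENat.card_eq_coe_natCard]; exact_mod_cast hX.le
  rcases regular_normal_of_three_primitive (by omega) h3 htrans hreg with h | h <;> omega

end Cfsg.Agent.Perm
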