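/-
Normal subgroups with trivial two-point stabilisers of 2-transitive groups; sharply 2-transitive
groups.

* `card_fixedPointFree_of_two_point_trivial` : a transitive group in which only the identity fixes
  two points has exactly `n - 1` fixed-point-free elements
* `exists_regular_of_frobenius_normal` : if `H` is a normal transitive subgroup of a 2-transitive
  group and only `1 ∈ H` fixes two points, then the degree is a prime power `p ^ j` and `H` has a
  regular subgroup `T`, normal in the whole group, elementary abelian, consisting of `1` and the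
  fixed-point-free elements (no use of Frobenius' theorem)
* `exists_regular_of_sharply_two_transitive`
-/
import Cfsg.Agent.Lib.Perm.Regular

namespace Cfsg.Agent.Perm

open MulAction

variable {G : Type*} [Group G] {X : Type*} [MulAction G X]

theorem card_fixedPointFree_of_two_point_trivial [Finite G] [Finite X] [Nonempty X]
    (ht : IsPretransitive G X) (hs : ∀ g : G, ∀ a b : X, a ≠ b → g • a = a → g • b = b → g = 1) :
    Nat.card {g : G // ∀ a : X, g • a ≠ a} = Nat.card X - 1 := by
  classical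
  cases nonempty_fintype G
  cases nonempty_fintype X
  have hb := MulAction.sum_card_fixedBy_eq_card_orbits_mul_card_group G X
  have horb : Fintype.card (Quotient (orbitRel G X)) = 1 := by
    rw [Fintype.card_eq_one_iff]
    refine ⟨Quotient.mk'' (Classical.arbitrary X), fun q => ?_⟩
    induction q using Quotient.inductionOn' with
    | h x => exact Quotient.sound' (exists_smul_eq G (Classical.arbitrary X) x)
  rw [horb, one_mul] at hb
  have hval : ∀ g : G, (Fintype.card (fixedBy X g) : ℤ) - 1 =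
      (if g = 1 then (Fintype.card X : ℤ) else 0) - (if ∀ a : X, g • a ≠ a then 1 else 0) -
        (if g = 1 then 1 else 0) := by
    intro g
    by_cases hg : g = 1
    · subst hg
      have hne : ¬ ∀ a : X, (1 : G) • a ≠ a := fun h => h (Classical.arbitrary X) (one_smul G _)
      rw [if_pos rfl, if_neg hne, if_pos rfl]
      have : Fintype.card (fixedBy X (1 : G)) = Fintype.card X := by
        exact Fintype.card_congr (Equiv.subtypeUnivEquiv fun x => one_smul G x)
      rw [this]
      ring
    · rw [if_neg hg, if_neg hg]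
      by_cases hfree : ∀ a : X, g • a ≠ a
      · rw [if_pos hfree]
        have : Fintype.card (fixedBy X g) = 0 := Fintype.card_eq_zero_iff.mpr
          ⟨fun a => hfree a a.2⟩
        rw [this]
        norm_num
      · rw [if_neg hfree]
        push Not at hfree
        obtain ⟨a, ha⟩ := hfree
        have : Fintype.card (fixedBy X g) = 1 := Fintype.card_eq_one_iff.mpr ⟨⟨a, ha⟩, fun b => by
          by_contra hne
          exact hg (hs g b a (fun e => hne (Subtype.ext e)) b.2 ha)⟩
        rw [this]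
        norm_num
  have hsum := Finset.sum_congr rfl (fun g (_ : g ∈ Finset.univ) => hval g)
  rw [Finset.sum_sub_distrib, Finset.sum_sub_distrib, Finset.sum_sub_distrib,
    Finset.sum_ite_eq' , Finset.sum_ite_eq', Finset.sum_boole, ← Nat.cast_sum, hb,
    Finset.sum_const, Finset.card_univ] at hsum
  simp only [Finset.mem_univ, if_true, nsmul_eq_mul, mul_one, sub_self] at hsum
  have h0 : 0 < Fintype.card X := Fintype.card_pos
  rw [Nat.card_eq_fintype_card, Nat.card_eq_fintype_card, Fintype.card_subtype]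
  omega

/-- A transitive normal subgroup of a 2-transitive group in which only the identity fixes two
points has a regular subgroup, normal in the whole group, of prime-power order. -/
theorem exists_regular_of_frobenius_normal [Finite X] (hX : 2 ≤ Nat.card X)
    (h2 : IsMultiplyPretransitive G X 2) {H : Subgroup G} [H.Normal] [Finite H]
    (ht : IsPretransitive H X)
    (hs : ∀ g ∈ H, ∀ a b : X, a ≠ b → g • a = a → g • b = b → g = 1) :
    ∃ (p j : ℕ) (T : Subgroup G), p.Prime ∧ 1 ≤ j ∧ Nat.card X = p ^ j ∧ T ≤ H ∧ T.Normal ∧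
      IsMulCommutative T ∧ (∀ t ∈ T, t ^ p = 1) ∧ IsPretransitive T X ∧
      (∀ a : X, stabilizer T a = ⊥) ∧
      ∀ g : G, g ∈ T ↔ g ∈ H ∧ (g = 1 ∨ ∀ a : X, g • a ≠ a) := by
  classical
  have hne : Nonempty X := (Nat.card_ne_zero.mp (by omega)).1
  have : Nontrivial X := Finite.one_lt_card_iff_nontrivial.mp (by omega)
  obtain ⟨a⟩ := hne
  set n := Nat.card X with hn
  let F := {h : H // ∀ x : X, h • x ≠ x}
  have hcF : Nat.card F = n - 1 := by
    refine card_fixedPointFree_of_two_point_trivial ht fun g x y hxy h1 h2' => ?_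
    exact Subtype.ext (hs g g.2 x y hxy h1 h2')
  have hconjF : ∀ (g : G) (h : F) (x : X), MulAut.conjNormal g h.1 • x ≠ x := by
    intro g h x e
    apply h.2 (g⁻¹ • x)
    rw [Subgroup.smul_def, MulAut.conjNormal_apply, mul_smul, mul_smul] at e
    rw [Subgroup.smul_def, ← inv_smul_smul g ((h.1 : G) • g⁻¹ • x), e]
  let φ : F → {x : X // x ≠ a} := fun h => ⟨h.1 • a, h.2 a⟩
  obtain ⟨h0⟩ : Nonempty F := (Nat.card_ne_zero.mp (by omega)).1
  have hφs : Function.Surjective φ := by
    rintro ⟨b, hb⟩
    obtain ⟨g, hga, hgb⟩ := is_two_pretransitive_iff.mp h2 (Ne.symm (φ h0).2) (Ne.symm hb)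
    refine ⟨⟨MulAut.conjNormal g h0.1, hconjF g h0⟩, Subtype.ext ?_⟩
    show MulAut.conjNormal g h0.1 • a = b
    rw [Subgroup.smul_def, MulAut.conjNormal_apply, conj_smul_of_fix _ hga]
    exact hgb
  have hφ : Function.Bijective φ := by
    refine hφs.bijective_of_nat_card_le ?_
    rw [hcF]
    have : Nat.card {x : X // x ≠ a} = n - 1 := by
      cases nonempty_fintype X
      rw [hn, Nat.card_eq_fintype_card, Nat.card_eq_fintype_card, Fintype.card_subtype_compl,
        Fintype.card_subtype_eq]
    omega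
  have hord : ∀ h h' : F, orderOf h.1 = orderOf h'.1 := by
    intro h h'
    obtain ⟨g, hga, hgb⟩ := is_two_pretransitive_iff.mp h2 (Ne.symm (φ h).2) (Ne.symm (φ h').2)
    have : (⟨MulAut.conjNormal g h.1, hconjF g h⟩ : F) = h' := by
      apply hφ.1
      apply Subtype.ext
      show MulAut.conjNormal g h.1 • a = _
      rw [Subgroup.smul_def, MulAut.conjNormal_apply, conj_smul_of_fix _ hga]
      exact hgb
    rw [← this]
    exact ((MulAut.conjNormal g : H ≃* H).orderOf_eq h.1).symm
  -- every prime divisor of the degree is the order of the fixed-point-free elements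
  have hnostab : ∀ (q : ℕ), q.Prime → q ∣ n → ∀ h : H, orderOf h = q → ∀ x : X, h • x ≠ x := by
    intro q hq hqn h hh x hx
    have : Fact q.Prime := ⟨hq⟩
    have hP : IsPGroup q (Subgroup.zpowers h) :=
      IsPGroup.of_card (n := 1) (by rw [pow_one, Nat.card_zpowers, hh])
    have hm := hP.card_modEq_card_fixedPoints X
    have h1 : Nat.card (fixedPoints (Subgroup.zpowers h) X) = 1 := by
      rw [Nat.card_eq_one_iff_exists]
      refine ⟨⟨x, ?_⟩, fun y => Subtype.ext ?_⟩
      · rintro ⟨g, hg⟩
        exact (Subgroup.zpowers_le.mpr (mem_stabilizer_iff.mpr hx) hg : g ∈ stabilizer H x)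
      · by_contra hne
        have hy : h • (y : X) = y := y.2 ⟨h, Subgroup.mem_zpowers h⟩
        have : h = 1 := Subtype.ext (hs h h.2 y x hne hy hx)
        rw [this, orderOf_one] at hh
        exact hq.one_lt.ne hh
    rw [h1] at hm
    have := (Nat.modEq_zero_iff_dvd.mpr hqn).symm.trans hm
    exact hq.one_lt.ne' (Nat.dvd_one.mp (Nat.modEq_zero_iff_dvd.mp this.symm))
  have hdvd : n ∣ Nat.card H := by
    rw [hn, ← index_stabilizer_of_transitive H a]
    exact (stabilizer H a).index_dvd_card
  have hqp : ∀ q : ℕ, q.Prime → q ∣ n → orderOf h0.1 = q := by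
    intro q hq hqn
    have : Fact q.Prime := ⟨hq⟩
    obtain ⟨x, hx⟩ := exists_prime_orderOf_dvd_card' q (hqn.trans hdvd)
    rw [hord h0 ⟨x, hnostab q hq hqn x hx⟩, hx]
  obtain ⟨p, hp, hpn⟩ := Nat.exists_prime_and_dvd (show n ≠ 1 by omega)
  have : Fact p.Prime := ⟨hp⟩
  obtain ⟨j, hj⟩ : ∃ j, n = p ^ j := ⟨n.primeFactorsList.length,
    Nat.eq_prime_pow_of_unique_prime_dvd (by omega) fun {q} hq hqn =>
      (hqp q hq hqn).symm.trans (hqp p hp hpn)⟩
  have hj1 : 1 ≤ j := by
    by_contra h
    rw [show j = 0 by omega, pow_zero] at hj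
    omega
  obtain ⟨P, hP⟩ := Sylow.exists_subgroup_card_pow_prime p (hj ▸ hdvd)
  rw [← hj] at hP
  have hPg : IsPGroup p P := IsPGroup.of_card (hP.trans hj)
  have hPfree : ∀ h : H, h ∈ P → h ≠ 1 → ∀ x : X, h • x ≠ x := by
    intro h hh h1 x hx
    obtain ⟨k, hk⟩ := hPg ⟨h, hh⟩
    have hk' : h ^ p ^ k = 1 := congrArg Subtype.val hk
    obtain ⟨i, _, hi⟩ := (Nat.dvd_prime_pow hp).mp (orderOf_dvd_of_pow_eq_one hk')
    have hi0 : i ≠ 0 := by
      rintro rfl
      rw [pow_zero, orderOf_eq_one_iff] at hi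
      exact h1 hi
    obtain ⟨i', rfl⟩ := Nat.exists_eq_succ_of_ne_zero hi0
    apply hnostab p hp hpn (h ^ p ^ i') ?_ x
    · have : h ∈ stabilizer H x := hx
      exact mem_stabilizer_iff.mp (pow_mem this _)
    · rw [orderOf_pow' _ (pow_ne_zero _ hp.ne_zero), hi, pow_succ,
        Nat.gcd_eq_right (Dvd.intro _ rfl), Nat.mul_div_cancel_left _ (pow_pos hp.pos _)]
  -- `P` consists of the identity and the fixed-point-free elements
  have hPmem : ∀ h : H, h ∈ P ↔ h = 1 ∨ ∀ x : X, h • x ≠ x := by
    let ι : {h : P // h ≠ 1} → F := fun h => ⟨h.1.1, hPfree _ h.1.2 fun e => h.2 (Subtype.ext e)⟩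
    have hι : Function.Injective ι := fun u v e => by
      apply Subtype.ext
      apply Subtype.ext
      exact congrArg (fun f : F => f.1) e
    have hcard : Nat.card F ≤ Nat.card {h : P // h ≠ 1} := by
      cases nonempty_fintype P
      rw [hcF, Nat.card_eq_fintype_card, Fintype.card_subtype_compl, Fintype.card_subtype_eq,
        ← Nat.card_eq_fintype_card, hP]
    have hsurj := (hι.bijective_of_nat_card_le hcard).2
    intro h
    refine ⟨fun hh => ?_, ?_⟩
    · by_cases h1 : h = 1
      · exact Or.inl h1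
      · exact Or.inr (hPfree h hh h1)
    · rintro (rfl | hh)
      · exact P.one_mem
      · obtain ⟨u, hu⟩ := hsurj ⟨h, hh⟩
        have : (u.1.1 : H) = h := congrArg (fun f : F => f.1) hu
        exact this ▸ u.1.2
  let T := P.map H.subtype
  have hTmem : ∀ g : G, g ∈ T ↔ g ∈ H ∧ (g = 1 ∨ ∀ x : X, g • x ≠ x) := by
    intro g
    constructor
    · rintro ⟨h, hh, rfl⟩
      refine ⟨h.2, ?_⟩
      rcases (hPmem h).mp hh with rfl | h'
      · exact Or.inl rfl
      · exact Or.inr h'
    · rintro ⟨hg, h'⟩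
      refine ⟨⟨g, hg⟩, (hPmem _).mpr ?_, rfl⟩
      rcases h' with rfl | h'
      · exact Or.inl rfl
      · exact Or.inr h'
  have hTn : T.Normal := ⟨fun t htT g => by
    obtain ⟨htH, h'⟩ := (hTmem t).mp htT
    refine (hTmem _).mpr ⟨Subgroup.Normal.conj_mem inferInstance t htH g, ?_⟩
    rcases h' with rfl | h'
    · exact Or.inl (by rw [mul_one, mul_inv_cancel])
    · exact Or.inr fun x e => h' (g⁻¹ • x) (by
        rw [mul_smul, mul_smul] at e
        rw [← inv_smul_smul g (t • g⁻¹ • x), e])⟩
  have hTs : ∀ x : X, stabilizer T x = ⊥ := by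
    intro x
    rw [Subgroup.eq_bot_iff_forall]
    rintro ⟨t, htT⟩ htx
    rcases ((hTmem t).mp htT).2 with rfl | h'
    · rfl
    · exact absurd htx (h' x)
  have hTt : IsPretransitive T X := by
    rw [isPretransitive_iff_base a]
    intro b
    by_cases hb : b = a
    · exact ⟨1, by rw [hb, one_smul]⟩
    obtain ⟨h, hh⟩ := hφ.2 ⟨b, hb⟩
    exact ⟨⟨h.1, (hTmem _).mpr ⟨h.1.2, Or.inr h.2⟩⟩, congrArg Subtype.val hh⟩
  obtain ⟨hc, q, hq, hexp⟩ := regular_normal_of_two_transitive h2 hTt hTs
  refine ⟨p, j, T, hp, hj1, hj, Subgroup.map_subtype_le P, hTn, hc, ?_, hTt, hTs, hTmem⟩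
  intro t htT
  rcases ((hTmem t).mp htT).2 with rfl | h'
  · exact one_pow p
  · have := hord ⟨⟨t, ((hTmem t).mp htT).1⟩, h'⟩ h0
    rw [hqp p hp hpn, Subgroup.orderOf_mk] at this
    rw [← this, pow_orderOf_eq_one]

theorem exists_regular_of_sharply_two_transitive [Finite G] [Finite X] (hX : 2 ≤ Nat.card X)
    (h2 : IsMultiplyPretransitive G X 2)
    (hs : ∀ g : G, ∀ a b : X, a ≠ b → g • a = a → g • b = b → g = 1) :
    ∃ (p j : ℕ) (T : Subgroup G), p.Prime ∧ 1 ≤ j ∧ Nat.card X = p ^ j ∧ T.Normal ∧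
      IsMulCommutative T ∧ (∀ t ∈ T, t ^ p = 1) ∧ IsPretransitive T X ∧
      (∀ a : X, stabilizer T a = ⊥) ∧ ∀ g : G, g ∈ T ↔ g = 1 ∨ ∀ a : X, g • a ≠ a := by
  have : IsPretransitive G X := isPretransitive_of_is_two_pretransitive
  have htop : IsPretransitive (⊤ : Subgroup G) X :=
    ⟨fun x y => ⟨⟨(exists_smul_eq G x y).choose, trivial⟩, (exists_smul_eq G x y).choose_spec⟩⟩
  obtain ⟨p, j, T, h1, h2', h3, -, h4, h5, h6, h7, h8, h9⟩ :=
    exists_regular_of_frobenius_normal hX h2 htop fun g _ => hs g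
  exact ⟨p, j, T, h1, h2', h3, h4, h5, h6, h7, h8, fun g => by simpa using h9 g⟩

end Cfsg.Agent.Perm
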