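/-
Reformulations of "all stabilisers of `k`-tuples are trivial".

* `eq_one_of_sharp_pair` : only the identity fixes two points
* `eq_one_of_sharp_finset` : only the identity fixes `k` points
-/
import Cfsg.Agent.Lib.Perm.Regular

namespace Cfsg.Agent.Perm

open MulAction

variable {G : Type*} [Group G] {X : Type*} [MulAction G X]

theorem eq_one_of_sharp_finset {k : ℕ} (hsharp : ∀ x : Fin k ↪ X, stabilizer G x = ⊥) {g : G}
    (s : Finset X) (hs : s.card = k) (hg : ∀ x ∈ s, g • x = x) : g = 1 := by
  let emb : Fin k ↪ X := ((Finset.equivFinOfCardEq hs).symm.toEmbedding).trans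
    (Function.Embedding.subtype _)
  have hmem : g ∈ stabilizer G emb := by
    rw [mem_stabilizer_iff]
    ext i
    exact hg _ ((Finset.equivFinOfCardEq hs).symm i).2
  rwa [hsharp emb, Subgroup.mem_bot] at hmem

theorem eq_one_of_sharp_pair (hsharp : ∀ x : Fin 2 ↪ X, stabilizer G x = ⊥) (g : G) (a b : X)
    (hab : a ≠ b) (ha : g • a = a) (hb : g • b = b) : g = 1 := by
  classical
  refine eq_one_of_sharp_finset hsharp {a, b} (Finset.card_pair hab) fun x hx => ?_
  simp only [Finset.mem_insert, Finset.mem_singleton] at hx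
  rcases hx with rfl | rfl <;> assumption

end Cfsg.Agent.Perm
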