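/-
Sharply 3-transitive groups whose two-point stabiliser is inverted by an exchanging involution.

* `exists_coordinates` : coordinates from a field, if the two-point stabiliser is commutative
* `exists_mulEquiv_pgl` : such a group is isomorphic to `PGL₂(F)`
* `exists_small_field` : every finite field is isomorphic to one in `Type`
-/
import Cfsg.Agent.Lib.Perm.FrobeniusNormal
import Cfsg.Agent.Lib.Perm.Sharp
import Cfsg.Agent.Lib.PSL2.Moebius
import Mathlib.Algebra.Ring.Subring.Basic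
import Mathlib.RingTheory.IntegralDomain

namespace Cfsg.Agent.Perm

open MulAction Matrix

universe u v

/-- Every finite field is isomorphic to a field in `Type`, compatibly with `PGL₂`. -/
theorem exists_small_field {F : Type u} [Field F] [Finite F] :
    ∃ (F' : Type) (_ : Field F') (_ : Fintype F'), Fintype.card F' = Nat.card F ∧
      Nonempty (ProjGenLinGroup (Fin 2) F ≃* ProjGenLinGroup (Fin 2) F') := by
  let e : {i : ℕ // i < Nat.card F} ≃ F := Fin.equivSubtype.symm.trans (Finite.equivFin F).symm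
  let : Field {i : ℕ // i < Nat.card F} := e.field
  let r : {i : ℕ // i < Nat.card F} ≃+* F := e.ringEquiv
  let : Fintype {i : ℕ // i < Nat.card F} := Fintype.ofEquiv _ Fin.equivSubtype
  refine ⟨{i : ℕ // i < Nat.card F}, inferInstance, inferInstance, ?_, ⟨?_⟩⟩
  · rw [← Nat.card_eq_fintype_card, Nat.card_congr e]
  refine MonoidHom.toMulEquiv (ProjGenLinGroup.map r.symm.toRingHom)
    (ProjGenLinGroup.map r.toRingHom) ?_ ?_
  · rw [← ProjGenLinGroup.map_comp, ← ProjGenLinGroup.map_id]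
    congr 1
    exact RingHom.ext fun x => r.apply_symm_apply x
  · rw [← ProjGenLinGroup.map_comp, ← ProjGenLinGroup.map_id]
    congr 1
    exact RingHom.ext fun x => r.symm_apply_apply x

variable {α : Type u} [Fintype α] [DecidableEq α]

theorem exists_smul_three {G : Type*} [Group G] {X : Type*} [MulAction G X]
    (h3 : IsMultiplyPretransitive G X 3) {a b c a' b' c' : X} (hab : a ≠ b) (hac : a ≠ c)
    (hbc : b ≠ c) (hab' : a' ≠ b') (hac' : a' ≠ c') (hbc' : b' ≠ c') :
    ∃ g : G, g • a = a' ∧ g • b = b' ∧ g • c = c' := by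
  have key : ∀ {x y z : X}, x ≠ y → x ≠ z → y ≠ z →
      ∃ f : Fin 3 ↪ X, f 0 = x ∧ f 1 = y ∧ f 2 = z := fun {x y z} h1 h2 h3 =>
    ⟨⟨([x, y, z] : List X).get, List.nodup_iff_injective_get.mp (by simp [h1, h2, h3])⟩,
      rfl, rfl, rfl⟩
  obtain ⟨f, f0, f1, f2⟩ := key hab hac hbc
  obtain ⟨f', e0, e1, e2⟩ := key hab' hac' hbc'
  obtain ⟨g, hg⟩ := h3.exists_smul_eq f f'
  have hv : ∀ i, g • f i = f' i := fun i => congrArg (fun u : Fin 3 ↪ X => u i) hg
  exact ⟨g, by rw [← f0, hv, e0], by rw [← f1, hv, e1], by rw [← f2, hv, e2]⟩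

/-- A coordinatisation of a sharply 3-transitive group with commutative two-point stabiliser:
the stabiliser of `a` is the affine group of a field. -/
theorem exists_coordinates (G : Subgroup (Equiv.Perm α))
    (h3 : IsMultiplyPretransitive G α 3)
    (hkey : ∀ g : G, ∀ x y z : α, x ≠ y → x ≠ z → y ≠ z → g • x = x → g • y = y → g • z = z → g = 1)
    {a b c : α} (hab : a ≠ b) (hac : a ≠ c) (hbc : b ≠ c)
    (hKcomm : ∀ g ∈ stabilizer G a ⊓ stabilizer G b, ∀ h ∈ stabilizer G a ⊓ stabilizer G b,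
      g * h = h * g) :
    ∃ (R : Type u) (_ : Field R) (_ : Finite R) (φ : PSL2.Pt R ≃ α),
      φ PSL2.pinf = a ∧ φ (PSL2.pt 0) = b ∧ φ (PSL2.pt 1) = c ∧ Nat.card R + 1 = Fintype.card α ∧
      (∀ r : R, ∃ t : G, ∀ P, t • φ P = φ (PSL2.aff 1 r • P)) ∧
      (∀ u : Rˣ, ∃ k ∈ stabilizer G a ⊓ stabilizer G b, ∀ P, k • φ P = φ (PSL2.aff u 0 • P)) ∧
      (∀ g : G, g • a = a → ∃ m : PSL2.PGL2 R, ∀ P, g • φ P = φ (m • P)) := by
  classical
  have h3c : 3 ≤ Fintype.card α := by
    rw [← Finset.card_univ]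
    exact (Finset.card_eq_three.mpr ⟨a, b, c, hab, hac, hbc, rfl⟩).ge.trans
      (Finset.card_le_card (Finset.subset_univ _))
  have h2G : IsMultiplyPretransitive G α 2 :=
    isMultiplyPretransitive_of_le (n := 3) (by omega) (by rw [Nat.card_eq_fintype_card]; omega)
  have := isPretransitive_of_is_two_pretransitive (G := G) (α := α)
  have h2' : IsMultiplyPretransitive (stabilizer G a) (SubMulAction.ofStabilizer G a) 2 :=
    SubMulAction.ofStabilizer.isMultiplyPretransitive.mp h3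
  have hs' : ∀ g : stabilizer G a, ∀ x y : SubMulAction.ofStabilizer G a,
      x ≠ y → g • x = x → g • y = y → g = 1 := fun g x y hxy hx hy =>
    Subtype.ext (hkey g a x y (fun e => x.2 e.symm) (fun e => y.2 e.symm)
      (fun e => hxy (Subtype.ext e)) g.2 (congrArg Subtype.val hx) (congrArg Subtype.val hy))
  have hX : Nat.card (SubMulAction.ofStabilizer G a) + 1 = Fintype.card α := by
    rw [← Nat.card_eq_fintype_card]
    exact SubMulAction.nat_card_ofStabilizer_add_one_eq G a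
  obtain ⟨p, j, T, -, -, -, hTn, hTc, -, hTt, hTs, -⟩ :=
    exists_regular_of_sharply_two_transitive (by omega) h2' hs'
  have := hTn
  let o : SubMulAction.ofStabilizer G a := ⟨b, hab.symm⟩
  let K : Subgroup (stabilizer G a) := stabilizer (stabilizer G a) o
  have hbij := bijective_smul_of_regular hTt hTs o
  let cgT : CommGroup T :=
    { (inferInstance : Group T) with mul_comm := fun x y => hTc.is_comm.comm x y }
  let ψ : K →* MulAut T := MulAut.conjNormal.comp K.subtype
  have hψ : ∀ (k : K) (t : T), ψ k t • o = (k : stabilizer G a) • t • o := fun k t => by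
    rw [Subgroup.smul_def, Subgroup.smul_def]
    change ((MulAut.conjNormal (k : stabilizer G a) t : T) : stabilizer G a) • o = _
    rw [MulAut.conjNormal_apply, conj_smul_of_fix _ k.2]
  have hKmem : ∀ k : K, ((k : stabilizer G a) : G) ∈ stabilizer G a ⊓ stabilizer G b := fun k =>
    ⟨(k : stabilizer G a).2, congrArg Subtype.val k.2⟩
  have hKc : ∀ k l : K, k * l = l * k := fun k l =>
    Subtype.ext (Subtype.ext (hKcomm _ (hKmem k) _ (hKmem l)))
  -- the field
  let A := Additive T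
  let ρ : K → AddMonoid.End A := fun k => (MulEquiv.toAdditive (ψ k)).toAddMonoidHom
  have hρ : ∀ k (t : A), (ρ k t).toMul = ψ k t.toMul := fun _ _ => rfl
  have hρm : ∀ k l, ρ (k * l) = ρ k * ρ l := fun k l => AddMonoidHom.ext fun x =>
    Additive.toMul.injective (show ψ (k * l) x.toMul = ψ k (ψ l x.toMul) by rw [map_mul]; rfl)
  have hρ1 : ρ 1 = 1 := AddMonoidHom.ext fun x =>
    Additive.toMul.injective (show ψ 1 x.toMul = x.toMul by rw [map_one]; rfl)
  have hcomm : ∀ x ∈ Set.range ρ, ∀ y ∈ Set.range ρ, x * y = y * x := by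
    rintro _ ⟨k, rfl⟩ _ ⟨l, rfl⟩
    rw [← hρm, ← hρm, hKc]
  let R : Subring (AddMonoid.End A) := Subring.closure (Set.range ρ)
  let : CommRing R := Subring.closureCommRingOfComm hcomm
  let u : K → R := fun k => ⟨ρ k, Subring.subset_closure ⟨k, rfl⟩⟩
  obtain ⟨t₁, ht₁⟩ := hbij.2 (⟨c, hac.symm⟩ : SubMulAction.ofStabilizer G a)
  let ev : R → A := fun r => (r : AddMonoid.End A) (Additive.ofMul t₁)
  have htr : ∀ w : A, w ≠ 0 → ∃ k : K, ev (u k) = w := by
    intro w hw
    have hne : w.toMul • o ≠ o := fun e => hw (eq_of_smul_eq_of_regular hTs (a := o)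
      (show (w.toMul : T) • o = (1 : T) • o by rw [e, one_smul]))
    obtain ⟨g, hg, hgw⟩ := is_two_pretransitive_iff.mp h2'
      (show o ≠ t₁ • o from fun e => hbc (congrArg Subtype.val (e.trans ht₁))) hne.symm
    exact ⟨⟨g, hg⟩, Additive.toMul.injective (hbij.1 ((hψ ⟨g, hg⟩ t₁).trans hgw))⟩
  have hev0 : ∀ r : R, ev r = 0 → r = 0 := fun r hr => by
    apply Subtype.ext
    refine AddMonoidHom.ext fun w => ?_
    by_cases hw : w = 0
    · subst hw
      exact (map_zero (M := A) (N := A) (r : AddMonoid.End A)).trans rfl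
    obtain ⟨k, rfl⟩ := htr w hw
    calc (r : AddMonoid.End A) (ev (u k)) = ((r * u k : R) : AddMonoid.End A) (Additive.ofMul t₁) := rfl
      _ = ((u k * r : R) : AddMonoid.End A) (Additive.ofMul t₁) := by rw [mul_comm]
      _ = ρ k (ev r) := rfl
      _ = 0 := by rw [hr, map_zero]
  have hevi : Function.Injective ev := fun r r' h => sub_eq_zero.mp (hev0 _ (by
    change ((r - r' : R) : AddMonoid.End A) (Additive.ofMul t₁) = 0
    rw [AddSubgroupClass.coe_sub]
    exact sub_eq_zero.mpr h))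
  have hevs : Function.Surjective ev := fun w => by
    by_cases hw : w = 0
    · exact ⟨0, hw.symm⟩
    obtain ⟨k, hk⟩ := htr w hw
    exact ⟨u k, hk⟩
  have hu : ∀ k, u k * u k⁻¹ = 1 := fun k => Subtype.ext (by
    change ρ k * ρ k⁻¹ = 1
    rw [← hρm, mul_inv_cancel, hρ1])
  have hF : IsField R :=
    { exists_pair_ne := ⟨0, 1, fun e => hbc (by
        have h1 : (0 : A) = Additive.ofMul t₁ := congrArg ev e
        have h2 : t₁ = 1 := (congrArg Additive.toMul h1).symm
        have h3' : t₁ • o = o := by rw [h2, one_smul]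
        exact congrArg Subtype.val (h3'.symm.trans ht₁))⟩
      mul_comm := mul_comm
      mul_inv_cancel := fun {r} hr => by
        obtain ⟨k, hk⟩ := htr (ev r) (fun e => hr (hev0 r e))
        exact ⟨u k⁻¹, by rw [← hevi hk]; exact hu k⟩ }
  let : Field R := hF.toField
  have : Finite R := Finite.of_injective ev hevi
  -- the coordinates
  have hjbij : Function.Bijective (fun r : Option R => r.elim a
      fun r => (((ev r).toMul • o : SubMulAction.ofStabilizer G a) : α)) := by
    constructor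
    · rintro (_ | r) (_ | r') h
      · rfl
      · exact absurd h.symm (((ev r').toMul • o : SubMulAction.ofStabilizer G a)).2
      · exact absurd h (((ev r).toMul • o : SubMulAction.ofStabilizer G a)).2
      · exact congrArg some (hevi (Additive.toMul.injective (hbij.1 (Subtype.ext h))))
    · intro x
      by_cases hx : x = a
      · exact ⟨none, hx.symm⟩
      obtain ⟨t, ht⟩ := hbij.2 (⟨x, hx⟩ : SubMulAction.ofStabilizer G a)
      obtain ⟨r, hr⟩ := hevs (Additive.ofMul t)
      exact ⟨some r, by change (((ev r).toMul • o : SubMulAction.ofStabilizer G a) : α) = x; rw [hr]; exact congrArg Subtype.val ht⟩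
  have hibij : Function.Bijective (fun r : Option R => r.elim (PSL2.pinf : PSL2.Pt R) PSL2.pt) := by
    constructor
    · rintro (_ | r) (_ | r') h
      · rfl
      · exact absurd h (PSL2.pinf_ne_pt _)
      · exact absurd h (PSL2.pt_ne_pinf _)
      · exact congrArg some (PSL2.pt_inj.mp h)
    · intro P
      rcases PSL2.pt_cases P with rfl | ⟨x, rfl⟩
      exacts [⟨none, rfl⟩, ⟨some x, rfl⟩]
  let φ : PSL2.Pt R ≃ α := (Equiv.ofBijective _ hibij).symm.trans (Equiv.ofBijective _ hjbij)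
  have hφi : φ PSL2.pinf = a := by
    have h : (Equiv.ofBijective _ hibij).symm PSL2.pinf = none :=
      (Equiv.ofBijective _ hibij).symm_apply_eq.mpr rfl
    exact (congrArg (Equiv.ofBijective _ hjbij) h).trans rfl
  have hφp : ∀ r, φ (PSL2.pt r) = (((ev r).toMul • o : SubMulAction.ofStabilizer G a) : α) := fun r => by
    have h : (Equiv.ofBijective _ hibij).symm (PSL2.pt r) = some r :=
      (Equiv.ofBijective _ hibij).symm_apply_eq.mpr rfl
    exact (congrArg (Equiv.ofBijective _ hjbij) h).trans rfl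
  have hb : φ (PSL2.pt (0 : R)) = b := by
    rw [hφp]
    change (((1 : T) • o : SubMulAction.ofStabilizer G a) : α) = b
    rw [one_smul]
  have hc : φ (PSL2.pt (1 : R)) = c := by
    rw [hφp]
    exact congrArg Subtype.val ht₁
  have hin : ∀ (g : G) (m : PSL2.PGL2 R), g • φ PSL2.pinf = φ (m • PSL2.pinf) →
      (∀ r, g • φ (PSL2.pt r) = φ (m • PSL2.pt r)) → ∀ P, g • φ P = φ (m • P) := fun g m h1 h2 P => by
    rcases PSL2.pt_cases P with rfl | ⟨r, rfl⟩
    exacts [h1, h2 r]
  have htrans : ∀ (t : T) (r₀ : R), ev r₀ = Additive.ofMul t →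
      ∀ P, ((t : stabilizer G a) : G) • φ P = φ (PSL2.aff 1 r₀ • P) := fun t r₀ hr₀ => by
    refine hin _ (PSL2.aff 1 r₀) ?_ fun r => ?_
    · rw [PSL2.aff_smul_pinf, hφi]
      exact (t : stabilizer G a).2
    · rw [PSL2.aff_smul_pt, hφp, hφp, Units.val_one, one_mul, add_comm r r₀]
      have h : ev (r₀ + r) = ev r₀ + ev r := rfl
      rw [h, hr₀, toMul_add, mul_smul]
      rfl
  have hmult : ∀ (k : K) (v : Rˣ), (v : R) = u k →
      ∀ P, ((k : stabilizer G a) : G) • φ P = φ (PSL2.aff v 0 • P) := fun k v hv => by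
    refine hin _ (PSL2.aff v 0) ?_ fun r => ?_
    · rw [PSL2.aff_smul_pinf, hφi]
      exact (k : stabilizer G a).2
    · rw [PSL2.aff_smul_pt, hφp, hφp, hv, add_zero]
      exact congrArg Subtype.val (hψ k (ev r).toMul).symm
  have hcard : Nat.card R + 1 = Fintype.card α := by
    rw [← hX, Nat.card_eq_of_bijective (fun r => (ev r).toMul • o)
      (hbij.comp (Additive.toMul.bijective.comp ⟨hevi, hevs⟩))]
  refine ⟨R, inferInstance, inferInstance, φ, hφi, hb, hc, hcard, fun r => ?_, fun v => ?_,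
    fun g hg => ?_⟩
  · exact ⟨_, htrans (ev r).toMul r rfl⟩
  · obtain ⟨k, hk⟩ := htr (ev (v : R)) (fun e => v.ne_zero (hev0 _ e))
    exact ⟨_, hKmem k, hmult k v (hevi hk).symm⟩
  · obtain ⟨t, ht⟩ := hbij.2 ((⟨g, hg⟩ : stabilizer G a) • o)
    obtain ⟨r₀, hr₀⟩ := hevs (Additive.ofMul t)
    have hk : (t : stabilizer G a)⁻¹ * ⟨g, hg⟩ ∈ K := by
      change ((t : stabilizer G a)⁻¹ * ⟨g, hg⟩) • o = o
      rw [mul_smul, inv_smul_eq_iff]
      exact ht.symm
    have hne : u ⟨_, hk⟩ ≠ 0 := left_ne_zero_of_mul_eq_one (hu _)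
    refine ⟨PSL2.aff 1 r₀ * PSL2.aff (Units.mk0 _ hne) 0, fun P => ?_⟩
    rw [mul_smul, ← htrans t r₀ hr₀, ← hmult ⟨_, hk⟩ (Units.mk0 _ hne) rfl, ← mul_smul]
    congr 1
    simp

/-- The identification with `PGL₂`. -/
theorem exists_mulEquiv_pgl (G : Subgroup (Equiv.Perm α))
    (h3 : IsMultiplyPretransitive G α 3)
    (hkey : ∀ g : G, ∀ x y z : α, x ≠ y → x ≠ z → y ≠ z → g • x = x → g • y = y → g • z = z → g = 1)
    {a b c : α} (hab : a ≠ b) (hac : a ≠ c) (hbc : b ≠ c) (s : G) (hsa : s • a = b) (hsb : s • b = a)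
    (hsc : s • c = c) (hinv : ∀ h ∈ stabilizer G a ⊓ stabilizer G b, s * h * s⁻¹ = h⁻¹) :
    ∃ (F : Type) (_ : Field F) (_ : Fintype F), Fintype.card F + 1 = Fintype.card α ∧
      Nonempty (G ≃* ProjGenLinGroup (Fin 2) F) := by
  classical
  have h3c : 3 ≤ Fintype.card α := by
    rw [← Finset.card_univ]
    exact (Finset.card_eq_three.mpr ⟨a, b, c, hab, hac, hbc, rfl⟩).ge.trans
      (Finset.card_le_card (Finset.subset_univ _))
  have h2G : IsMultiplyPretransitive G α 2 :=
    isMultiplyPretransitive_of_le (n := 3) (by omega) (by rw [Nat.card_eq_fintype_card]; omega)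
  obtain ⟨R, iR, iRf, φ, hφi, hb, hc, hcard, htr, hmu, hstab⟩ :=
    exists_coordinates G h3 hkey hab hac hbc fun g hg h hh => by
      have h1 := hinv _ (mul_mem hg hh)
      rw [show s * (g * h) * s⁻¹ = (s * g * s⁻¹) * (s * h * s⁻¹) by simp [mul_assoc], hinv _ hg,
        hinv _ hh, ← _root_.mul_inv_rev, _root_.inv_inj] at h1
      exact h1.symm
  let Φ : PSL2.PGL2 R →* Equiv.Perm α :=
    φ.permCongrHom.toMonoidHom.comp (MulAction.toPermHom (PSL2.PGL2 R) (PSL2.Pt R))
  have hΦ : ∀ m P, Φ m (φ P) = φ (m • P) := fun m P =>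
    show φ (m • φ.symm (φ P)) = φ (m • P) by rw [Equiv.symm_apply_apply]
  have h01 : PSL2.pt (0 : R) ≠ PSL2.pt 1 := fun h => zero_ne_one (PSL2.pt_inj.mp h)
  have hΦi : Function.Injective Φ := fun m m' h => by
    have he : ∀ P, m • P = m' • P := fun P => φ.injective (by rw [← hΦ, ← hΦ, h])
    exact PSL2.eq_of_agree_three (PSL2.pinf_ne_pt (0 : R)) (PSL2.pinf_ne_pt (1 : R)) h01
      (he _) (he _) (he _)
  have hin : ∀ (g : G) (m : PSL2.PGL2 R), (∀ P, g • φ P = φ (m • P)) →
      (g : Equiv.Perm α) ∈ Φ.range := fun g m h => by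
    refine ⟨m, Equiv.ext fun x => ?_⟩
    obtain ⟨P, rfl⟩ := φ.surjective x
    exact (hΦ m P).trans (h P).symm
  have hsmem : (s : Equiv.Perm α) ∈ Φ.range := by
    refine hin s (PSL2.mob 0 1 1 0 (by simp)) fun P => ?_
    rcases PSL2.pt_cases P with rfl | ⟨r, rfl⟩
    · rw [hφi, hsa, PSL2.mob_smul_pinf_eq_pt (y := (0 : R)).mpr (by simp), hb]
    · by_cases hr : r = 0
      · subst hr
        rw [PSL2.mob_smul_pt_eq_pinf.mpr (by simp), hφi, hb, hsb]
      · obtain ⟨k, hk, hkP⟩ := hmu (Units.mk0 r hr)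
        have hkP' : ∀ P, k⁻¹ • φ P = φ (PSL2.aff (Units.mk0 r hr)⁻¹ 0 • P) := fun P => by
          rw [inv_smul_eq_iff, hkP, ← mul_smul, PSL2.aff_mul_aff]
          simp [PSL2.aff_one_zero]
        have h1 := hkP (PSL2.pt 1)
        have h2 := hkP' (PSL2.pt 1)
        rw [PSL2.aff_smul_pt, hc] at h1 h2
        simp only [Units.val_mk0, mul_one, add_zero, Units.val_inv_eq_inv_val] at h1 h2
        rw [PSL2.mob_smul_pt_eq_pt (y := r⁻¹).mpr (by
          rw [zero_mul, zero_add, one_mul, add_zero, inv_mul_cancel₀ hr]), ← h1, ← h2]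
        nth_rewrite 1 [← hsc]
        rw [← hinv _ hk, hsc, mul_smul, mul_smul, show s⁻¹ • c = c from inv_smul_eq_iff.mpr hsc.symm]
  have hstab' : ∀ g : G, g • a = a → (g : Equiv.Perm α) ∈ Φ.range := fun g hg => by
    obtain ⟨m, hm⟩ := hstab g hg
    exact hin g m hm
  have hle : G ≤ Φ.range := fun g hg => by
    by_cases hga : (⟨g, hg⟩ : G) • a = a
    · exact hstab' _ hga
    obtain ⟨g₁, hg₁, hg₁b⟩ :=
      is_two_pretransitive_iff.mp h2G hab (Ne.symm hga)
    have h1 := hstab' ((g₁ * s)⁻¹ * ⟨g, hg⟩) (by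
      rw [mul_smul, inv_smul_eq_iff, mul_smul, hsa, hg₁b])
    have := mul_mem (mul_mem (hstab' g₁ hg₁) hsmem) h1
    simpa [mul_assoc] using this
  have hge : Φ.range ≤ G := by
    rintro _ ⟨m, rfl⟩
    let e := fun P => φ (m • P)
    have hi : ∀ P Q : PSL2.Pt R, P ≠ Q → e P ≠ e Q := fun P Q h h' =>
      h (smul_left_cancel m (φ.injective h'))
    obtain ⟨g, hg⟩ := exists_smul_three h3 hab hac hbc
      (hi _ _ (PSL2.pinf_ne_pt (0 : R))) (hi _ _ (PSL2.pinf_ne_pt (1 : R))) (hi _ _ h01)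
    obtain ⟨m', hm'⟩ := hle g.2
    have he : ∀ P, g • φ P = φ (m' • P) := fun P => by
      rw [← hΦ, hm']
      rfl
    have hmm : m' = m := PSL2.eq_of_agree_three (PSL2.pinf_ne_pt (0 : R)) (PSL2.pinf_ne_pt (1 : R))
      h01 (φ.injective (by rw [← he, hφi]; exact hg.1))
      (φ.injective (by rw [← he, hb]; exact hg.2.1)) (φ.injective (by rw [← he, hc]; exact hg.2.2))
    rw [← hmm, hm']
    exact g.2
  obtain ⟨F, iF, iFt, hcardF, ⟨e⟩⟩ := exists_small_field (F := R)
  exact ⟨F, iF, iFt, hcardF ▸ hcard, ⟨((MulEquiv.subgroupCongr (le_antisymm hle hge)).trans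
    (MonoidHom.ofInjective hΦi).symm).trans e⟩⟩

end Cfsg.Agent.Perm
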