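/-
The exchanging involution of a sharply 3-transitive group, acting on a two-point stabiliser.

* `key_of_sharp`
* `sq_eq_one_of_exchange`
* `exchConj` : conjugation by `s` as an involutive endomorphism of `G_a ⊓ G_b`
* `fix_of_exchConj_eq` : a fixed element moves `c` to a fixed point of `s`
-/
import Cfsg.Agent.Lib.Perm.SharpThreeField
import Mathlib.GroupTheory.FixedPointFree

namespace Cfsg.Agent.Perm

open MulAction

variable {α : Type*} [Fintype α] [DecidableEq α] {G : Subgroup (Equiv.Perm α)}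

omit [Fintype α] in
theorem key_of_sharp (hsharp : ∀ x : Fin 3 ↪ α, stabilizer G x = ⊥) (g : G) (x y z : α)
    (hxy : x ≠ y) (hxz : x ≠ z) (hyz : y ≠ z) (hx : g • x = x) (hy : g • y = y) (hz : g • z = z) :
    g = 1 := by
  refine eq_one_of_sharp_finset hsharp ({x, y, z} : Finset α) (by simp [hxy, hxz, hyz])
    fun w hw => ?_
  simp only [Finset.mem_insert, Finset.mem_singleton] at hw
  rcases hw with rfl | rfl | rfl <;> assumption

omit [Fintype α] in
theorem sq_eq_one_of_exchange (hsharp : ∀ x : Fin 3 ↪ α, stabilizer G x = ⊥) {a b c : α}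
    (hab : a ≠ b) (hac : a ≠ c) (hbc : b ≠ c) {s : G} (hsa : s • a = b) (hsb : s • b = a)
    (hsc : s • c = c) : s * s = 1 :=
  key_of_sharp hsharp _ a b c hab hac hbc (by rw [mul_smul, hsa, hsb]) (by rw [mul_smul, hsb, hsa])
    (by rw [mul_smul, hsc, hsc])

omit [Fintype α] [DecidableEq α] in
theorem exchange_mem {a b : α} {s : G} (hsa : s • a = b) (hsb : s • b = a)
    (g : ↥(stabilizer G a ⊓ stabilizer G b)) :
    s * (g : G) * s⁻¹ ∈ stabilizer G a ⊓ stabilizer G b := by
  have hsa' : s⁻¹ • a = b := inv_smul_eq_iff.mpr hsb.symm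
  have hsb' : s⁻¹ • b = a := inv_smul_eq_iff.mpr hsa.symm
  refine Subgroup.mem_inf.mpr ⟨?_, ?_⟩ <;> rw [mem_stabilizer_iff, mul_smul, mul_smul]
  · rw [hsa', show (g : G) • b = b from g.2.2, hsb]
  · rw [hsb', show (g : G) • a = a from g.2.1, hsa]

/-- Conjugation by `s` on the two-point stabiliser. -/
def exchConj {a b : α} {s : G} (hsa : s • a = b) (hsb : s • b = a) :
    ↥(stabilizer G a ⊓ stabilizer G b) →* ↥(stabilizer G a ⊓ stabilizer G b) where
  toFun g := ⟨s * (g : G) * s⁻¹, exchange_mem hsa hsb g⟩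
  map_one' := Subtype.ext (by simp)
  map_mul' g h := Subtype.ext (by simp [mul_assoc])

omit [Fintype α] [DecidableEq α] in
theorem exchConj_involutive {a b : α} {s : G} (hsa : s • a = b) (hsb : s • b = a) (hs2 : s * s = 1) :
    Function.Involutive (exchConj hsa hsb) := fun g => Subtype.ext (by
  change s * (s * (g : G) * s⁻¹) * s⁻¹ = g
  rw [show s⁻¹ = s from inv_eq_of_mul_eq_one_right hs2,
    show s * (s * (g : G) * s) * s = (s * s) * g * (s * s) by group, hs2, one_mul, mul_one])

omit [Fintype α] [DecidableEq α] in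
theorem fix_of_exchConj_eq {a b c : α} {s : G} (hsa : s • a = b) (hsb : s • b = a) (hsc : s • c = c)
    {g : ↥(stabilizer G a ⊓ stabilizer G b)} (hg : exchConj hsa hsb g = g) :
    s • (g : G) • c = (g : G) • c := by
  have h : s * (g : G) = (g : G) * s := mul_inv_eq_iff_eq_mul.mp (congrArg Subtype.val hg)
  rw [← mul_smul, h, mul_smul, hsc]

/-- The number of fixed points of an involution has the parity of the degree. -/
theorem even_support_of_sq_eq_one {t : Equiv.Perm α} (ht : t * t = 1) : Even t.support.card := by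
  rw [even_iff_two_dvd, ← Equiv.Perm.sum_cycleType]
  refine Multiset.dvd_sum fun c hc => ?_
  have h1 := (Equiv.Perm.dvd_of_mem_cycleType hc).trans
    (orderOf_dvd_of_pow_eq_one (show t ^ 2 = 1 by rw [pow_two, ht]))
  rw [Nat.le_antisymm (Nat.le_of_dvd two_pos h1) (Equiv.Perm.two_le_of_mem_cycleType hc)]

end Cfsg.Agent.Perm
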