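/-
The centraliser algebra of a permutation representation and its central idempotents.

* `cAlg G Ω` : the equivariant endomorphisms of `Ω → ℂ`; `finrank_cAlg` (number of orbitals)
* `idem χ` : the isotypic projection; `idem_mul`, `sum_idem`, `trace_idem`, `idem_transpose`
* `card_orbitals_eq_sum` : the number of orbitals is the sum of the squared multiplicities
* `span_idem_eq` : if multiplicity free the idempotents span; `mult_le_one_of_comm`
* `trace_mul_idem` : `trace (A * idem χ) = χ 1 * (algebraic integer)` for integral `A` in the algebra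
-/
import Cfsg.Agent.Lib.Char.Perm
import Cfsg.Agent.Lib.Char.Integral
import Mathlib.LinearAlgebra.Eigenspace.Triangularizable
import Mathlib.LinearAlgebra.Eigenspace.Charpoly
import Mathlib.LinearAlgebra.Trace

namespace Cfsg.Agent.Perm.Orbital

open Cfsg Module
open scoped ComplexConjugate

variable {G : Type*} [Group G] {Ω : Type*} [MulAction G Ω]

/-- The permutation character. -/
noncomputable def pi (G Ω : Type*) [Group G] [MulAction G Ω] : G → ℂ :=
  fun g => (Nat.card (MulAction.fixedBy Ω g) : ℂ)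

theorem permRep_eq : Cfsg.permRep ℂ G Ω = Char.permRep G Ω := by
  ext g v x
  rfl

theorem pi_eq_character [Finite Ω] : pi G Ω = (Cfsg.permRep ℂ G Ω).character := by
  funext g
  rw [permRep_eq, Char.permRep_character]
  rfl

theorem isCharacter_pi [Finite Ω] : IsCharacter G (pi G Ω) := Char.isCharacter_fixedPoints Ω

theorem conj_pi : (fun g => conj (pi G Ω g)) = pi G Ω := funext fun g => Complex.conj_natCast _

/-- The equivariant endomorphisms of `Ω → ℂ`. -/
def cAlg (G Ω : Type*) [Group G] [MulAction G Ω] : Submodule ℂ (Module.End ℂ (Ω → ℂ)) where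
  carrier := {T | ∀ g, T * Cfsg.permRep ℂ G Ω g = Cfsg.permRep ℂ G Ω g * T}
  add_mem' ha hb g := by simp [add_mul, mul_add, ha g, hb g]
  zero_mem' g := by simp
  smul_mem' c _ hT g := by simp [hT g]

theorem mem_invariants_iff {S : (Ω → ℂ) →ₗ[ℂ] (Ω → ℂ)} :
    S ∈ ((Cfsg.permRep ℂ G Ω).linHom (Cfsg.permRep ℂ G Ω)).invariants ↔ S ∈ cAlg G Ω := by
  rw [Representation.mem_invariants]
  constructor
  · intro h g
    conv_lhs => rw [← h g]
    refine LinearMap.ext fun v => ?_
    simp only [Representation.linHom_apply, Module.End.mul_apply, LinearMap.comp_apply]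
    rw [← Module.End.mul_apply (Cfsg.permRep ℂ G Ω g⁻¹), ← map_mul, inv_mul_cancel, map_one,
      Module.End.one_apply]
  · intro h g
    refine LinearMap.ext fun v => ?_
    simp only [Representation.linHom_apply, LinearMap.comp_apply]
    have := LinearMap.congr_fun (h g) ((Cfsg.permRep ℂ G Ω g⁻¹) v)
    simp only [Module.End.mul_apply] at this
    rw [← this, ← Module.End.mul_apply (Cfsg.permRep ℂ G Ω g), ← map_mul, mul_inv_cancel, map_one,
      Module.End.one_apply]

theorem mul_mem_cAlg {S T : Module.End ℂ (Ω → ℂ)} (hS : S ∈ cAlg G Ω) (hT : T ∈ cAlg G Ω) :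
    S * T ∈ cAlg G Ω := fun g => by
  rw [mul_assoc, hT g, ← mul_assoc, hS g, mul_assoc]

variable [Fintype Ω] [DecidableEq Ω]

theorem permRep_single (g : G) (y : Ω) (c : ℂ) :
    Cfsg.permRep ℂ G Ω g (Pi.single y c) = Pi.single (g • y) c := by
  funext x
  change (Pi.single y c : Ω → ℂ) (g⁻¹ • x) = _
  simp [Pi.single_apply, inv_smul_eq_iff]

/-- The kernel of an endomorphism. -/
noncomputable abbrev mat (T : Module.End ℂ (Ω → ℂ)) : Matrix Ω Ω ℂ := LinearMap.toMatrix' T

theorem mat_apply (T : Module.End ℂ (Ω → ℂ)) (x y : Ω) : mat T x y = T (Pi.single y 1) x := by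
  simp [mat, LinearMap.toMatrix'_apply]

theorem mem_cAlg_iff {T : Module.End ℂ (Ω → ℂ)} :
    T ∈ cAlg G Ω ↔ ∀ (g : G) x y, mat T (g • x) (g • y) = mat T x y := by
  simp only [mat_apply]
  constructor
  · intro h g x y
    have := congrFun (LinearMap.congr_fun (h g) (Pi.single y 1)) (g • x)
    simp only [Module.End.mul_apply, permRep_single] at this
    rw [this]
    change T (Pi.single y 1) (g⁻¹ • g • x) = _
    rw [inv_smul_smul]
  · intro h g
    apply LinearMap.pi_ext
    intro y c
    funext x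
    simp only [Module.End.mul_apply, permRep_single]
    change _ = T (Pi.single y c) (g⁻¹ • x)
    have hc : ∀ z, (Pi.single z c : Ω → ℂ) = c • Pi.single z 1 := fun z => by
      rw [← Pi.single_smul, smul_eq_mul, mul_one]
    rw [hc, hc, map_smul, map_smul, Pi.smul_apply, Pi.smul_apply]
    conv_lhs => rw [← smul_inv_smul g x, h]

/-- The algebra as functions on orbitals. -/
noncomputable def cAlgEquiv :
    cAlg G Ω ≃ₗ[ℂ] (MulAction.orbitRel.Quotient G (Ω × Ω) → ℂ) where
  toFun T := Quotient.lift (fun p : Ω × Ω => mat (T : Module.End ℂ (Ω → ℂ)) p.1 p.2)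
    (fun p q h => by
      obtain ⟨g, rfl⟩ := MulAction.orbitRel_apply.mp h
      exact mem_cAlg_iff.mp T.2 g q.1 q.2)
  invFun F := ⟨Matrix.toLin' (Matrix.of fun x y => F ⟦(x, y)⟧), mem_cAlg_iff.mpr fun g x y => by
    simp only [mat, LinearMap.toMatrix'_toLin', Matrix.of_apply]
    exact congrArg F (Quotient.sound (MulAction.orbitRel_apply.mpr ⟨g, rfl⟩))⟩
  map_add' S T := by
    funext q
    induction q using Quotient.inductionOn with
    | h p =>
      exact congrArg (fun M : Matrix Ω Ω ℂ => M p.1 p.2)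
        (map_add LinearMap.toMatrix' (S : Module.End ℂ (Ω → ℂ)) T)
  map_smul' c T := by
    funext q
    induction q using Quotient.inductionOn with
    | h p =>
      exact congrArg (fun M : Matrix Ω Ω ℂ => M p.1 p.2)
        (map_smul LinearMap.toMatrix' c (T : Module.End ℂ (Ω → ℂ)))
  left_inv T := by
    apply Subtype.ext
    apply LinearMap.toMatrix'.injective
    ext x y
    simp [mat]
  right_inv F := by
    funext q
    induction q using Quotient.inductionOn with
    | h p => simp [mat]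

theorem finrank_cAlg :
    finrank ℂ (cAlg G Ω) = Nat.card (MulAction.orbitRel.Quotient G (Ω × Ω)) := by
  classical
  have := Fintype.ofFinite (MulAction.orbitRel.Quotient G (Ω × Ω))
  rw [(cAlgEquiv (G := G) (Ω := Ω)).finrank_eq, finrank_pi, Nat.card_eq_fintype_card]

theorem mat_mul (S T : Module.End ℂ (Ω → ℂ)) : mat (S * T) = mat S * mat T :=
  LinearMap.toMatrix'_mul S T

/-- If all orbitals are self-paired the algebra is commutative. -/
theorem comm_of_selfPaired (h : ∀ a b : Ω, ∃ g : G, g • a = b ∧ g • b = a)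
    {S T : Module.End ℂ (Ω → ℂ)} (hS : S ∈ cAlg G Ω) (hT : T ∈ cAlg G Ω) : S * T = T * S := by
  have hsym : ∀ R ∈ cAlg G Ω, (mat R).transpose = mat R := fun R hR => by
    ext x y
    obtain ⟨g, h1, h2⟩ := h x y
    have := mem_cAlg_iff.mp hR g x y
    rwa [h1, h2] at this
  apply LinearMap.toMatrix'.injective
  change mat (S * T) = mat (T * S)
  calc mat (S * T) = (mat (S * T)).transpose := (hsym _ (mul_mem_cAlg hS hT)).symm
    _ = (mat T).transpose * (mat S).transpose := by rw [mat_mul, Matrix.transpose_mul]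
    _ = mat (T * S) := by rw [hsym S hS, hsym T hT, mat_mul]

variable [Fintype G]

theorem mat_groupSumOp (f : G → ℂ) (x y : Ω) :
    mat (Char.groupSumOp (Cfsg.permRep ℂ G Ω) f) x y = ∑ g, if g • y = x then f g else 0 := by
  rw [mat_apply, Char.groupSumOp_apply, Finset.sum_apply]
  refine Finset.sum_congr rfl fun g _ => ?_
  rw [Pi.smul_apply, permRep_single, Pi.single_apply, smul_eq_mul, mul_ite, mul_one, mul_zero]
  simp only [eq_comm]

/-- Convolution. -/
noncomputable def conv (f f' : G → ℂ) : G → ℂ := fun x => ∑ g, f g * f' (g⁻¹ * x)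

theorem groupSumOp_conv {V : Type*} [AddCommGroup V] [Module ℂ V] (ρ : Representation ℂ G V)
    (f f' : G → ℂ) :
    Char.groupSumOp ρ f * Char.groupSumOp ρ f' = Char.groupSumOp ρ (conv f f') := by
  simp only [Char.groupSumOp, conv, Finset.sum_mul, Finset.mul_sum, Finset.sum_smul]
  conv_lhs => rw [Finset.sum_comm]
  conv_rhs => rw [Finset.sum_comm]
  refine Finset.sum_congr rfl fun g _ => ?_
  refine Fintype.sum_equiv (Equiv.mulLeft g) _ _ fun h => ?_
  simp [smul_smul, map_mul, mul_comm]

theorem isClassFunction_conv {f f' : G → ℂ} (hf : IsClassFunction G f) (hf' : IsClassFunction G f') :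
    IsClassFunction G (conv f f') := by
  intro x h
  refine Fintype.sum_equiv (MulAut.conj h⁻¹).toEquiv _ _ fun g => ?_
  simp only [MulEquiv.toEquiv_eq_coe, MulEquiv.coe_toEquiv, MulAut.conj_apply, inv_inv]
  have h1 := hf g h⁻¹
  rw [inv_inv] at h1
  have h2 : f' ((h⁻¹ * g * h)⁻¹ * x) = f' (g⁻¹ * (h * x * h⁻¹)) := by
    rw [← hf' _ h]
    congr 1
    group
  rw [h1, h2]

/-- Coefficients of the isotypic projection. -/
noncomputable def coef (χ : G → ℂ) : G → ℂ := fun g => χ 1 / (Nat.card G : ℂ) * conj (χ g)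

theorem isClassFunction_coef {χ : G → ℂ} (hχ : IsIrrCharacter G χ) :
    IsClassFunction G (coef χ) := fun g h => by
  simp only [coef, Char.IsIrrCharacter.isClassFunction hχ g h]

theorem sum_coef_mul {χ : G → ℂ} (hχ : IsIrrCharacter G χ) (φ : G → ℂ) :
    ∑ g, coef χ g * φ g = χ 1 * classInner φ χ := by
  rw [classInner, Finset.mul_sum, Finset.mul_sum]
  refine Finset.sum_congr rfl fun g _ => ?_
  simp only [coef]
  ring

theorem sum_coef_mul_character {χ : G → ℂ} (hχ : IsIrrCharacter G χ) {V : Type*} [AddCommGroup V]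
    [Module ℂ V] [FiniteDimensional ℂ V] (ρ : Representation ℂ G V) :
    LinearMap.trace ℂ V (Char.groupSumOp ρ (coef χ)) = χ 1 * classInner ρ.character χ := by
  rw [← sum_coef_mul hχ]
  simp [Char.groupSumOp, map_sum, Representation.character]

theorem conv_coef {χ ψ : G → ℂ} (hχ : IsIrrCharacter G χ) (hψ : IsIrrCharacter G ψ) :
    conv (coef χ) (coef ψ) = if χ = ψ then coef χ else 0 := by
  classical
  refine Char.classFunction_ext
    (isClassFunction_conv (isClassFunction_coef hχ) (isClassFunction_coef hψ))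
    (by split_ifs; exacts [isClassFunction_coef hχ, fun _ _ => rfl]) fun φ => ?_
  obtain ⟨n, σ, hσ, hσφ⟩ := Char.IsIrrCharacter.conj φ.2
  have := Char.nontrivial_of_isIrreducible σ
  have hd : (finrank ℂ (Fin n → ℂ) : ℂ) ≠ 0 := Nat.cast_ne_zero.2 finrank_pos.ne'
  have hval : ∀ f : G → ℂ, ∑ g, f g * σ.character g = (Nat.card G : ℂ) * classInner f φ.1 := by
    intro f
    rw [Char.card_mul_classInner, hσφ]
  have hop : ∀ f : G → ℂ, IsClassFunction G f → Char.groupSumOp σ f =
      ((Nat.card G : ℂ) * classInner f φ.1 / (finrank ℂ (Fin n → ℂ) : ℂ)) • LinearMap.id :=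
    fun f hf => by rw [Char.groupSumOp_eq_smul σ hf, hval]
  have hc : ∀ {ξ : G → ℂ}, IsIrrCharacter G ξ →
      (Nat.card G : ℂ) * classInner (coef ξ) φ.1 =
        if (fun g => conj (ξ g)) = φ.1 then (finrank ℂ (Fin n → ℂ) : ℂ) else 0 := by
    intro ξ hξ
    have : coef ξ = (ξ 1 / (Nat.card G : ℂ)) • fun g => conj (ξ g) := rfl
    rw [this, Char.classInner_smul_left, Char.classInner_irr (Char.IsIrrCharacter.conj hξ) φ.2]
    split_ifs with h
    · rw [mul_one, mul_div_cancel₀ _ (Nat.cast_ne_zero.2 Nat.card_pos.ne'),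
        ← Representation.char_one σ, hσφ, ← h]
      simp only [Complex.conj_conj]
    · rw [mul_zero, mul_zero]
  have h1 := congrArg (LinearMap.trace ℂ (Fin n → ℂ))
    (groupSumOp_conv σ (coef χ) (coef ψ))
  rw [hop _ (isClassFunction_coef hχ), hop _ (isClassFunction_coef hψ),
    hop _ (isClassFunction_conv (isClassFunction_coef hχ) (isClassFunction_coef hψ)),
    hc hχ, hc hψ] at h1
  simp only [smul_mul_smul_comm, Module.End.mul_eq_comp, LinearMap.id_comp, map_smul,
    LinearMap.trace_id, smul_eq_mul] at h1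
  rw [div_mul_cancel₀ _ hd] at h1
  have hG : (Nat.card G : ℂ) ≠ 0 := Nat.cast_ne_zero.2 Nat.card_pos.ne'
  apply mul_left_cancel₀ hG
  rw [← h1]
  by_cases hχψ : χ = ψ
  · subst hχψ
    rw [if_pos rfl, hc hχ]
    split_ifs <;> field_simp <;> ring
  · rw [if_neg hχψ, Char.classInner_zero_left, mul_zero]
    by_cases h : (fun g => conj (χ g)) = φ.1
    · rw [if_pos h, if_neg]
      · simp
      · intro h'
        apply hχψ
        funext g
        exact (starRingEnd ℂ).injective (congrFun (h.trans h'.symm) g)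
    · rw [if_neg h]
      simp

/-- The isotypic projection. -/
noncomputable def idem (χ : G → ℂ) : Module.End ℂ (Ω → ℂ) :=
  Char.groupSumOp (Cfsg.permRep ℂ G Ω) (coef χ)

theorem idem_mem {χ : G → ℂ} (hχ : IsIrrCharacter G χ) : idem (Ω := Ω) χ ∈ cAlg G Ω :=
  fun g => Char.groupSumOp_comm _ (isClassFunction_coef hχ) g

theorem idem_mul {χ ψ : G → ℂ} (hχ : IsIrrCharacter G χ) (hψ : IsIrrCharacter G ψ) :
    idem (Ω := Ω) χ * idem ψ = if χ = ψ then idem χ else 0 := by
  rw [idem, idem, groupSumOp_conv, conv_coef hχ hψ]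
  split_ifs
  · rfl
  · simp [Char.groupSumOp]

theorem trace_idem {χ : G → ℂ} (hχ : IsIrrCharacter G χ) :
    LinearMap.trace ℂ (Ω → ℂ) (idem χ) = χ 1 * classInner (pi G Ω) χ := by
  rw [idem, sum_coef_mul_character hχ, pi_eq_character]

theorem idem_eq_zero_iff {χ : G → ℂ} (hχ : IsIrrCharacter G χ) :
    idem (Ω := Ω) χ = 0 ↔ classInner (pi G Ω) χ = 0 := by
  constructor
  · intro h
    have := trace_idem (Ω := Ω) hχ
    rw [h, map_zero, eq_comm, mul_eq_zero] at this
    exact this.resolve_left (Char.IsIrrCharacter.apply_one_ne_zero hχ)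
  · intro h
    have hidem : IsIdempotentElem (idem (Ω := Ω) χ) := (idem_mul hχ hχ).trans (if_pos rfl)
    obtain ⟨hp⟩ : Nonempty (LinearMap.IsProj (LinearMap.range (idem (Ω := Ω) χ)) (idem χ)) :=
      ⟨LinearMap.IsIdempotentElem.isProj_range _ hidem⟩
    have ht := hp.trace
    rw [trace_idem hχ, h, mul_zero, eq_comm, Nat.cast_eq_zero, Submodule.finrank_eq_zero] at ht
    exact LinearMap.range_eq_bot.mp ht

theorem idem_transpose {χ : G → ℂ} (hχ : IsIrrCharacter G χ) :
    (mat (idem (Ω := Ω) χ)).transpose = mat (idem fun g => conj (χ g)) := by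
  ext x y
  rw [Matrix.transpose_apply, idem, idem, mat_groupSumOp, mat_groupSumOp]
  refine Fintype.sum_equiv (Equiv.inv G) _ _ fun g => ?_
  simp only [Equiv.inv_apply, coef, Complex.conj_conj,
    Char.IsCharacter.conj_apply_one (Char.IsIrrCharacter.isCharacter hχ)]
  rw [Char.IsCharacter.apply_inv (Char.IsIrrCharacter.isCharacter hχ)]
  exact if_congr (by rw [inv_smul_eq_iff, eq_comm]) rfl rfl

theorem sum_idem [Fintype (IrrCharacter G)] :
    ∑ χ : IrrCharacter G, idem (Ω := Ω) (χ : G → ℂ) = 1 := by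
  classical
  have h : ∀ g : G, ∑ χ : IrrCharacter G, coef (χ : G → ℂ) g = if g = 1 then 1 else 0 := by
    intro g
    have h := congrArg conj (Char.sum_degree_mul_apply g)
    rw [map_sum] at h
    simp only [map_mul, Char.IsCharacter.conj_apply_one
      (Char.IsIrrCharacter.isCharacter (Subtype.prop (_ : IrrCharacter G)))] at h
    have hG : (Nat.card G : ℂ) ≠ 0 := Nat.cast_ne_zero.2 Nat.card_pos.ne'
    simp only [coef, div_mul_eq_mul_div, ← Finset.sum_div, h]
    split_ifs
    · rw [Complex.conj_natCast, div_self hG]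
    · rw [map_zero, zero_div]
  simp only [idem, Char.groupSumOp]
  rw [Finset.sum_comm]
  simp only [← Finset.sum_smul, h, ite_smul, one_smul, zero_smul, Finset.sum_ite_eq',
    Finset.mem_univ, if_true, map_one]

/-- The number of orbitals. -/
theorem card_orbitals_eq_classInner :
    (Nat.card (MulAction.orbitRel.Quotient G (Ω × Ω)) : ℂ) = classInner (pi G Ω) (pi G Ω) := by
  rw [← Char.classInner_fixedPoints_one, classInner, classInner]
  congr 1
  refine Finset.sum_congr rfl fun g _ => ?_
  rw [Pi.one_apply, map_one, mul_one, pi, Complex.conj_natCast, ← Nat.cast_mul, ← Nat.card_prod]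
  congr 1
  exact Nat.card_congr
    { toFun := fun p => (⟨p.1.1, congrArg Prod.fst p.2⟩, ⟨p.1.2, congrArg Prod.snd p.2⟩)
      invFun := fun p => ⟨(p.1.1, p.2.1), Prod.ext p.1.2 p.2.2⟩
      left_inv := fun _ => rfl
      right_inv := fun _ => rfl }

/-- The multiplicity of an irreducible character in the permutation character. -/
noncomputable def mult (G Ω : Type*) [Group G] [Fintype G] [MulAction G Ω] (χ : G → ℂ) : ℕ :=
  ⌊(classInner (pi G Ω) χ).re⌋₊

omit [DecidableEq Ω] in
theorem classInner_pi {χ : G → ℂ} (hχ : IsCharacter G χ) :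
    classInner (pi G Ω) χ = mult G Ω χ := by
  obtain ⟨m, hm⟩ := Char.IsCharacter.classInner_nat (isCharacter_pi (G := G) (Ω := Ω)) hχ
  rw [mult, hm, Complex.natCast_re, Nat.floor_natCast]

theorem card_orbitals_eq_sum [Fintype (IrrCharacter G)] :
    Nat.card (MulAction.orbitRel.Quotient G (Ω × Ω)) =
      ∑ χ : IrrCharacter G, mult G Ω (χ : G → ℂ) ^ 2 := by
  have h := card_orbitals_eq_classInner (G := G) (Ω := Ω)
  rw [Char.classInner_eq_sum (Char.IsCharacter.isClassFunction isCharacter_pi)] at h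
  have h' : (Nat.card (MulAction.orbitRel.Quotient G (Ω × Ω)) : ℂ) =
      ((∑ χ : IrrCharacter G, mult G Ω (χ : G → ℂ) ^ 2 : ℕ) : ℂ) := by
    rw [h, Nat.cast_sum]
    refine Finset.sum_congr rfl fun χ _ => ?_
    rw [classInner_pi (Char.IsIrrCharacter.isCharacter χ.2), Complex.conj_natCast, pow_two,
      Nat.cast_mul]
  exact_mod_cast h'

omit [DecidableEq Ω] in
theorem sum_mult_degree [Fintype (IrrCharacter G)] :
    (Fintype.card Ω : ℂ) = ∑ χ : IrrCharacter G, (mult G Ω (χ : G → ℂ) : ℂ) * (χ : G → ℂ) 1 := by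
  have h := congrFun (Char.classFunction_eq_sum
    (Char.IsCharacter.isClassFunction (isCharacter_pi (G := G) (Ω := Ω)))) 1
  rw [Finset.sum_apply] at h
  simp only [Pi.smul_apply, smul_eq_mul,
    classInner_pi (Char.IsIrrCharacter.isCharacter (Subtype.prop (_ : IrrCharacter G)))] at h
  rw [← h]
  have : MulAction.fixedBy Ω (1 : G) = Set.univ := Set.eq_univ_of_forall fun x => one_smul G x
  rw [pi, this, Nat.card_univ, Nat.card_eq_fintype_card]

/-- A multiplicity free permutation character makes the idempotents span. -/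
theorem span_idem_eq (hm : ∀ χ : IrrCharacter G, mult G Ω (χ : G → ℂ) ≤ 1) :
    Submodule.span ℂ (Set.range fun χ : IrrCharacter G => idem (Ω := Ω) (χ : G → ℂ)) =
      cAlg G Ω := by
  classical
  have := Fintype.ofFinite (IrrCharacter G)
  let C := {χ : IrrCharacter G // mult G Ω (χ : G → ℂ) ≠ 0}
  have hli : LinearIndependent ℂ fun χ : C => idem (Ω := Ω) ((χ : IrrCharacter G) : G → ℂ) := by
    rw [Fintype.linearIndependent_iff]
    intro c hc i
    have h := congrArg (fun T => T * idem (Ω := Ω) ((i : IrrCharacter G) : G → ℂ)) hc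
    simp only [Finset.sum_mul, smul_mul_assoc, zero_mul,
      idem_mul (Subtype.prop (_ : IrrCharacter G)) (i : IrrCharacter G).2] at h
    rw [Finset.sum_eq_single i (fun j _ hj => by
        rw [if_neg (fun e => hj (Subtype.ext (Subtype.ext e))), smul_zero])
      (fun h => absurd (Finset.mem_univ i) h), if_pos rfl, smul_eq_zero] at h
    refine h.resolve_right fun h0 => i.2 ?_
    have := (idem_eq_zero_iff (i : IrrCharacter G).2).mp h0
    rwa [classInner_pi (Char.IsIrrCharacter.isCharacter (i : IrrCharacter G).2),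
      Nat.cast_eq_zero] at this
  apply Submodule.eq_of_le_of_finrank_le
  · rw [Submodule.span_le]
    rintro _ ⟨χ, rfl⟩
    exact idem_mem χ.2
  · calc finrank ℂ (cAlg G Ω) = ∑ χ : IrrCharacter G, mult G Ω (χ : G → ℂ) ^ 2 := by
          rw [finrank_cAlg, card_orbitals_eq_sum]
      _ = Fintype.card C := by
          rw [Fintype.card_subtype, Finset.card_filter]
          refine Finset.sum_congr rfl fun χ _ => ?_
          have := hm χ
          interval_cases mult G Ω (χ : G → ℂ) <;> simp
      _ = finrank ℂ (Submodule.span ℂ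
            (Set.range fun χ : C => idem (Ω := Ω) ((χ : IrrCharacter G) : G → ℂ))) :=
          (finrank_span_eq_card hli).symm
      _ ≤ _ := Submodule.finrank_mono (Submodule.span_mono (by
          rintro _ ⟨χ, rfl⟩
          exact ⟨(χ : IrrCharacter G), rfl⟩))

theorem comm_of_mult_le_one (hm : ∀ χ : IrrCharacter G, mult G Ω (χ : G → ℂ) ≤ 1)
    {S T : Module.End ℂ (Ω → ℂ)} (hS : S ∈ cAlg G Ω) (hT : T ∈ cAlg G Ω) : S * T = T * S := by
  classical
  rw [← span_idem_eq hm] at hS hT
  refine Submodule.span_induction ?_ (by simp) (fun a b _ _ ha hb => by rw [add_mul, mul_add, ha, hb])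
    (fun c a _ ha => by rw [smul_mul_assoc, mul_smul_comm, ha]) hS
  rintro _ ⟨χ, rfl⟩
  refine Submodule.span_induction ?_ (by simp) (fun a b _ _ ha hb => by rw [add_mul, mul_add, ha, hb])
    (fun c a _ ha => by rw [smul_mul_assoc, mul_smul_comm, ha]) hT
  rintro _ ⟨ψ, rfl⟩
  rw [idem_mul χ.2 ψ.2, idem_mul ψ.2 χ.2]
  by_cases h : (χ : G → ℂ) = (ψ : G → ℂ)
  · rw [if_pos h, if_pos h.symm, h]
  · rw [if_neg h, if_neg (Ne.symm h)]

/-- A commutative algebra forces multiplicity one. -/
theorem mult_le_one_of_comm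
    (hcomm : ∀ S ∈ cAlg G Ω, ∀ T ∈ cAlg G Ω, S * T = T * S) {χ : G → ℂ}
    (hχ : IsIrrCharacter G χ) : mult G Ω χ ≤ 1 := by
  classical
  by_contra hlt
  obtain ⟨n, ρ, hρ, hχρ⟩ := hχ
  set P := Cfsg.permRep ℂ G Ω
  have hrank : finrank ℂ (Representation.IntertwiningMap ρ P) = mult G Ω χ := by
    have h := Char.classInner_character_eq_finrank ρ P
    rw [← pi_eq_character, hχρ, classInner_pi ⟨n, ρ, hχρ⟩, Nat.cast_inj] at h
    exact h.symm
  have := Char.nontrivial_of_isIrreducible ρ
  -- a non-zero equivariant map is split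
  have hsplit : ∀ w : (Fin n → ℂ) →ₗ[ℂ] (Ω → ℂ), (∀ g, w ∘ₗ ρ g = P g ∘ₗ w) → w ≠ 0 →
      ∃ a : (Ω → ℂ) →ₗ[ℂ] (Fin n → ℂ), (∀ g, a ∘ₗ P g = ρ g ∘ₗ a) ∧ a ∘ₗ w = LinearMap.id := by
    intro w hw hw0
    have hker : LinearMap.ker w = ⊥ := by
      let U : Subrepresentation ρ :=
        { toSubmodule := LinearMap.ker w
          apply_mem_toSubmodule := fun g v hv => by
            rw [LinearMap.mem_ker] at hv ⊢
            have := LinearMap.congr_fun (hw g) v
            simp only [LinearMap.comp_apply] at this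
            rw [this, hv, map_zero] }
      rcases IsSimpleOrder.eq_bot_or_eq_top U with h | h
      · exact congrArg Subrepresentation.toSubmodule h
      · exact absurd (LinearMap.ker_eq_top.mp (congrArg Subrepresentation.toSubmodule h)) hw0
    obtain ⟨a₀, ha₀⟩ := LinearMap.exists_leftInverse_of_injective w hker
    refine ⟨(Nat.card G : ℂ)⁻¹ • ∑ g : G, ρ g ∘ₗ a₀ ∘ₗ P g⁻¹, fun h => ?_, ?_⟩
    · refine LinearMap.ext fun v => ?_
      simp only [LinearMap.comp_apply, LinearMap.smul_apply, LinearMap.sum_apply, map_smul, map_sum]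
      congr 1
      refine Fintype.sum_equiv (Equiv.mulLeft h⁻¹) _ _ fun g => ?_
      rw [Equiv.coe_mulLeft, ← Module.End.mul_apply (ρ h), ← map_mul, mul_inv_cancel_left,
        mul_inv_rev, inv_inv, ← Module.End.mul_apply (P g⁻¹), ← map_mul]
    · refine LinearMap.ext fun v => ?_
      simp only [LinearMap.comp_apply, LinearMap.smul_apply, LinearMap.sum_apply, LinearMap.id_apply]
      have : ∀ g : G, ρ g (a₀ (P g⁻¹ (w v))) = v := fun g => by
        have h1 := LinearMap.congr_fun (hw g⁻¹) v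
        simp only [LinearMap.comp_apply] at h1
        rw [← h1]
        have h2 := LinearMap.congr_fun ha₀ (ρ g⁻¹ v)
        simp only [LinearMap.comp_apply, LinearMap.id_apply] at h2
        rw [h2, ← Module.End.mul_apply, ← map_mul, mul_inv_cancel, map_one, Module.End.one_apply]
      rw [Finset.sum_congr rfl fun g _ => this g, Finset.sum_const, Finset.card_univ,
        ← Nat.card_eq_fintype_card, ← Nat.cast_smul_eq_nsmul ℂ, smul_smul,
        inv_mul_cancel₀ (Nat.cast_ne_zero.2 Nat.card_pos.ne'), one_smul]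
  -- two independent maps give non-commuting endomorphisms
  have : Nontrivial (Representation.IntertwiningMap ρ P) :=
    Module.nontrivial_of_finrank_pos (R := ℂ) (by omega)
  obtain ⟨u, hu⟩ := exists_ne (0 : Representation.IntertwiningMap ρ P)
  obtain ⟨a, ha, hau⟩ := hsplit u.toLinearMap (fun g => u.isIntertwining' g)
    (fun h => hu (Representation.IntertwiningMap.ext h))
  obtain ⟨v, hv⟩ : ∃ v : Representation.IntertwiningMap ρ P, ∀ c : ℂ, c • u ≠ v := by
    by_contra hall
    push Not at hall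
    have := finrank_le_one u hall
    omega
  -- subtract the component of `v` along `u`
  have hav : ∀ g, (a ∘ₗ v.toLinearMap) ∘ₗ ρ g = ρ g ∘ₗ (a ∘ₗ v.toLinearMap) := fun g => by
    rw [LinearMap.comp_assoc, v.isIntertwining' g, ← LinearMap.comp_assoc, ha g,
      LinearMap.comp_assoc]
  obtain ⟨c, hc⟩ :=
    (Representation.IsIrreducible.algebraMap_intertwiningMap_bijective_of_isAlgClosed
      (ρ := ρ)).2 ⟨a ∘ₗ v.toLinearMap, hav⟩
  have hc' : a ∘ₗ v.toLinearMap = c • LinearMap.id := by
    have := congrArg Representation.IntertwiningMap.toLinearMap hc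
    simp only [Algebra.algebraMap_eq_smul_one] at this
    exact this.symm
  let w : (Fin n → ℂ) →ₗ[ℂ] (Ω → ℂ) := v.toLinearMap - c • u.toLinearMap
  have hw : ∀ g, w ∘ₗ ρ g = P g ∘ₗ w := fun g => by
    simp only [w, LinearMap.sub_comp, LinearMap.comp_sub, LinearMap.smul_comp, LinearMap.comp_smul,
      v.isIntertwining' g, u.isIntertwining' g]
  have haw : a ∘ₗ w = 0 := by
    simp only [w, LinearMap.comp_sub, LinearMap.comp_smul, hc', hau, sub_self]
  have hw0 : w ≠ 0 := fun h => hv c (Representation.IntertwiningMap.ext <| LinearMap.ext fun x => by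
    have := LinearMap.congr_fun h x
    simp only [w, LinearMap.sub_apply, LinearMap.smul_apply, LinearMap.zero_apply, sub_eq_zero] at this
    exact this.symm)
  have hmem : ∀ z : (Fin n → ℂ) →ₗ[ℂ] (Ω → ℂ), (∀ g, z ∘ₗ ρ g = P g ∘ₗ z) →
      z ∘ₗ a ∈ cAlg G Ω := fun z hz g => by
    change (z ∘ₗ a) ∘ₗ P g = P g ∘ₗ z ∘ₗ a
    rw [LinearMap.comp_assoc, ha g, ← LinearMap.comp_assoc, hz g, LinearMap.comp_assoc]
  have h := hcomm _ (hmem u.toLinearMap fun g => u.isIntertwining' g) _ (hmem w hw)
  change (u.toLinearMap ∘ₗ a) ∘ₗ (w ∘ₗ a) = (w ∘ₗ a) ∘ₗ (u.toLinearMap ∘ₗ a) at h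
  rw [LinearMap.comp_assoc, ← LinearMap.comp_assoc _ w a, haw, LinearMap.zero_comp,
    LinearMap.comp_zero, LinearMap.comp_assoc, ← LinearMap.comp_assoc _ u.toLinearMap a, hau,
    LinearMap.id_comp] at h
  have h2 := congrArg (fun T => T ∘ₗ u.toLinearMap) h
  simp only [LinearMap.zero_comp, LinearMap.comp_assoc, hau, LinearMap.comp_id] at h2
  exact hw0 h2.symm

/-- Traces against the isotypic projections are degree times an algebraic integer. -/
theorem trace_mul_idem {χ : G → ℂ} (hχ : IsIrrCharacter G χ) {N : Matrix Ω Ω ℤ}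
    (hN : Matrix.toLin' (N.map (Int.cast : ℤ → ℂ)) ∈ cAlg G Ω) :
    ∃ z : ℂ, IsIntegral ℤ z ∧
      LinearMap.trace ℂ (Ω → ℂ) (Matrix.toLin' (N.map (Int.cast : ℤ → ℂ)) * idem χ) = χ 1 * z := by
  classical
  set A : Module.End ℂ (Ω → ℂ) := Matrix.toLin' (N.map (Int.cast : ℤ → ℂ)) with hA
  set P := Cfsg.permRep ℂ G Ω
  have hint : ∀ μ : ℂ, A.HasEigenvalue μ → IsIntegral ℤ μ := by
    intro μ hμ
    refine ⟨N.charpoly, Matrix.charpoly_monic N, ?_⟩
    have h := (Module.End.hasEigenvalue_iff_isRoot_charpoly A μ).mp hμ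
    rw [hA, Matrix.charpoly_toLin', show N.map (Int.cast : ℤ → ℂ) = N.map (algebraMap ℤ ℂ) from rfl,
      Matrix.charpoly_map] at h
    rwa [Polynomial.IsRoot, Polynomial.eval_map] at h
  let V : ℂ → Submodule ℂ (Ω → ℂ) := fun μ => A.maxGenEigenspace μ
  have hVinv : ∀ (g : G) μ, Set.MapsTo (P g) (V μ) (V μ) := fun g μ =>
    Module.End.mapsTo_maxGenEigenspace_of_comm (hN g : A * P g = P g * A) μ
  have hE : ∀ μ, Set.MapsTo (idem (Ω := Ω) χ) (V μ) (V μ) := fun μ v hv => by
    rw [idem, Char.groupSumOp_apply]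
    exact Submodule.sum_mem _ fun g _ => Submodule.smul_mem _ _ (hVinv g μ hv)
  have hAV : ∀ μ, Set.MapsTo A (V μ) (V μ) := fun μ =>
    Module.End.mapsTo_maxGenEigenspace_of_comm rfl μ
  have hcomp : DirectSum.IsInternal V :=
    DirectSum.isInternal_submodule_of_iSupIndep_of_iSup_eq_top
      A.independent_maxGenEigenspace A.iSup_maxGenEigenspace_eq_top
  have hfin : {μ | V μ ≠ ⊥}.Finite :=
    WellFoundedGT.finite_ne_bot_of_iSupIndep A.independent_maxGenEigenspace
  have hAE : ∀ μ, Set.MapsTo (A * idem (Ω := Ω) χ) (V μ) (V μ) := fun μ => (hAV μ).comp (hE μ)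
  have hsum := LinearMap.trace_eq_sum_trace_restrict' hcomp hfin hAE
  have hpiece : ∀ μ, ∃ m : ℕ,
      LinearMap.trace ℂ (V μ) ((A * idem (Ω := Ω) χ).restrict (hAE μ)) = χ 1 * (μ * m) := by
    intro μ
    let σ : Representation ℂ G (V μ) :=
      { toFun := fun g => (P g).restrict (hVinv g μ)
        map_one' := LinearMap.ext fun v => Subtype.ext (by simp [P])
        map_mul' := fun g h => LinearMap.ext fun v => Subtype.ext (by
          change P (g * h) (v : Ω → ℂ) = P g (P h (v : Ω → ℂ))
          rw [map_mul]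
          rfl) }
    obtain ⟨m, hm⟩ := Char.IsCharacter.classInner_nat (Char.isCharacter_character σ)
      (Char.IsIrrCharacter.isCharacter hχ)
    refine ⟨m, ?_⟩
    have he : (idem (Ω := Ω) χ).restrict (hE μ) = Char.groupSumOp σ (coef χ) := by
      refine LinearMap.ext fun v => Subtype.ext ?_
      change idem (Ω := Ω) χ (v : Ω → ℂ) = _
      rw [idem, Char.groupSumOp_apply, Char.groupSumOp_apply, Submodule.coe_sum]
      rfl
    have htr : LinearMap.trace ℂ (V μ) ((idem (Ω := Ω) χ).restrict (hE μ)) = χ 1 * m := by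
      rw [he, sum_coef_mul_character hχ, hm]
    let Nil : Module.End ℂ (V μ) := A.restrict (hAV μ) - μ • 1
    have hnil : IsNilpotent Nil := by
      have := A.isNilpotent_restrict_maxGenEigenspace_sub_algebraMap μ
      convert this using 1
      refine LinearMap.ext fun v => Subtype.ext ?_
      simp [Nil, LinearMap.coe_restrict_apply]
      rfl
    have hcomm : Commute Nil ((idem (Ω := Ω) χ).restrict (hE μ)) := by
      refine LinearMap.ext fun v => Subtype.ext ?_
      change A (idem (Ω := Ω) χ (v : Ω → ℂ)) - μ • idem (Ω := Ω) χ (v : Ω → ℂ) =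
        idem (Ω := Ω) χ (A (v : Ω → ℂ) - μ • (v : Ω → ℂ))
      rw [map_sub, map_smul (idem (Ω := Ω) χ)]
      congr 1
      simp only [idem, Char.groupSumOp_apply, map_sum, map_smul]
      exact Finset.sum_congr rfl fun g _ =>
        congrArg _ (LinearMap.congr_fun (hN g) (v : Ω → ℂ))
    have hsplit : (A * idem (Ω := Ω) χ).restrict (hAE μ) =
        μ • (idem (Ω := Ω) χ).restrict (hE μ) + Nil * (idem (Ω := Ω) χ).restrict (hE μ) := by
      rw [show μ • (idem (Ω := Ω) χ).restrict (hE μ) =
          (μ • (1 : Module.End ℂ (V μ))) * (idem (Ω := Ω) χ).restrict (hE μ) by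
        rw [smul_mul_assoc, one_mul], ← add_mul]
      have hAr : μ • (1 : Module.End ℂ (V μ)) + Nil = A.restrict (hAV μ) := by
        simp only [Nil]
        abel
      rw [hAr]
      rfl
    rw [hsplit, map_add, map_smul, htr,
      (LinearMap.isNilpotent_trace_of_isNilpotent (hcomm.isNilpotent_mul_right hnil)).eq_zero,
      add_zero, smul_eq_mul]
    ring
  choose m hm using hpiece
  refine ⟨∑ μ ∈ hfin.toFinset, μ * (m μ : ℂ), IsIntegral.sum _ fun μ hμ => ?_, ?_⟩
  · refine IsIntegral.mul (hint μ ?_) ?_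
    · rw [Set.Finite.mem_toFinset, Set.mem_ofPred_eq] at hμ
      exact (show A.HasUnifEigenvalue μ ⊤ from hμ).lt zero_lt_one
    · simpa using isIntegral_algebraMap (R := ℤ) (A := ℂ) (x := (m μ : ℤ))
  · rw [hsum, Finset.mul_sum]
    exact Finset.sum_congr rfl fun μ _ => hm μ

end Cfsg.Agent.Perm.Orbital
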