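/-
Small helpers for multiply transitive actions.

* `exists_smul_triple`, `isMultiplyPretransitive_three_of_stabilizer`
* `exists_mul_self_eq_one_of_swap` : turning a swapping element into an involution
* `exists_two_element_of_swap` : turning a swapping element into a 2-element
* `exists_fixed_of_odd_orbit`
-/
import Cfsg.Agent.Lib.Perm.Regular

namespace Cfsg.Agent.Perm

open MulAction

variable {G : Type*} [Group G] {X : Type*} [MulAction G X]

theorem exists_smul_triple (h3 : IsMultiplyPretransitive G X 3) {a b c x y z : X}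
    (hab : a ≠ b) (hac : a ≠ c) (hbc : b ≠ c) (hxy : x ≠ y) (hxz : x ≠ z) (hyz : y ≠ z) :
    ∃ g : G, g • a = x ∧ g • b = y ∧ g • c = z := by
  let u : Fin 3 ↪ X := ⟨![a, b, c], by
    intro i j h
    fin_cases i <;> fin_cases j <;> simp_all [eq_comm]⟩
  let v : Fin 3 ↪ X := ⟨![x, y, z], by
    intro i j h
    fin_cases i <;> fin_cases j <;> simp_all [eq_comm]⟩
  obtain ⟨g, hg⟩ := h3.exists_smul_eq u v
  refine ⟨g, ?_, ?_, ?_⟩
  · exact congrArg (fun e : Fin 3 ↪ X => e 0) hg
  · exact congrArg (fun e : Fin 3 ↪ X => e 1) hg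
  · exact congrArg (fun e : Fin 3 ↪ X => e 2) hg

theorem isMultiplyPretransitive_three_of_stabilizer (h2 : IsMultiplyPretransitive G X 2) (a b : X)
    (hab : a ≠ b)
    (h : ∀ x z : X, x ≠ a → x ≠ b → z ≠ a → z ≠ b → ∃ g : G, g • a = a ∧ g • b = b ∧ g • x = z) :
    IsMultiplyPretransitive G X 3 := by
  refine ⟨fun u v => ?_⟩
  have h01 : (0 : Fin 3) ≠ 1 := by decide
  obtain ⟨k, hk0, hk1⟩ := is_two_pretransitive_iff.mp h2 (u.injective.ne h01) hab
  obtain ⟨l, hl0, hl1⟩ := is_two_pretransitive_iff.mp h2 (v.injective.ne h01) hab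
  have hk : k • u 2 ≠ a ∧ k • u 2 ≠ b :=
    ⟨fun e => absurd (u.injective (MulAction.injective k (e.trans hk0.symm))) (by decide),
      fun e => absurd (u.injective (MulAction.injective k (e.trans hk1.symm))) (by decide)⟩
  have hl : l • v 2 ≠ a ∧ l • v 2 ≠ b :=
    ⟨fun e => absurd (v.injective (MulAction.injective l (e.trans hl0.symm))) (by decide),
      fun e => absurd (v.injective (MulAction.injective l (e.trans hl1.symm))) (by decide)⟩
  obtain ⟨g, hga, hgb, hgc⟩ := h _ _ hk.1 hk.2 hl.1 hl.2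
  refine ⟨l⁻¹ * g * k, ?_⟩
  ext i
  rw [Function.Embedding.smul_apply, mul_smul, mul_smul, inv_smul_eq_iff]
  fin_cases i
  · exact (congrArg (g • ·) hk0).trans (hga.trans hl0.symm)
  · exact (congrArg (g • ·) hk1).trans (hgb.trans hl1.symm)
  · exact hgc

theorem pow_two_mul_add_one_smul_of_swap {g : G} {a b : X} (hab : g • a = b) (hba : g • b = a)
    (k : ℕ) : g ^ (2 * k + 1) • a = b := by
  induction k with
  | zero => rw [mul_zero, zero_add, pow_one, hab]
  | succ k ih =>
    rw [show 2 * (k + 1) + 1 = (2 * k + 1) + 1 + 1 by ring, pow_succ', mul_smul, pow_succ',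
      mul_smul, ih, hba, hab]

/-- If `g` swaps `a` and `b` and `g ^ 2` has odd order, a power of `g` is an involution swapping
`a` and `b`. -/
theorem exists_mul_self_eq_one_of_swap {g : G} {a b : X} (hab : g • a = b) (hba : g • b = a)
    (hodd : Odd (orderOf (g ^ 2))) :
    ∃ u ∈ Subgroup.zpowers g, u * u = 1 ∧ u • a = b ∧ u • b = a := by
  obtain ⟨k, hk⟩ := hodd
  refine ⟨g ^ (2 * k + 1), Subgroup.pow_mem _ (Subgroup.mem_zpowers g) _, ?_,
    pow_two_mul_add_one_smul_of_swap hab hba k, pow_two_mul_add_one_smul_of_swap hba hab k⟩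
  rw [← pow_two, ← pow_mul, mul_comm, pow_mul, ← hk, pow_orderOf_eq_one]

/-- If `g` of finite order swaps `a` and `b`, a power of `g` is a 2-element swapping them. -/
theorem exists_two_element_of_swap [Finite G] {g : G} {a b : X} (hab : g • a = b) (hba : g • b = a) :
    ∃ u ∈ Subgroup.zpowers g, (∃ k : ℕ, u ^ 2 ^ k = 1) ∧ u • a = b ∧ u • b = a := by
  obtain ⟨k, e, he, h⟩ := Nat.exists_eq_pow_mul_and_not_dvd (orderOf_pos g).ne' 2 (by norm_num)
  obtain ⟨m, hm⟩ : Odd e := Nat.odd_iff.mpr (Nat.two_dvd_ne_zero.mp he)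
  refine ⟨g ^ e, Subgroup.pow_mem _ (Subgroup.mem_zpowers g) _, ⟨k, ?_⟩, ?_, ?_⟩
  · rw [← pow_mul, mul_comm, ← h, pow_orderOf_eq_one]
  · rw [hm]; exact pow_two_mul_add_one_smul_of_swap hab hba m
  · rw [hm]; exact pow_two_mul_add_one_smul_of_swap hba hab m

/-- A `2`-group stabilising a set of odd cardinality fixes one of its points. -/
theorem exists_fixed_of_odd_set [Finite X] {P : Subgroup G} (hP : IsPGroup 2 P) {S : Set X}
    (hS : Odd S.ncard) (hinv : ∀ p ∈ P, ∀ x ∈ S, p • x ∈ S) :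
    ∃ x ∈ S, ∀ p ∈ P, p • x = x := by
  let U : SubMulAction P X :=
    { carrier := S
      smul_mem' := fun p x hx => hinv p p.2 x hx }
  have : Fact (Nat.Prime 2) := ⟨Nat.prime_two⟩
  obtain ⟨x, hx⟩ := hP.nonempty_fixed_point_of_prime_not_dvd_card U (by
    have : Nat.card U = S.ncard := Nat.card_coe_set_eq S
    rw [this]
    exact fun h => Nat.not_even_iff_odd.mpr hS (even_iff_two_dvd.mpr h))
  exact ⟨x.1, x.2, fun p hp => congrArg Subtype.val (hx ⟨p, hp⟩)⟩

end Cfsg.Agent.Perm
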