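/-
Normal subgroups of multiply transitive and multiply primitive groups.

* `finite_of_faithful`, `faithfulSMul_ofStabilizer`, `isMultiplyPretransitive_succ_of_subgroupOf`
* `two_point_trivial_of_stabilizer_regular`
* `jordan_normal` : Jordan's theorem on normal subgroups of k-transitive groups
* `normal_of_multiplyPreprimitive` : normal subgroups of k-primitive groups
-/
import Cfsg.Agent.Lib.Perm.FrobeniusNormal

namespace Cfsg.Agent.Perm

open MulAction

theorem finite_of_faithful (G X : Type*) [Group G] [MulAction G X] [Finite X] [FaithfulSMul G X] :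
    Finite G :=
  Finite.of_injective _ (MulAction.toPerm_injective (α := G) (β := X))

variable {G : Type*} [Group G] {X : Type*} [MulAction G X]

instance faithfulSMul_ofStabilizer [FaithfulSMul G X] (a : X) :
    FaithfulSMul (stabilizer G a) (SubMulAction.ofStabilizer G a) := by
  refine ⟨fun {g h} e => Subtype.ext (FaithfulSMul.eq_of_smul_eq_smul (α := X) fun x => ?_)⟩
  by_cases hx : x = a
  · rw [hx, g.2, h.2]
  · exact congrArg Subtype.val (e ⟨x, hx⟩)

theorem stabilizer_ne_bot_of_transitive {N : Subgroup G} (ht : IsPretransitive N X) {a b : X}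
    (ha : stabilizer N a ≠ ⊥) : stabilizer N b ≠ ⊥ := by
  obtain ⟨g, rfl⟩ := exists_smul_eq N a b
  rw [stabilizer_smul_eq_stabilizer_map_conj, ne_eq,
    Subgroup.map_eq_bot_iff_of_injective _ (MulEquiv.injective _)]
  exact ha

theorem subgroupOf_stabilizer_ne_bot {N : Subgroup G} {a : X} (ha : stabilizer N a ≠ ⊥) :
    N.subgroupOf (stabilizer G a) ≠ ⊥ := by
  intro h
  apply ha
  rw [Subgroup.eq_bot_iff_forall] at h ⊢
  intro n hn
  have := h ⟨n, mem_stabilizer_iff.mpr hn⟩ (Subgroup.mem_subgroupOf.mpr n.2)
  exact Subtype.ext (congrArg Subtype.val this : (n : G) = 1)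

theorem isMultiplyPretransitive_succ_of_subgroupOf {N : Subgroup G} (ht : IsPretransitive N X)
    {a : X} {n : ℕ}
    (h : IsMultiplyPretransitive (N.subgroupOf (stabilizer G a)) (SubMulAction.ofStabilizer G a) n) :
    IsMultiplyPretransitive N X (n + 1) := by
  rw [SubMulAction.ofStabilizer.isMultiplyPretransitive (a := a)]
  let φ : N.subgroupOf (stabilizer G a) → stabilizer N a := fun g =>
    ⟨⟨g.1.1, Subgroup.mem_subgroupOf.mp g.2⟩, g.1.2⟩
  let f : SubMulAction.ofStabilizer G a →ₑ[φ] SubMulAction.ofStabilizer N a :=
    { toFun := fun x => ⟨x.1, x.2⟩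
      map_smul' := fun _ _ => rfl }
  have hf : Function.Surjective f := fun y => ⟨⟨y.1, y.2⟩, rfl⟩
  exact IsPretransitive.of_embedding hf

/-- If the stabiliser of `a` in the transitive subgroup `N` is semiregular on the other points,
only the identity of `N` fixes two points. -/
theorem two_point_trivial_of_stabilizer_regular {N : Subgroup G} (ht : IsPretransitive N X) {a : X}
    (h : ∀ x : SubMulAction.ofStabilizer G a,
      stabilizer (N.subgroupOf (stabilizer G a)) x = ⊥) :
    ∀ g ∈ N, ∀ x y : X, x ≠ y → g • x = x → g • y = y → g = 1 := by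
  intro g hg x y hxy hgx hgy
  obtain ⟨⟨n, hn⟩, hna⟩ := exists_smul_eq N x a
  rw [Subgroup.smul_def] at hna
  simp only at hna
  have hb : n • y ≠ a := fun e => hxy (MulAction.injective n (hna.trans e.symm))
  have hk : n * g * n⁻¹ ∈ N := mul_mem (mul_mem hn hg) (inv_mem hn)
  have hfix : ∀ z : X, g • z = z → (n * g * n⁻¹) • (n • z) = n • z := fun z hz => by
    rw [mul_smul, mul_smul, inv_smul_smul, hz]
  have hka : n * g * n⁻¹ ∈ stabilizer G a := by
    rw [mem_stabilizer_iff, ← hna]
    exact hfix x hgx
  have hmem : (⟨⟨n * g * n⁻¹, hka⟩, Subgroup.mem_subgroupOf.mpr hk⟩ :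
      N.subgroupOf (stabilizer G a)) ∈ stabilizer _ (⟨n • y, hb⟩ : SubMulAction.ofStabilizer G a) :=
    mem_stabilizer_iff.mpr (Subtype.ext (hfix y hgy))
  rw [h, Subgroup.mem_bot] at hmem
  have : n * g * n⁻¹ = 1 := congrArg (fun k : N.subgroupOf (stabilizer G a) => k.1.1) hmem
  rwa [conj_eq_one_iff] at this

/-- Jordan's theorem on normal subgroups of multiply transitive groups. -/
theorem jordan_normal {G X : Type*} [Group G] [MulAction G X] [Finite X] [FaithfulSMul G X] {k : ℕ}
    (hk : 1 < k) (hdeg : k < Nat.card X) (hG : IsMultiplyPretransitive G X k)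
    {N : Subgroup G} [N.Normal] (hN : N ≠ ⊥) :
    IsMultiplyPretransitive N X (k - 1) ∨
      (k = 3 ∧ IsMulCommutative N ∧ ∀ n : N, n ^ 2 = 1) := by
  obtain ⟨m, rfl⟩ : ∃ m, k = m + 2 := ⟨k - 2, by omega⟩
  induction m generalizing G X with
  | zero =>
    left
    have := isPreprimitive_of_is_two_pretransitive hG
    show IsMultiplyPretransitive N X 1
    rw [is_one_pretransitive_iff]
    exact isPretransitive_of_normal_ne_bot hN
  | succ m ih =>
    have : Finite G := finite_of_faithful G X
    have h2 : IsMultiplyPretransitive G X 2 :=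
      isMultiplyPretransitive_of_le (n := m + 1 + 2) (by omega) hdeg.le
    have := isPreprimitive_of_is_two_pretransitive h2
    have hNt : IsPretransitive N X := isPretransitive_of_normal_ne_bot hN
    have hne : Nonempty X := (Nat.card_ne_zero.mp (by omega)).1
    obtain ⟨a⟩ := hne
    have : IsPretransitive G X := isPretransitive_of_is_two_pretransitive
    have h3 : IsMultiplyPretransitive G X 3 :=
      isMultiplyPretransitive_of_le (n := m + 1 + 2) (by omega) hdeg.le
    have h4 : 1 ≤ m → IsMultiplyPretransitive G X 4 := fun hm =>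
      isMultiplyPretransitive_of_le (n := m + 1 + 2) (by omega) hdeg.le
    by_cases ha : stabilizer N a = ⊥
    · -- regular normal subgroup
      have hreg : ∀ x : X, stabilizer N x = ⊥ := fun x => by
        by_contra hx
        exact stabilizer_ne_bot_of_transitive hNt hx ha
      rcases Nat.eq_zero_or_pos m with rfl | hm
      · right
        have hne : Nonempty X := ⟨a⟩
        have h2p : IsMultiplyPreprimitive G X 2 := by
          apply isMultiplyPreprimitive_of_isMultiplyPretransitive_succ G X
          rw [ENat.card_eq_coe_natCard]; exact_mod_cast hdeg.le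
        rcases regular_normal_of_two_primitive h2p hNt hreg with h | ⟨hc, hexp, -⟩
        · omega
        · exact ⟨rfl, hc, hexp⟩
      · obtain ⟨x, hx⟩ := regular_normal_of_four_transitive (by omega) (h4 hm) hNt
        exact absurd (hreg x) hx
    · have hGa : IsMultiplyPretransitive (stabilizer G a) (SubMulAction.ofStabilizer G a) (m + 2) :=
        SubMulAction.ofStabilizer.isMultiplyPretransitive.mp hG
      have hcard : m + 2 < Nat.card (SubMulAction.ofStabilizer G a) := by
        rw [SubMulAction.nat_card_ofStabilizer_eq]; omega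
      have hM := subgroupOf_stabilizer_ne_bot ha
      rcases ih (N := N.subgroupOf (stabilizer G a)) hM (by omega) hcard hGa with h | ⟨hm, hc, -⟩
      · left
        rw [show m + 1 + 2 - 1 = m + 2 - 1 + 1 by omega]
        exact isMultiplyPretransitive_succ_of_subgroupOf hNt h
      · exfalso
        have hGa2 : IsMultiplyPretransitive (stabilizer G a) (SubMulAction.ofStabilizer G a) 2 :=
          isMultiplyPretransitive_of_le (n := m + 2) (by omega) hcard.le
        have := isPreprimitive_of_is_two_pretransitive hGa2
        have hMt : IsPretransitive (N.subgroupOf (stabilizer G a))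
            (SubMulAction.ofStabilizer G a) := isPretransitive_of_normal_ne_bot hM
        have hs := two_point_trivial_of_stabilizer_regular hNt
          (stabilizer_eq_bot_of_isMulCommutative hMt hc)
        obtain ⟨p, j, T, -, -, -, -, hTn, -, -, hTt, hTs, -⟩ :=
          exists_regular_of_frobenius_normal (by omega) h2 hNt hs
        have : T.Normal := hTn
        obtain ⟨x, hx⟩ := regular_normal_of_four_transitive (by omega) (h4 (by omega)) hTt
        exact hx (hTs x)

theorem surjective_toPerm_of_stabilizer [Finite X] [FaithfulSMul G X] [IsPretransitive G X] {a : X}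
    (h : Function.Surjective
      (MulAction.toPermHom (stabilizer G a) (SubMulAction.ofStabilizer G a))) :
    Function.Surjective (MulAction.toPermHom G X) := by
  have : Finite G := finite_of_faithful G X
  have : Nonempty X := ⟨a⟩
  refine ((MulAction.toPerm_injective (α := G) (β := X)).bijective_of_nat_card_le ?_).2
  have hle := Nat.card_le_card_of_surjective _ h
  rw [Nat.card_perm, SubMulAction.nat_card_ofStabilizer_eq] at hle
  have hidx := (stabilizer G a).index_mul_card
  rw [index_stabilizer_of_transitive G a] at hidx
  rw [Nat.card_perm, ← hidx, ← Nat.mul_factorial_pred Nat.card_pos.ne']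
  exact Nat.mul_le_mul_left _ hle

theorem surjective_toPerm_of_isMultiplyPretransitive [Finite X]
    (h : IsMultiplyPretransitive G X (Nat.card X - 1)) :
    Function.Surjective (MulAction.toPermHom G X) := by
  rw [← MonoidHom.range_eq_top]
  apply Equiv.Perm.eq_top_of_isMultiplyPretransitive
  refine ⟨fun x y => ?_⟩
  obtain ⟨g, hg⟩ := h.exists_smul_eq x y
  exact ⟨⟨_, g, rfl⟩, hg⟩

/-- A non-regular normal subgroup of a `k`-primitive group, not inducing the whole symmetric
group, is `k`-transitive. -/
theorem normal_of_multiplyPreprimitive {G X : Type*} [Group G] [MulAction G X] [Finite X]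
    [FaithfulSMul G X] {k : ℕ} (hk : 1 ≤ k) (hkn : k ≤ Nat.card X)
    (hG : IsMultiplyPreprimitive G X k) (hS : ¬ Function.Surjective (MulAction.toPermHom G X))
    {N : Subgroup G} [N.Normal] (hnr : ∃ a : X, stabilizer N a ≠ ⊥) :
    IsMultiplyPretransitive N X k := by
  obtain ⟨m, rfl⟩ : ∃ m, k = m + 1 := ⟨k - 1, by omega⟩
  induction m generalizing G X with
  | zero =>
    have : IsPreprimitive G X := (is_one_preprimitive_iff G X).mp hG
    rw [is_one_pretransitive_iff]
    refine isPretransitive_of_normal_ne_bot fun h => ?_
    obtain ⟨a, ha⟩ := hnr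
    subst h
    exact ha (Subsingleton.elim _ _)
  | succ m ih =>
    have hXe : ((m + 1 + 1 : ℕ) : ℕ∞) ≤ ENat.card X := by
      rw [ENat.card_eq_coe_natCard]; exact_mod_cast hkn
    have : IsPreprimitive G X :=
      (is_one_preprimitive_iff G X).mp (isMultiplyPreprimitive_of_le G X hG (by omega) hXe)
    obtain ⟨a, ha⟩ := hnr
    have hN : N ≠ ⊥ := by
      intro h
      subst h
      exact ha (Subsingleton.elim _ _)
    have hNt : IsPretransitive N X := isPretransitive_of_normal_ne_bot hN
    have : Finite G := finite_of_faithful G X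
    have hGa : IsMultiplyPreprimitive (stabilizer G a) (SubMulAction.ofStabilizer G a) (m + 1) :=
      @isMultiplyPreprimitive_ofStabilizer G X _ _ _ (m + 1) a hG
    have hcard : m + 1 ≤ Nat.card (SubMulAction.ofStabilizer G a) := by
      rw [SubMulAction.nat_card_ofStabilizer_eq]; omega
    by_cases hM : ∃ x : SubMulAction.ofStabilizer G a,
        stabilizer (N.subgroupOf (stabilizer G a)) x ≠ ⊥
    · exact isMultiplyPretransitive_succ_of_subgroupOf hNt
        (ih (fun h => hS (surjective_toPerm_of_stabilizer h)) hM (by omega) hcard hGa)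
    push Not at hM
    have hcard' : ((m + 1 : ℕ) : ℕ∞) ≤ ENat.card (SubMulAction.ofStabilizer G a) := by
      rw [ENat.card_eq_coe_natCard]; exact_mod_cast hcard
    have : IsPreprimitive (stabilizer G a) (SubMulAction.ofStabilizer G a) :=
      (is_one_preprimitive_iff _ _).mp (isMultiplyPreprimitive_of_le _ _ hGa (by omega) hcard')
    have hMt : IsPretransitive (N.subgroupOf (stabilizer G a)) (SubMulAction.ofStabilizer G a) :=
      isPretransitive_of_normal_ne_bot (subgroupOf_stabilizer_ne_bot ha)
    rcases Nat.eq_zero_or_pos m with rfl | hm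
    · exact isMultiplyPretransitive_succ_of_subgroupOf hNt (is_one_pretransitive_iff.mpr hMt)
    exfalso
    have h2 : IsMultiplyPretransitive G X 2 :=
      (isMultiplyPreprimitive_of_le G X hG (by omega) hXe).isMultiplyPretransitive
    obtain ⟨p, j, T, -, -, -, -, hTn, -, -, hTt, hTs, -⟩ :=
      exists_regular_of_frobenius_normal (by omega) h2 hNt
        (two_point_trivial_of_stabilizer_regular hNt hM)
    have : T.Normal := hTn
    have h3 : IsMultiplyPreprimitive G X 3 := isMultiplyPreprimitive_of_le G X hG (by omega) hXe
    apply hS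
    apply surjective_toPerm_of_isMultiplyPretransitive
    have := h3.isMultiplyPretransitive
    rcases regular_normal_of_three_primitive (by omega) h3 hTt hTs with h | h
    · exact isMultiplyPretransitive_of_le (n := 3) (by omega) (by omega)
    · exact isMultiplyPretransitive_of_le (n := 3) (by omega) (by omega)

end Cfsg.Agent.Perm
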