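/-
Normal subgroups of Zassenhaus groups.

* `zassenhaus_normal` : non-trivial normal subgroups of Zassenhaus groups are Zassenhaus groups
* `zassenhaus_odd_simple` : Zassenhaus groups of odd degree are simple
-/
import Cfsg.Agent.Lib.Perm.Basic
import Cfsg.Agent.Lib.Perm.NormalSubgroups

namespace Cfsg.Agent.Perm

open MulAction

variable {G : Type*} [Group G] {X : Type*} [MulAction G X]

/-- If a normal subgroup of a transitive group in which only the identity fixes two points has
non-trivial point stabilisers, it is transitive. -/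
theorem isPretransitive_of_frobenius_normal_nonregular [Finite G] [Finite X]
    (ht : IsPretransitive G X)
    (hs : ∀ g : G, ∀ a b : X, a ≠ b → g • a = a → g • b = b → g = 1)
    {N : Subgroup G} [N.Normal] (hnr : ∃ x : X, stabilizer N x ≠ ⊥) : IsPretransitive N X := by
  classical
  cases nonempty_fintype X
  cases nonempty_fintype N
  obtain ⟨x0, hx0⟩ := hnr
  have hne : Nonempty X := ⟨x0⟩
  have hall : ∀ x : X, stabilizer N x ≠ ⊥ := by
    intro x h
    apply hx0
    obtain ⟨g, hg⟩ := exists_smul_eq G x0 x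
    rw [Subgroup.eq_bot_iff_forall] at h ⊢
    intro n hn
    have hn' : (n : G) • x0 = x0 := hn
    have hmem : MulAut.conjNormal g n ∈ stabilizer N x := by
      rw [mem_stabilizer_iff, Subgroup.smul_def, MulAut.conjNormal_apply, ← hg, mul_smul, mul_smul,
        inv_smul_smul, hn']
    exact (map_eq_one_iff _ (MulEquiv.injective _)).mp (h _ hmem)
  have hb := MulAction.sum_card_fixedBy_eq_card_orbits_mul_card_group N X
  let r := Fintype.card (Quotient (orbitRel N X))
  have hle : r * Fintype.card N ≤ Fintype.card X + (Fintype.card N - 1) := by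
    rw [← hb, ← Finset.sum_erase_add _ _ (Finset.mem_univ (1 : N)), add_comm]
    refine Nat.add_le_add (Fintype.card_subtype_le _) ?_
    refine (Finset.sum_le_card_nsmul _ _ 1 fun g hg => ?_).trans ?_
    · rw [Fintype.card_le_one_iff_subsingleton]
      refine ⟨fun u v => Subtype.ext ?_⟩
      by_contra hne'
      exact (Finset.ne_of_mem_erase hg) (Subtype.ext (hs g u v hne' u.2 v.2))
    · rw [smul_eq_mul, mul_one, Finset.card_erase_of_mem (Finset.mem_univ _), Finset.card_univ]
  have hsum : 2 * Fintype.card X ≤ r * Fintype.card N := by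
    rw [Fintype.card_congr (selfEquivSigmaOrbits N X), Fintype.card_sigma, Finset.mul_sum]
    refine (Finset.sum_le_card_nsmul _ _ (Fintype.card N) fun q _ => ?_).trans ?_
    · rw [← card_orbit_mul_card_stabilizer_eq_card_group N q.out, mul_comm]
      refine Nat.mul_le_mul_left _ ?_
      have : Nontrivial (stabilizer N q.out) := (Subgroup.nontrivial_iff_ne_bot _).mpr (hall _)
      exact Fintype.one_lt_card
    · rw [smul_eq_mul, Finset.card_univ]
  have hr : r < 2 := by
    by_contra hr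
    have h1 : 2 * Fintype.card N ≤ r * Fintype.card N := Nat.mul_le_mul_right _ (by omega)
    have h0 : 0 < Fintype.card N := Fintype.card_pos
    omega
  have hsub : Subsingleton (Quotient (orbitRel N X)) := Fintype.card_le_one_iff_subsingleton.mp
    (Nat.le_of_lt_succ hr)
  exact ⟨fun x y => Quotient.exact (hsub.elim (Quotient.mk (orbitRel N X) y) (Quotient.mk _ x))⟩

/-- A non-trivial normal subgroup of a Zassenhaus group is a Zassenhaus group. -/
theorem zassenhaus_normal [Finite X] (hZ : Cfsg.IsZassenhausGroup G X) {N : Subgroup G} [N.Normal]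
    (hN : N ≠ ⊥) : Cfsg.IsZassenhausGroup N X := by
  obtain ⟨hf, h2, h3, ⟨g₀, hg₀, a₀, b₀, hab₀, hga₀, hgb₀⟩, hnoreg⟩ := hZ
  have : Finite G := finite_of_faithful G X
  have := isPreprimitive_of_is_two_pretransitive h2
  have : IsPretransitive G X := isPretransitive_of_is_two_pretransitive
  have hne : Nonempty X := ⟨a₀⟩
  have hX : 2 ≤ Nat.card X := by
    have : Nontrivial X := ⟨a₀, b₀, hab₀⟩
    exact Finite.one_lt_card
  have hNt : IsPretransitive N X := isPretransitive_of_normal_ne_bot hN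
  -- some non-identity element of `N` fixes two points
  obtain ⟨n₁, hn₁, hn₁N, c, d, hcd, hnc, hnd⟩ :
      ∃ n : G, n ≠ 1 ∧ n ∈ N ∧ ∃ c d : X, c ≠ d ∧ n • c = c ∧ n • d = d := by
    by_contra hcon
    push Not at hcon
    obtain ⟨p, j, T, -, -, -, -, hTn, -, -, hTt, hTs, -⟩ :=
      exists_regular_of_frobenius_normal hX h2 hNt (fun g hg x y hxy hx hy => by
        by_contra hg1
        exact hcon g hg1 hg x y hxy hx hy)
    obtain ⟨a, ha⟩ := hnoreg T hTn hTt
    exact ha (hTs a)
  -- `N` is 2-transitive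
  have hN2 : IsMultiplyPretransitive N X 2 := by
    refine isMultiplyPretransitive_succ_of_subgroupOf (a := c) hNt (is_one_pretransitive_iff.mpr ?_)
    have hGa : IsPretransitive (stabilizer G c) (SubMulAction.ofStabilizer G c) :=
      is_one_pretransitive_iff.mp (SubMulAction.ofStabilizer.isMultiplyPretransitive.mp h2)
    refine isPretransitive_of_frobenius_normal_nonregular hGa ?_ ?_
    · intro g x y hxy hx hy
      exact Subtype.ext (h3 g c x y (fun e => x.2 e.symm) (fun e => hxy (Subtype.ext e)) (fun e => y.2 e.symm) g.2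
        (congrArg Subtype.val hx) (congrArg Subtype.val hy))
    · refine ⟨⟨d, hcd.symm⟩, fun h => hn₁ ?_⟩
      have hmem : (⟨⟨n₁, hnc⟩, Subgroup.mem_subgroupOf.mpr hn₁N⟩ : N.subgroupOf (stabilizer G c)) ∈
          stabilizer _ (⟨d, hcd.symm⟩ : SubMulAction.ofStabilizer G c) :=
        mem_stabilizer_iff.mpr (Subtype.ext hnd)
      rw [h, Subgroup.mem_bot] at hmem
      exact congrArg (fun k : N.subgroupOf (stabilizer G c) => k.1.1) hmem
  refine ⟨inferInstance, hN2, fun g x y z h1 h2' h3' hx hy hz =>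
      Subtype.ext (h3 g x y z h1 h2' h3' hx hy hz),
    ⟨⟨n₁, hn₁N⟩, fun e => hn₁ (congrArg Subtype.val e), c, d, hcd, hnc, hnd⟩, ?_⟩
  intro M hM hMt
  by_contra hreg
  push Not at hreg
  -- a regular normal subgroup of `N` would be normal in `G`
  have hNprim := isPreprimitive_of_is_two_pretransitive hN2
  obtain ⟨hMc, -⟩ := regular_normal_of_two_transitive hN2 hMt hreg
  have hinvariant : ∀ g : G, ∀ m ∈ M, MulAut.conjNormal g m ∈ M := by
    intro g
    let M' := M.map (MulAut.conjNormal g : N ≃* N).toMonoidHom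
    have hM'n : M'.Normal := hM.map _ (MulEquiv.surjective _)
    have hM't : IsPretransitive M' X := by
      refine ⟨fun x y => ?_⟩
      obtain ⟨m, hm⟩ := exists_smul_eq M (g⁻¹ • x) (g⁻¹ • y)
      refine ⟨⟨_, Subgroup.mem_map_of_mem _ m.2⟩, ?_⟩
      show (MulAut.conjNormal g (m : N) : G) • x = y
      rw [MulAut.conjNormal_apply, mul_smul, mul_smul]
      exact (congrArg (g • ·) hm).trans (smul_inv_smul g y)
    have hM's : ∀ x : X, stabilizer M' x = ⊥ := by
      intro x
      rw [Subgroup.eq_bot_iff_forall]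
      rintro ⟨_, m, hm, rfl⟩ hfix
      have hfix' : (g * (m : G) * g⁻¹) • x = x := hfix
      rw [mul_smul, mul_smul, smul_eq_iff_eq_inv_smul] at hfix'
      have hmem : (⟨m, hm⟩ : M) ∈ stabilizer M (g⁻¹ • x) := hfix'
      rw [hreg, Subgroup.mem_bot] at hmem
      apply Subtype.ext
      show MulAut.conjNormal g m = 1
      rw [show m = 1 from congrArg Subtype.val hmem, map_one]
    intro m hm
    have hmem : MulAut.conjNormal g m ∈ M' := Subgroup.mem_map_of_mem _ hm
    by_cases hI : M ⊓ M' = ⊥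
    · -- `M'` centralises the abelian regular group `M`
      have hcomm : ∀ u ∈ M, ∀ v ∈ M', Commute u v :=
        fun u hu v hv => Subgroup.commute_of_normal_of_disjoint M M' hM hM'n
          (disjoint_iff.mpr hI) u v hu hv
      set v := MulAut.conjNormal g m
      obtain ⟨⟨u, hu⟩, huv⟩ := exists_smul_eq M a₀ (v • a₀)
      have : v = u := by
        apply FaithfulSMul.eq_of_smul_eq_smul (α := X)
        intro y
        obtain ⟨⟨l, hl⟩, rfl⟩ := exists_smul_eq M a₀ y
        show v • l • a₀ = u • l • a₀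
        rw [← mul_smul, ← mul_smul, ← (hcomm l hl v hmem).eq,
          show u * l = l * u from congrArg Subtype.val (hMc.is_comm.comm ⟨u, hu⟩ ⟨l, hl⟩),
          mul_smul, mul_smul]
        exact congrArg (l • ·) huv.symm
      exact this ▸ hu
    · have hIt : IsPretransitive (M ⊓ M' : Subgroup N) X := isPretransitive_of_normal_ne_bot hI
      obtain ⟨⟨u, hu⟩, huv⟩ := exists_smul_eq (M ⊓ M' : Subgroup N) a₀ (MulAut.conjNormal g m • a₀)
      have := eq_of_smul_eq_of_regular hM's (n := ⟨u, hu.2⟩) (m := ⟨_, hmem⟩) (a := a₀) huv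
      rw [← show u = MulAut.conjNormal g m from congrArg Subtype.val this]
      exact hu.1
  let T := M.map N.subtype
  have hTn : T.Normal := ⟨by
    rintro _ ⟨m, hm, rfl⟩ g
    exact ⟨MulAut.conjNormal g m, hinvariant g m hm, MulAut.conjNormal_apply g m⟩⟩
  have hTt : IsPretransitive T X := by
    refine ⟨fun x y => ?_⟩
    obtain ⟨m, hm⟩ := exists_smul_eq M x y
    exact ⟨⟨_, Subgroup.mem_map_of_mem N.subtype m.2⟩, hm⟩
  obtain ⟨a, ha⟩ := hnoreg T hTn hTt
  apply ha
  rw [Subgroup.eq_bot_iff_forall]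
  rintro ⟨_, m, hm, rfl⟩ hfix
  have hmem : (⟨m, hm⟩ : M) ∈ stabilizer M a := hfix
  rw [hreg, Subgroup.mem_bot] at hmem
  apply Subtype.ext
  show (m : G) = 1
  rw [show m = 1 from congrArg Subtype.val hmem, Subgroup.coe_one]

/-- A Zassenhaus group of odd degree is simple. -/
theorem zassenhaus_odd_simple [Finite X] (hZ : Cfsg.IsZassenhausGroup G X)
    (hodd : Odd (Nat.card X)) : IsSimpleGroup G := by
  obtain ⟨hf, h2, h3, ⟨g₀, hg₀, a, b, hab, hga₀, hgb₀⟩, -⟩ := id hZ
  have : Finite G := finite_of_faithful G X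
  have : Nontrivial G := ⟨g₀, 1, hg₀⟩
  refine ⟨fun K hK => or_iff_not_imp_left.mpr fun hK1 => ?_⟩
  obtain ⟨-, hK2, -, -, -⟩ := zassenhaus_normal hZ hK1
  let D := stabilizer G a ⊓ stabilizer G b
  have : Fact (Nat.Prime 2) := ⟨Nat.prime_two⟩
  -- involutions fix exactly one point
  have hinv : ∀ u : G, u * u = 1 → u ≠ 1 → ∃ c : X, u • c = c ∧ ∀ y : X, u • y = y → y = c := by
    intro u hu hu1
    have hP : IsPGroup 2 (Subgroup.zpowers u) := IsPGroup.of_card (n := 1) (by
      rw [pow_one, Nat.card_zpowers, orderOf_eq_prime (p := 2) (by rw [pow_two]; exact hu) hu1])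
    have hmem : ∀ x, x ∈ fixedPoints (Subgroup.zpowers u) X ↔ u • x = x := fun x =>
      ⟨fun h => h ⟨u, Subgroup.mem_zpowers u⟩, fun h ⟨k, hk⟩ =>
        (Subgroup.zpowers_le.mpr (mem_stabilizer_iff.mpr h) hk : k ∈ stabilizer G x)⟩
    have hm := hP.card_modEq_card_fixedPoints X
    have hF : Odd (fixedPoints (Subgroup.zpowers u) X).ncard := by
      rw [← Nat.card_coe_set_eq, Nat.odd_iff]
      rw [Nat.odd_iff] at hodd
      exact Eq.trans hm.symm hodd
    obtain ⟨c, hc⟩ : (fixedPoints (Subgroup.zpowers u) X).Nonempty :=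
      Set.nonempty_of_ncard_ne_zero hF.pos.ne'
    refine ⟨c, (hmem c).mp hc, fun y hy => ?_⟩
    by_contra hne
    have h2le : 2 ≤ (fixedPoints (Subgroup.zpowers u) X).ncard :=
      (Set.one_lt_ncard (Set.toFinite _)).mpr ⟨y, (hmem y).mpr hy, c, hc, hne⟩
    have h3le : 2 < (fixedPoints (Subgroup.zpowers u) X).ncard := by
      obtain ⟨k, hk⟩ := hF; omega
    obtain ⟨p, q, r, hp, hq, hr, hpq, hpr, hqr⟩ :=
      (Set.two_lt_ncard_iff (Set.toFinite _)).mp h3le
    exact hu1 (h3 u p q r hpq hqr hpr ((hmem p).mp hp) ((hmem q).mp hq) ((hmem r).mp hr))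
  have hDodd : ∀ d ∈ D, Odd (orderOf d) := by
    intro d hd
    by_contra heven
    rw [Nat.not_odd_iff_even] at heven
    obtain ⟨m, hm⟩ := heven
    have h0 := orderOf_pos d
    have hne : d ^ m ≠ 1 := fun e => by
      have := Nat.le_of_dvd (by omega) (orderOf_dvd_of_pow_eq_one e); omega
    obtain ⟨c, -, hc⟩ := hinv (d ^ m) (by rw [← pow_add, ← hm, pow_orderOf_eq_one]) hne
    have hdm := pow_mem hd m
    exact hab ((hc a hdm.1).trans (hc b hdm.2).symm)
  obtain ⟨⟨t, htK⟩, hta, htb⟩ := is_two_pretransitive_iff.mp hK2 hab hab.symm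
  rw [Subgroup.mk_smul] at hta htb
  obtain ⟨u, hu, hu2, hua, hub⟩ := exists_mul_self_eq_one_of_swap (g := t) hta htb
    (hDodd _ (Subgroup.mem_inf.mpr ⟨by rw [mem_stabilizer_iff, pow_two, mul_smul, hta, htb],
      by rw [mem_stabilizer_iff, pow_two, mul_smul, htb, hta]⟩))
  have huK : u ∈ K := Subgroup.zpowers_le.mpr htK hu
  have hu1 : u ≠ 1 := fun e => hab (by rw [← hua, e, one_smul])
  have huinv : u⁻¹ = u := inv_eq_of_mul_eq_one_right hu2
  obtain ⟨c, hc, hcu⟩ := hinv u hu2 hu1
  have hca : c ≠ a := fun e => hab ((e ▸ hc : u • a = a).symm.trans hua)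
  have hcb : c ≠ b := fun e => hab ((e ▸ hc : u • b = b).symm.trans hub).symm
  -- conjugation by `u` inverts `D`
  have hDu : ∀ d ∈ D, u * d * u ∈ D := fun d hd =>
    Subgroup.mem_inf.mpr ⟨by rw [mem_stabilizer_iff, mul_smul, mul_smul, hua, mem_stabilizer_iff.mp hd.2,
      hub], by rw [mem_stabilizer_iff, mul_smul, mul_smul, hub,
      mem_stabilizer_iff.mp hd.1, hua]⟩
  let φ : D → D := fun d => ⟨(d : G)⁻¹ * (u * d * u), mul_mem (inv_mem d.2) (hDu d d.2)⟩
  have hφ : Function.Injective φ := by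
    intro d d' e
    have e' : (d : G)⁻¹ * (u * d * u) = (d' : G)⁻¹ * (u * d' * u) := congrArg Subtype.val e
    set k := (d' : G) * (d : G)⁻¹ with hk
    have hkD : k ∈ D := mul_mem d'.2 (inv_mem d.2)
    have hku : u * k * u = k := by
      calc u * k * u = (u * d' * u) * (u * d * u)⁻¹ := by
            rw [hk, mul_inv_rev, mul_inv_rev, huinv]
            calc u * ((d' : G) * (d : G)⁻¹) * u = u * d' * (1 : G) * (d : G)⁻¹ * u := by group
              _ = u * d' * (u * u) * (d : G)⁻¹ * u := by rw [hu2]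
              _ = _ := by group
        _ = ((d' : G) * ((d : G)⁻¹ * (u * d * u))) * (u * d * u)⁻¹ := by rw [e']; group
        _ = k := by rw [hk]; group
    have hkc : k • c = c := hcu _ (by
      conv_lhs => rw [← hku, ← mul_smul, ← mul_assoc, ← mul_assoc, hu2, one_mul]
      rw [mul_smul, hc])
    have : k = 1 := h3 k a b c hab hcb.symm hca.symm hkD.1 hkD.2 hkc
    rw [hk, mul_inv_eq_one] at this
    exact Subtype.ext this.symm
  rw [eq_top_iff]
  intro g _
  obtain ⟨⟨k, hk⟩, hka, hkb⟩ :=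
    is_two_pretransitive_iff.mp hK2 hab ((MulAction.injective g).ne hab)
  rw [Subgroup.mk_smul] at hka hkb
  have hy : k⁻¹ * g ∈ D :=
    Subgroup.mem_inf.mpr ⟨by rw [mem_stabilizer_iff, mul_smul, ← hka, inv_smul_smul],
      by rw [mem_stabilizer_iff, mul_smul, ← hkb, inv_smul_smul]⟩
  obtain ⟨⟨d, hd⟩, hφd⟩ := (Finite.surjective_of_injective hφ) ⟨_, hy⟩
  have hyd : d⁻¹ * (u * d * u) = k⁻¹ * g := congrArg Subtype.val hφd
  set y := k⁻¹ * g
  have huy : u * y * u = y⁻¹ := by
    rw [← hyd, mul_inv_rev, mul_inv_rev, mul_inv_rev, inv_inv, huinv]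
    calc u * (d⁻¹ * (u * d * u)) * u = u * d⁻¹ * u * d * (u * u) := by group
      _ = u * (d⁻¹ * u) * d := by rw [hu2]; group
  have hy2 : y ^ 2 ∈ K := by
    have h1 : y * u * y⁻¹ ∈ K := hK.conj_mem u huK y
    have h2' : y ^ 2 = y * u * y⁻¹ * u := by
      calc y ^ 2 = y * (y⁻¹)⁻¹ := by rw [inv_inv, pow_two]
        _ = y * (u * y * u)⁻¹ := by rw [huy]
        _ = y * u * y⁻¹ * u := by rw [mul_inv_rev, mul_inv_rev, huinv]; group
    rw [h2']
    exact mul_mem h1 huK
  have hyK : y ∈ K := by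
    obtain ⟨m, hm⟩ := hDodd y hy
    have : y = (y ^ 2) ^ (m + 1) := by
      rw [← pow_mul, show 2 * (m + 1) = orderOf y + 1 by omega, pow_succ, pow_orderOf_eq_one,
        one_mul]
    rw [this]
    exact pow_mem hy2 _
  have := mul_mem hk hyK
  rwa [mul_inv_cancel_left] at this

end Cfsg.Agent.Perm
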