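/-
Point stabilisers of sharply 2-transitive groups as regular linear groups.

* `exists_linearization`
-/
import Cfsg.Agent.Lib.Perm.FrobeniusNormal
import Mathlib.Algebra.Module.ZMod

namespace Cfsg.Agent.Perm

open MulAction

universe u v

/-- An action by automorphisms on an elementary abelian group as a linear action. -/
theorem exists_linear_rep {H T : Type*} [Group H] [CommGroup T] (p : ℕ) [Fact p.Prime]
    [Module (ZMod p) (Additive T)] (ψ : H →* MulAut T) :
    ∃ ρ : H →* (Additive T ≃ₗ[ZMod p] Additive T),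
      ∀ h t, (ρ h (Additive.ofMul t)).toMul = ψ h t := by
  refine ⟨{ toFun := fun g => AddEquiv.toLinearEquiv (MulEquiv.toAdditive (ψ g)) fun c x =>
              ZMod.map_smul (MulEquiv.toAdditive (ψ g)).toAddMonoidHom c x
            map_one' := ?_
            map_mul' := ?_ }, ?_⟩
  · ext x; simp
  · intro g h; ext x; simp [map_mul]; rfl
  · intro h t; rfl

/-- A group acting by automorphisms regularly on the nontrivial elements of a group of exponent
`p` is isomorphic to a regular linear group. -/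
theorem exists_linear_regular_aux {S : Type*} [Group S] {T : Type u} [CommGroup T] [Finite T]
    (p : ℕ) [hp : Fact p.Prime] [Module (ZMod p) (Additive T)] [Nontrivial T] (ψ : S →* MulAut T)
    (hreg : ∀ v w : T, v ≠ 1 → w ≠ 1 → ∃! h, ψ h v = w) :
    ∃ H : Subgroup (Additive T ≃ₗ[ZMod p] Additive T),
      (∀ v w : Additive T, v ≠ 0 → w ≠ 0 →
        ∃! h : H, (h : Additive T ≃ₗ[ZMod p] Additive T) v = w) ∧ Nonempty (S ≃* H) := by
  obtain ⟨ρ, hval⟩ := exists_linear_rep p ψ
  have huniq : ∀ g h : S, ∀ t : T, t ≠ 1 → ψ g t = ψ h t → g = h := fun g h t ht e =>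
    (hreg t (ψ h t) ht ((ψ h).map_eq_one_iff.not.mpr ht)).unique e rfl
  have hinj : Function.Injective ρ := fun g h e => by
    obtain ⟨t, ht⟩ := exists_ne (1 : T)
    exact huniq g h t ht (by rw [← hval g, e]; exact hval h t)
  refine ⟨ρ.range, fun v w hv hw => ?_, ⟨MonoidHom.ofInjective hinj⟩⟩
  obtain ⟨g, hg, hu⟩ := hreg v.toMul w.toMul (fun e => hv e) (fun e => hw e)
  refine ⟨⟨ρ g, g, rfl⟩, Additive.toMul.injective ((hval g v.toMul).trans hg), ?_⟩
  rintro ⟨_, h, rfl⟩ e
  exact Subtype.ext (congrArg ρ (hu h ((hval h v.toMul).symm.trans (congrArg Additive.toMul e))))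

/-- An elementary abelian group with a regular action by automorphisms gives a linear group. -/
theorem exists_linear_regular {S : Type*} [Group S] {T : Type u} [CommGroup T] [Finite T]
    (p : ℕ) [hp : Fact p.Prime] (hexp : ∀ t : T, t ^ p = 1) [Nontrivial T] (ψ : S →* MulAut T)
    (hreg : ∀ v w : T, v ≠ 1 → w ≠ 1 → ∃! h, ψ h v = w) :
    ∃ (p : ℕ) (_ : Fact p.Prime) (V : Type u) (_ : AddCommGroup V) (_ : Module (ZMod p) V)
      (_ : Finite V) (H : Subgroup (V ≃ₗ[ZMod p] V)),
      (∀ v w : V, v ≠ 0 → w ≠ 0 → ∃! h : H, (h : V ≃ₗ[ZMod p] V) v = w) ∧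
        Nat.card V = Nat.card T ∧ Nonempty (S ≃* H) := by
  have hzero : ∀ x : Additive T, p • x = 0 := fun x => by
    apply Additive.toMul.injective
    rw [toMul_nsmul, toMul_zero]
    exact hexp x.toMul
  let : Module (ZMod p) (Additive T) := AddCommGroup.zmodModule hzero
  obtain ⟨H, hH, he⟩ := exists_linear_regular_aux p ψ hreg
  exact ⟨p, hp, Additive T, _, _, inferInstance, H, hH, Nat.card_congr Additive.toMul, he⟩

/-- A point stabiliser of a sharply 2-transitive group is isomorphic to a regular linear group. -/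
theorem exists_linearization {G : Type u} [Group G] {X : Type v} [MulAction G X] [Finite G]
    [Finite X] (hX : 2 ≤ Nat.card X) (h2 : IsMultiplyPretransitive G X 2)
    (hs : ∀ g : G, ∀ a b : X, a ≠ b → g • a = a → g • b = b → g = 1) (o : X) :
    ∃ (p : ℕ) (_ : Fact p.Prime) (V : Type u) (_ : AddCommGroup V) (_ : Module (ZMod p) V)
      (_ : Finite V) (H : Subgroup (V ≃ₗ[ZMod p] V)),
      (∀ v w : V, v ≠ 0 → w ≠ 0 → ∃! h : H, (h : V ≃ₗ[ZMod p] V) v = w) ∧
        Nat.card V = Nat.card X ∧ Nonempty (stabilizer G o ≃* H) := by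
  obtain ⟨p, j, T, hp, -, -, hTn, hTc, hexp, hTt, hTs, -⟩ :=
    exists_regular_of_sharply_two_transitive hX h2 hs
  have : Fact p.Prime := ⟨hp⟩
  have := hTn
  let : CommGroup T := { (inferInstance : Group T) with mul_comm := fun a b => hTc.is_comm.comm a b }
  let ψ : stabilizer G o →* MulAut T := MulAut.conjNormal.comp (stabilizer G o).subtype
  have hψ : ∀ (g : stabilizer G o) (t : T), ψ g t • o = (g : G) • t • o := fun g t => by
    rw [Subgroup.smul_def, Subgroup.smul_def]
    change ((MulAut.conjNormal (g : G) t : T) : G) • o = _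
    rw [MulAut.conjNormal_apply, conj_smul_of_fix _ g.2]
  have hbij := bijective_smul_of_regular hTt hTs o
  have hne : ∀ t : T, t ≠ 1 → t • o ≠ o := fun t ht e =>
    ht (eq_of_smul_eq_of_regular hTs (a := o) (by rw [e, one_smul]))
  have hTX : Nat.card T = Nat.card X := Nat.card_eq_of_bijective _ hbij
  have : Nontrivial T := Finite.one_lt_card_iff_nontrivial.mp (by omega)
  obtain ⟨q, hq, V, iV, iM, iF, H, hH, hcard, he⟩ := exists_linear_regular p
    (fun t => Subtype.ext (hexp _ t.2)) ψ (fun v w hv hw => by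
      obtain ⟨g, hg, hgv⟩ := is_two_pretransitive_iff.mp h2 (hne v hv).symm (hne w hw).symm
      refine ⟨⟨g, hg⟩, hbij.1 ((hψ ⟨g, hg⟩ v).trans hgv), fun h e => ?_⟩
      have h1 := hs ((h : G)⁻¹ * g) o (v • o) (hne v hv).symm
        (by rw [mul_smul, hg, inv_smul_eq_iff, h.2])
        (by rw [mul_smul, hgv, ← e, hψ, inv_smul_smul])
      exact Subtype.ext (inv_mul_eq_one.mp h1))
  exact ⟨q, hq, V, iV, iM, iF, H, hH, hcard.trans hTX, he⟩

end Cfsg.Agent.Perm
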