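/-
Linear groups over the prime field that are regular on the non-zero vectors
(point stabilisers of sharply 2-transitive groups).

* `IsInv f W`, `IsMinInv f W`, `Cover f`
* `isCyclic_of_cover`, `card_dvd_of_cover` : commutative groups all whose vectors lie in minimal
  invariant subspaces
* for `hreg`: `fpf`, `card_eq`, `cover`, `isCyclic_of_commutative`, `eq_neg_of_involution`,
  `centralizer_gt`, `irreducible_of_nonabelian`, `centralizer_eq`
-/
import Cfsg.Agent.EqLemmas
import Mathlib.RingTheory.LittleWedderburn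
import Mathlib.RingTheory.IntegralDomain
import Mathlib.FieldTheory.Minpoly.Finite
import Mathlib.LinearAlgebra.Dimension.Free
import Mathlib.FieldTheory.Finiteness
import Mathlib.Algebra.Polynomial.Roots

namespace Cfsg.Agent.Perm.RegLin

section Generic

variable {K V G : Type*} [Field K] [AddCommGroup V] [Module K V] [Group G]

theorem finite_end [Finite V] {W : Type*} [AddCommGroup W] [Module K W] [Finite W] :
    Finite (V →ₗ[K] W) := Finite.of_injective _ DFunLike.coe_injective

theorem finite_aut [Finite V] : Finite (V ≃ₗ[K] V) :=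
  Finite.of_injective _ DFunLike.coe_injective

/-- `W` is invariant under every `f g`. -/
def IsInv (f : G →* Module.End K V) (W : Submodule K V) : Prop := ∀ g, ∀ v ∈ W, f g v ∈ W

/-- `W` is a minimal non-zero invariant subspace. -/
def IsMinInv (f : G →* Module.End K V) (W : Submodule K V) : Prop :=
  W ≠ ⊥ ∧ IsInv f W ∧ ∀ U : Submodule K V, U ≤ W → IsInv f U → U = ⊥ ∨ U = W

/-- Every non-zero vector lies in a minimal invariant subspace. -/
def Cover (f : G →* Module.End K V) : Prop := ∀ u : V, u ≠ 0 → ∃ W, IsMinInv f W ∧ u ∈ W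

theorem exists_minInv [Finite V] (f : G →* Module.End K V) {U : Submodule K V} (hU : U ≠ ⊥)
    (hi : IsInv f U) : ∃ W ≤ U, IsMinInv f W := by
  obtain ⟨W, ⟨h1, h2, h3⟩, hmin⟩ := Set.Finite.exists_minimal
    (s := {W : Submodule K V | W ≤ U ∧ W ≠ ⊥ ∧ IsInv f W})
    (Set.toFinite _) ⟨U, le_rfl, hU, hi⟩
  refine ⟨W, h1, h2, h3, fun X hX hXi => ?_⟩
  by_cases hX0 : X = ⊥
  · exact Or.inl hX0
  · exact Or.inr (le_antisymm hX (hmin ⟨hX.trans h1, hX0, hXi⟩ hX))

theorem mem_of_mem_adjoin {f : G →* Module.End K V} {W : Submodule K V} (hW : IsInv f W)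
    {r : Module.End K V} (hr : r ∈ Algebra.adjoin K (Set.range f)) : ∀ v ∈ W, r v ∈ W := by
  induction hr using Algebra.adjoin_induction with
  | mem x hx => obtain ⟨g, rfl⟩ := hx; exact hW g
  | algebraMap c => intro v hv; exact W.smul_mem c hv
  | add a b _ _ ha hb => intro v hv; exact W.add_mem (ha v hv) (hb v hv)
  | mul a b _ _ ha hb => intro v hv; exact ha _ (hb v hv)

theorem commute_of_mem_adjoin {f : G →* Module.End K V} (hc : ∀ g h : G, g * h = h * g)
    {r : Module.End K V} (hr : r ∈ Algebra.adjoin K (Set.range f)) (g : G) : Commute (f g) r := by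
  apply Algebra.commute_of_mem_adjoin_of_forall_mem_commute hr
  rintro _ ⟨h, rfl⟩
  change f g * f h = f h * f g
  rw [← map_mul, hc, map_mul]

theorem eq_zero_of_apply {f : G →* Module.End K V} (hcov : Cover f) {r : Module.End K V}
    (hc : ∀ g, Commute (f g) r) (hr : ∀ W, IsInv f W → ∀ v ∈ W, r v ∈ W) {u : V} (hu : u ≠ 0)
    (h : r u = 0) : r = 0 := by
  have hker : IsInv f (LinearMap.ker r) := fun g v hv => by
    rw [LinearMap.mem_ker] at hv ⊢
    have := LinearMap.congr_fun (hc g).eq v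
    simp only [Module.End.mul_apply] at this
    rw [← this, hv, map_zero]
  have key : ∀ W, IsMinInv f W → ∀ v ∈ W, v ≠ 0 → r v = 0 → ∀ w ∈ W, r w = 0 := by
    intro W hW v hv hv0 hrv w hw
    rcases hW.2.2 (W ⊓ LinearMap.ker r) inf_le_left
      (fun g x hx => ⟨hW.2.1 g x hx.1, hker g x hx.2⟩) with e | e
    · exact absurd ((Submodule.eq_bot_iff _).mp e v ⟨hv, hrv⟩) hv0
    · exact ((e.symm ▸ hw : w ∈ W ⊓ LinearMap.ker r)).2
  ext v
  by_contra hv
  simp only [LinearMap.zero_apply] at hv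
  have hv0 : v ≠ 0 := fun e => hv (by rw [e, map_zero])
  have huv : u + v ≠ 0 := fun e => hv (by
    have := congrArg r e
    rwa [map_add, h, zero_add, map_zero] at this)
  obtain ⟨W', hW', hvW'⟩ := hcov v hv0
  obtain ⟨W'', hW'', huvW⟩ := hcov (u + v) huv
  have hrv' : r v ∈ W'' := by
    have := hr W'' hW''.2.1 _ huvW
    rwa [map_add, h, zero_add] at this
  have heq : W'' = W' := by
    rcases hW''.2.2 (W'' ⊓ W') inf_le_left (fun g x hx => ⟨hW''.2.1 g x hx.1, hW'.2.1 g x hx.2⟩)
      with e | e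
    · exact absurd ((Submodule.eq_bot_iff _).mp e _ ⟨hrv', hr W' hW'.2.1 v hvW'⟩) hv
    · rcases hW'.2.2 W'' (e ▸ inf_le_right) hW''.2.1 with e' | e'
      · exact absurd e' hW''.1
      · exact e'
  subst heq
  have huW : u ∈ W'' := by simpa using W''.sub_mem huvW hvW'
  exact hv (key W'' hW'' u huW hu h v hvW')

variable [Finite V] [Nontrivial V] {f : G →* Module.End K V}

theorem noZeroDivisors (hcov : Cover f) (hc : ∀ g h : G, g * h = h * g) :
    IsDomain (Algebra.adjoin K (Set.range f)) := by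
  have : Nontrivial (Algebra.adjoin K (Set.range f)) := ⟨⟨0, 1, fun e => by
    obtain ⟨v, hv⟩ := exists_ne (0 : V)
    exact hv (LinearMap.congr_fun (congrArg Subtype.val e) v).symm⟩⟩
  have : NoZeroDivisors (Algebra.adjoin K (Set.range f)) := ⟨fun {a b} h => by
    by_contra hne
    rw [not_or] at hne
    obtain ⟨v, hv⟩ : ∃ v, (b : Module.End K V) v ≠ 0 := by
      by_contra hall
      push Not at hall
      exact hne.2 (Subtype.ext (LinearMap.ext hall))
    exact hne.1 (Subtype.ext (eq_zero_of_apply hcov (commute_of_mem_adjoin hc a.2)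
      (fun W hW => mem_of_mem_adjoin hW a.2) hv
      (LinearMap.congr_fun (congrArg Subtype.val h) v)))⟩
  exact NoZeroDivisors.to_isDomain _

theorem eval_injective (hcov : Cover f) (hc : ∀ g h : G, g * h = h * g) {w : V} (hw : w ≠ 0)
    {a b : Algebra.adjoin K (Set.range f)}
    (h : (a : Module.End K V) w = (b : Module.End K V) w) : a = b := by
  rw [← sub_eq_zero]
  apply Subtype.ext
  exact eq_zero_of_apply hcov (commute_of_mem_adjoin hc (a - b).2)
    (fun W hW => mem_of_mem_adjoin hW (a - b).2) hw (by simp [h])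

/-- The inclusion of `G` into the algebra it generates. -/
def toAdjoin (f : G →* Module.End K V) : G →* Algebra.adjoin K (Set.range f) :=
  f.codRestrict (Algebra.adjoin K (Set.range f)) fun g => Algebra.subset_adjoin ⟨g, rfl⟩

theorem isCyclic_of_cover [Finite G] (hcov : Cover f) (hc : ∀ g h : G, g * h = h * g)
    (hinj : Function.Injective f) : IsCyclic G := by
  have := noZeroDivisors hcov hc
  let : CommRing (Algebra.adjoin K (Set.range f)) :=
    { (inferInstance : Ring (Algebra.adjoin K (Set.range f))) with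
      mul_comm := fun a b => Subtype.ext <| by
        refine (Algebra.commute_of_mem_adjoin_of_forall_mem_commute b.2 ?_).eq
        rintro _ ⟨g, rfl⟩
        exact (commute_of_mem_adjoin hc a.2 g).symm }
  exact isCyclic_of_injective_ringHom (toAdjoin f) fun a b h => hinj (congrArg Subtype.val h)

theorem finrank_adjoin_le (hcov : Cover f) (hc : ∀ g h : G, g * h = h * g) {W : Submodule K V}
    (hW : IsMinInv f W) :
    Module.finrank K (Algebra.adjoin K (Set.range f)) ≤ Module.finrank K W := by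
  obtain ⟨w, hw, hw0⟩ := W.ne_bot_iff.mp hW.1
  let φ : Algebra.adjoin K (Set.range f) →ₗ[K] W :=
    { toFun := fun r => ⟨(r : Module.End K V) w, mem_of_mem_adjoin hW.2.1 r.2 w hw⟩
      map_add' := fun a b => rfl
      map_smul' := fun c a => rfl }
  exact LinearMap.finrank_le_finrank_of_injective (f := φ) fun a b h =>
    eval_injective hcov hc hw0 (congrArg Subtype.val h)

theorem card_dvd_of_cover [Finite G] (hcov : Cover f) (hc : ∀ g h : G, g * h = h * g)
    (hinj : Function.Injective f) {W : Submodule K V} (hW : IsMinInv f W) :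
    Nat.card G ∣ Nat.card K ^ Module.finrank K W - 1 := by
  obtain ⟨w, hw, hw0⟩ := W.ne_bot_iff.mp hW.1
  have hD := noZeroDivisors hcov hc
  set R := Algebra.adjoin K (Set.range f)
  have := finite_end (K := K) (V := V) (W := V)
  have hf : Finite R := inferInstance
  let := Fintype.ofFinite R
  classical
  let D : DivisionRing R := Fintype.divisionRingOfIsDomain R
  have hev : Nat.card R = Nat.card W := by
    refine Nat.card_eq_of_bijective
      (fun r : R => (⟨(r : Module.End K V) w, mem_of_mem_adjoin hW.2.1 r.2 w hw⟩ : W))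
      ⟨fun a b h => eval_injective hcov hc hw0 (congrArg Subtype.val h), fun v => ?_⟩
    let U : Submodule K V :=
      { carrier := {x | ∃ r ∈ R, r w = x}
        add_mem' := by rintro _ _ ⟨a, ha, rfl⟩ ⟨b, hb, rfl⟩; exact ⟨a + b, add_mem ha hb, rfl⟩
        zero_mem' := ⟨0, zero_mem _, rfl⟩
        smul_mem' := by rintro c _ ⟨a, ha, rfl⟩; exact ⟨c • a, R.smul_mem ha c, rfl⟩ }
    rcases hW.2.2 U (by rintro _ ⟨a, ha, rfl⟩; exact mem_of_mem_adjoin hW.2.1 ha w hw)
      (by rintro g _ ⟨a, ha, rfl⟩; exact ⟨f g * a, mul_mem (Algebra.subset_adjoin ⟨g, rfl⟩) ha, rfl⟩)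
      with e | e
    · exact absurd ((Submodule.eq_bot_iff _).mp e w ⟨1, one_mem _, rfl⟩) hw0
    · obtain ⟨a, ha, hav⟩ : (v : V) ∈ U := e.symm ▸ v.2
      exact ⟨⟨a, ha⟩, Subtype.ext hav⟩
  have h := Subgroup.card_dvd_of_injective (toAdjoin f).toHomUnits
    (fun a b h => hinj (congrArg (fun u : Rˣ => ((u : R) : Module.End K V)) h))
  rw [Nat.card_units, hev, Module.natCard_eq_pow_finrank (K := K) (V := W)] at h
  exact h

end Generic

section Regular

variable {p : ℕ} [Fact p.Prime] {V : Type*} [AddCommGroup V] [Module (ZMod p) V]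
  {H : Subgroup (V ≃ₗ[ZMod p] V)}

/-- A subgroup of `H` as endomorphisms. -/
def toEnd (B : Subgroup H) : B →* Module.End (ZMod p) V where
  toFun b := ((b : H) : V ≃ₗ[ZMod p] V).toLinearMap
  map_one' := rfl
  map_mul' _ _ := rfl

theorem toEnd_apply (B : Subgroup H) (b : B) (v : V) :
    toEnd B b v = ((b : H) : V ≃ₗ[ZMod p] V) v := rfl

theorem toEnd_injective (B : Subgroup H) : Function.Injective (toEnd B) :=
  fun _ _ h => Subtype.ext (Subtype.ext (LinearEquiv.toLinearMap_injective h))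

theorem isInv_toEnd {B : Subgroup H} {W : Submodule (ZMod p) V} :
    IsInv (toEnd B) W ↔ ∀ b ∈ B, ∀ v ∈ W, ((b : H) : V ≃ₗ[ZMod p] V) v ∈ W :=
  ⟨fun h b hb => h ⟨b, hb⟩, fun h b => h b b.2⟩

variable (hreg : ∀ v w : V, v ≠ 0 → w ≠ 0 → ∃! h : H, (h : V ≃ₗ[ZMod p] V) v = w)

include hreg in
theorem fpf {h : H} {v : V} (hv : v ≠ 0) (e : (h : V ≃ₗ[ZMod p] V) v = v) : h = 1 :=
  (hreg v v hv hv).unique e rfl

include hreg in
theorem eq_neg_of_involution {s : H} (hs : s * s = 1) (hs1 : s ≠ 1) (v : V) :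
    (s : V ≃ₗ[ZMod p] V) v = -v := by
  by_contra hne
  refine hs1 (fpf hreg (v := v + (s : V ≃ₗ[ZMod p] V) v)
    (fun e => hne (eq_neg_of_add_eq_zero_right e)) ?_)
  have : (s : V ≃ₗ[ZMod p] V) ((s : V ≃ₗ[ZMod p] V) v) = v :=
    congrArg (fun h : H => (h : V ≃ₗ[ZMod p] V) v) hs
  rw [map_add, this, add_comm]

include hreg in
theorem cover [Finite V] (B : Subgroup H) [hB : B.Normal] {W : Submodule (ZMod p) V}
    (hW : IsMinInv (toEnd B) W) {u : V} (hu : u ≠ 0) :
    ∃ U, IsMinInv (toEnd B) U ∧ u ∈ U ∧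
      Module.finrank (ZMod p) U = Module.finrank (ZMod p) W := by
  obtain ⟨w, hw, hw0⟩ := W.ne_bot_iff.mp hW.1
  obtain ⟨h, hh, -⟩ := hreg w u hw0 hu
  set e := (h : V ≃ₗ[ZMod p] V)
  have hinv : ∀ (k : H) (X : Submodule (ZMod p) V), IsInv (toEnd B) X →
      IsInv (toEnd B) (X.map (k : V ≃ₗ[ZMod p] V).toLinearMap) := by
    intro k X hX
    rw [isInv_toEnd] at hX ⊢
    rintro b hb _ ⟨x, hx, rfl⟩
    refine ⟨((k⁻¹ * b * k : H) : V ≃ₗ[ZMod p] V) x, hX _ (by
      simpa using hB.conj_mem b hb k⁻¹) x hx, ?_⟩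
    change (k : V ≃ₗ[ZMod p] V) (((k : V ≃ₗ[ZMod p] V)⁻¹ * b * k) x) = _
    simp
  refine ⟨W.map e.toLinearMap, ⟨?_, hinv h W hW.2.1, fun X hX hXi => ?_⟩, ⟨w, hw, hh⟩,
    LinearEquiv.finrank_map_eq e W⟩
  · rw [Submodule.ne_bot_iff]
    exact ⟨u, ⟨w, hw, hh⟩, hu⟩
  · have h2 := hinv h⁻¹ X hXi
    have hback : ∀ x, ((h⁻¹ : H) : V ≃ₗ[ZMod p] V) (e x) = x := fun x => e.symm_apply_apply x
    rcases hW.2.2 (X.map ((h⁻¹ : H) : V ≃ₗ[ZMod p] V).toLinearMap)
        (by
          rintro _ ⟨x, hx, rfl⟩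
          obtain ⟨y, hy, rfl⟩ := hX hx
          exact (hback y).symm ▸ hy) h2 with e' | e'
    · left
      rw [Submodule.eq_bot_iff]
      intro x hx
      have := (Submodule.eq_bot_iff _).mp e' _ ⟨x, hx, rfl⟩
      exact ((h⁻¹ : H) : V ≃ₗ[ZMod p] V).map_eq_zero_iff.mp this
    · right
      refine le_antisymm hX ?_
      rintro _ ⟨y, hy, rfl⟩
      obtain ⟨x, hx, hxy⟩ : y ∈ X.map ((h⁻¹ : H) : V ≃ₗ[ZMod p] V).toLinearMap := e' ▸ hy
      rw [← hxy]
      change e (e.symm x) ∈ X
      rw [e.apply_symm_apply]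
      exact hx

include hreg in
theorem card_eq [Finite V] [Nontrivial V] :
    Nat.card H = p ^ Module.finrank (ZMod p) V - 1 := by
  obtain ⟨v, hv⟩ := exists_ne (0 : V)
  have h1 : Nat.card H = Nat.card {w : V // w ≠ 0} := by
    refine Nat.card_eq_of_bijective (fun h : H => ⟨(h : V ≃ₗ[ZMod p] V) v,
      fun e => hv ((h : V ≃ₗ[ZMod p] V).map_eq_zero_iff.mp e)⟩) ⟨fun a b h => ?_, fun w => ?_⟩
    · exact (hreg v _ hv (fun e => hv ((b : V ≃ₗ[ZMod p] V).map_eq_zero_iff.mp e))).unique
        (congrArg Subtype.val h) rfl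
    · obtain ⟨h, hh, -⟩ := hreg v w hv w.2
      exact ⟨h, Subtype.ext hh⟩
  classical
  have := Fintype.ofFinite V
  rw [h1, Nat.card_eq_fintype_card, Fintype.card_subtype_compl, Fintype.card_subtype_eq,
    ← Nat.card_eq_fintype_card, Module.natCard_eq_pow_finrank (K := ZMod p), Nat.card_zmod]

include hreg in
/-- Every abelian subgroup is cyclic. -/
theorem isCyclic_of_commutative [Finite V] [Nontrivial V] (B : Subgroup H)
    (hc : ∀ a b : B, a * b = b * a) : IsCyclic B := by
  obtain ⟨W, -, hW⟩ := exists_minInv (toEnd B) (U := ⊤) top_ne_bot (fun _ _ _ => trivial)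
  let f : B →* Module.End (ZMod p) W :=
    { toFun := fun b => (toEnd B b).restrict (hW.2.1 b)
      map_one' := rfl
      map_mul' := fun _ _ => rfl }
  have hW' : Nontrivial W := Submodule.nontrivial_iff_ne_bot.mpr hW.1
  have hinj : Function.Injective f := fun a b h => by
    obtain ⟨w, hw, hw0⟩ := W.ne_bot_iff.mp hW.1
    have := congrArg Subtype.val (LinearMap.congr_fun h ⟨w, hw⟩)
    have h1 : ((b⁻¹ * a : B) : H) = 1 := fpf hreg hw0 (by
      change ((b : H) : V ≃ₗ[ZMod p] V).symm (((a : H) : V ≃ₗ[ZMod p] V) w) = w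
      rw [LinearEquiv.symm_apply_eq]
      exact this)
    exact (inv_mul_eq_one.mp (Subtype.ext h1)).symm
  have := finite_aut (K := ZMod p) (V := V)
  refine isCyclic_of_cover (f := f) (fun u hu => ⟨⊤, ⟨top_ne_bot, fun _ _ _ => trivial,
    fun X _ hX => ?_⟩, trivial⟩) hc hinj
  rcases hW.2.2 (X.map W.subtype) (Submodule.map_subtype_le W X) (by
      rintro b _ ⟨x, hx, rfl⟩
      exact ⟨f b x, hX b x hx, rfl⟩) with e | e
  · exact Or.inl (Submodule.map_injective_of_injective W.injective_subtype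
      (e.trans (Submodule.map_bot W.subtype).symm))
  · exact Or.inr (Submodule.map_injective_of_injective W.injective_subtype
      (e.trans W.map_subtype_top.symm))

/-- No cyclic normal subgroup is irreducible. -/
def NoIrredCyclic (H : Subgroup (V ≃ₗ[ZMod p] V)) : Prop :=
  ∀ A : Subgroup H, A.Normal → IsCyclic A → ∃ W : Submodule (ZMod p) V, W ≠ ⊥ ∧ W ≠ ⊤ ∧
    ∀ a ∈ A, ∀ v ∈ W, ((a : H) : V ≃ₗ[ZMod p] V) v ∈ W

theorem nontrivial_of_noIrred (hI : NoIrredCyclic H) : Nontrivial V := by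
  obtain ⟨W, hW, -, -⟩ := hI ⊥ inferInstance inferInstance
  obtain ⟨w, -, hw⟩ := W.ne_bot_iff.mp hW
  exact ⟨⟨w, 0, hw⟩⟩

include hreg in
/-- A normal abelian subgroup has a proper minimal invariant subspace of dimension `k` with
`|A| ∣ p ^ k - 1` and `2 k ≤ dim V`. -/
theorem abelian_normal [Finite V] (hI : NoIrredCyclic H) (A : Subgroup H) [A.Normal]
    (hc : ∀ a b : A, a * b = b * a) :
    IsCyclic A ∧ Cover (toEnd A) ∧ ∃ W : Submodule (ZMod p) V, IsMinInv (toEnd A) W ∧ W ≠ ⊤ ∧
      Nat.card A ∣ p ^ Module.finrank (ZMod p) W - 1 ∧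
      2 * Module.finrank (ZMod p) W ≤ Module.finrank (ZMod p) V := by
  have := nontrivial_of_noIrred hI
  have := finite_aut (K := ZMod p) (V := V)
  have hcyc := isCyclic_of_commutative hreg A hc
  obtain ⟨U, hU, hU', hUi⟩ := hI A inferInstance hcyc
  obtain ⟨W, hWU, hW⟩ := exists_minInv (toEnd A) hU (isInv_toEnd.mpr hUi)
  have hcov : Cover (toEnd A) := fun u hu =>
    let ⟨X, h1, h2, _⟩ := cover hreg A hW hu; ⟨X, h1, h2⟩
  have hWtop : W ≠ ⊤ := fun e => hU' (top_le_iff.mp (e ▸ hWU))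
  refine ⟨hcyc, hcov, W, hW, hWtop, ?_, ?_⟩
  · have := card_dvd_of_cover hcov hc (toEnd_injective A) hW
    rwa [Nat.card_zmod] at this
  · obtain ⟨u, -, hu⟩ := SetLike.exists_of_lt hWtop.lt_top
    obtain ⟨X, hX, huX, hXd⟩ := cover hreg A hW (fun e : u = 0 => hu (e ▸ W.zero_mem))
    have hbot : W ⊓ X = ⊥ := by
      rcases hW.2.2 (W ⊓ X) inf_le_left (fun g x hx => ⟨hW.2.1 g x hx.1, hX.2.1 g x hx.2⟩) with e | e
      · exact e
      · rcases hX.2.2 W (e ▸ inf_le_right) hW.2.1 with e' | e'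
        · exact absurd e' hW.1
        · exact absurd (e' ▸ huX) hu
    have h1 := Submodule.finrank_sup_add_finrank_inf_eq W X
    rw [hbot, finrank_bot] at h1
    have h2 := Submodule.finrank_le (W ⊔ X)
    omega

include hreg in
/-- A self-centralizing normal abelian subgroup would be irreducible. -/
theorem centralizer_ne [Finite V] (hI : NoIrredCyclic H) (A : Subgroup H) [hA : A.Normal]
    (hc : ∀ a b : A, a * b = b * a) : Subgroup.centralizer (A : Set H) ≠ A := by
  intro hCA
  have := nontrivial_of_noIrred hI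
  have := finite_aut (K := ZMod p) (V := V)
  obtain ⟨hcyc, hcov, W, hW, -, hdvd, h2k⟩ := abelian_normal hreg hI A hc
  obtain ⟨a, ha⟩ := hcyc.exists_generator
  set R := Algebra.adjoin (ZMod p) (Set.range (toEnd A))
  have hdom := noZeroDivisors hcov hc
  let : CommRing R :=
    { (inferInstance : Ring R) with
      mul_comm := fun x y => Subtype.ext <| by
        refine (Algebra.commute_of_mem_adjoin_of_forall_mem_commute y.2 ?_).eq
        rintro _ ⟨g, rfl⟩
        exact (commute_of_mem_adjoin hc x.2 g).symm }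
  set P := minpoly (ZMod p) (toAdjoin (toEnd A) a) with hPdef
  have hP0 : P ≠ 0 := minpoly.ne_zero (Algebra.IsIntegral.isIntegral _)
  let conj : H ⧸ A → P.rootSet R := Quotient.lift
    (fun h => ⟨toAdjoin (toEnd A) ⟨h * a * h⁻¹, hA.conj_mem a a.2 h⟩, by
      rw [Polynomial.mem_rootSet]
      refine ⟨hP0, Subtype.ext ?_⟩
      rw [← Subalgebra.coe_val, ← Polynomial.aeval_algHom_apply, Subalgebra.coe_val]
      have hconj : ((toAdjoin (toEnd A) ⟨h * a * h⁻¹, hA.conj_mem a a.2 h⟩ : R) :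
          Module.End (ZMod p) V) = (h : V ≃ₗ[ZMod p] V).conjAlgEquiv (ZMod p)
            ((toAdjoin (toEnd A) a : R) : Module.End (ZMod p) V) := by
        ext v
        rfl
      rw [hconj, Polynomial.aeval_algHom_apply, ← Subalgebra.coe_val,
        Polynomial.aeval_algHom_apply, hPdef, minpoly.aeval, map_zero, map_zero]⟩)
    (fun x y hxy => by
      have hmem : x⁻¹ * y ∈ A := QuotientGroup.leftRel_apply.mp hxy
      have : (x⁻¹ * y) * a = a * (x⁻¹ * y) :=
        congrArg Subtype.val (hc ⟨x⁻¹ * y, hmem⟩ a)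
      refine Subtype.ext (congrArg (toAdjoin (toEnd A)) (Subtype.ext ?_))
      calc x * a * x⁻¹ = x * (a * (x⁻¹ * y)) * y⁻¹ := by group
        _ = x * ((x⁻¹ * y) * a) * y⁻¹ := by rw [this]
        _ = y * a * y⁻¹ := by group)
  have hinj : Function.Injective conj := by
    intro x y
    induction x using QuotientGroup.induction_on with
    | H x => induction y using QuotientGroup.induction_on with
      | H y =>
        intro h
        have h1 : (⟨x * a * x⁻¹, hA.conj_mem a a.2 x⟩ : A) = ⟨y * a * y⁻¹, hA.conj_mem a a.2 y⟩ :=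
          toEnd_injective A (congrArg (fun r : P.rootSet R => ((r : R) : Module.End (ZMod p) V)) h)
        have h2 : x * a * x⁻¹ = y * a * y⁻¹ := congrArg Subtype.val h1
        rw [QuotientGroup.eq]
        rw [← hCA, Subgroup.mem_centralizer_iff]
        intro b hb
        have h3 : Commute (a : H) (x⁻¹ * y) :=
          calc (a : H) * (x⁻¹ * y) = x⁻¹ * (x * a * x⁻¹) * y := by group
            _ = x⁻¹ * (y * a * y⁻¹) * y := by rw [h2]
            _ = (x⁻¹ * y) * a := by group
        obtain ⟨n, hn⟩ := Subgroup.mem_zpowers_iff.mp (ha ⟨b, hb⟩)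
        have hb' : b = (a : H) ^ n := by rw [← Subgroup.coe_zpow, hn]
        rw [hb']
        exact (h3.zpow_left n).eq
  have hk : A.index ≤ Module.finrank (ZMod p) W := by
    calc A.index = Nat.card (H ⧸ A) := rfl
      _ ≤ Nat.card (P.rootSet R) := Nat.card_le_card_of_injective conj hinj
      _ = (P.rootSet R).ncard := Nat.card_coe_set_eq _
      _ ≤ P.natDegree := Polynomial.ncard_rootSet_le P R
      _ ≤ Module.finrank (ZMod p) R := minpoly.natDegree_le _
      _ ≤ _ := finrank_adjoin_le hcov hc hW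
  have hH := A.index_mul_card
  rw [card_eq hreg] at hH
  set k := Module.finrank (ZMod p) W
  set n := Module.finrank (ZMod p) V
  have hkpos : 0 < k := Nat.pos_of_ne_zero fun e => hW.1 (Submodule.finrank_eq_zero.mp e)
  have hp := (Fact.out : p.Prime).two_le
  have hAle : Nat.card A ≤ p ^ k - 1 :=
    Nat.le_of_dvd (Nat.sub_pos_of_lt (Nat.one_lt_pow hkpos.ne' (by omega))) hdvd
  have h1 : p ^ n - 1 ≤ k * (p ^ k - 1) := hH ▸ Nat.mul_le_mul hk hAle
  have h2 : p ^ k * p ^ k ≤ p ^ n := by rw [← pow_add]; exact Nat.pow_le_pow_right (by omega) (by omega)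
  have h3 : k < p ^ k := Nat.lt_pow_self (by omega)
  obtain ⟨m, hm⟩ : ∃ m, p ^ k = m + 1 := ⟨p ^ k - 1, by omega⟩
  rw [hm, Nat.add_sub_cancel] at h1
  rw [hm] at h2 h3
  have h4 : k * m ≤ m * m := Nat.mul_le_mul_right m (by omega)
  nlinarith [Nat.sub_add_cancel (show 1 ≤ p ^ n from Nat.one_le_pow _ _ (by omega))]

include hreg in
/-- A non-abelian normal subgroup is irreducible, and its centraliser is abelian. -/
theorem irreducible_of_nonabelian [Finite V] [Nontrivial V] (N : Subgroup H) [N.Normal]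
    (hna : ∃ m n : N, m * n ≠ n * m) :
    (∀ W : Submodule (ZMod p) V, IsInv (toEnd N) W → W = ⊥ ∨ W = ⊤) ∧
      ∀ x y : Subgroup.centralizer (N : Set H), x * y = y * x := by
  classical
  obtain ⟨m₀, n₀, hmn⟩ := hna
  obtain ⟨W, -, hW⟩ := exists_minInv (toEnd N) (U := ⊤) top_ne_bot (fun _ _ _ => trivial)
  have hhom : ∀ (U : Submodule (ZMod p) V), IsInv (toEnd N) U →
      ∀ n : N, ∀ x : U, toEnd N n x ∈ U := fun U hU n x => hU n x x.2
  -- the commuting algebra of a minimal invariant subspace is a field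
  have hfield : ∀ E : Subalgebra (ZMod p) (Module.End (ZMod p) W),
      E = Subalgebra.centralizer (ZMod p)
        (Set.range fun n : N => (toEnd N n).restrict (hW.2.1 n)) →
      IsField E := by
    rintro E rfl
    have : Nontrivial W := Submodule.nontrivial_iff_ne_bot.mpr hW.1
    have : Nontrivial (Subalgebra.centralizer (ZMod p)
        (Set.range fun n : N => (toEnd N n).restrict (hW.2.1 n))) := inferInstance
    have : NoZeroDivisors (Subalgebra.centralizer (ZMod p)
        (Set.range fun n : N => (toEnd N n).restrict (hW.2.1 n))) := ⟨fun {a b} h => by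
      by_contra hne
      rw [not_or] at hne
      have hcomm : ∀ (n : N) (x : W), (⟨toEnd N n ((a : Module.End (ZMod p) W) x),
          hhom W hW.2.1 n _⟩ : W) = (a : Module.End (ZMod p) W) ⟨toEnd N n x, hhom W hW.2.1 n x⟩ :=
        fun n x => LinearMap.congr_fun
          (Subalgebra.mem_centralizer_iff (ZMod p) |>.mp a.2 _ ⟨n, rfl⟩) x
      rcases hW.2.2 ((LinearMap.ker (a : Module.End (ZMod p) W)).map W.subtype)
        (Submodule.map_subtype_le W _) (by
          rintro n _ ⟨x, hx, rfl⟩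
          refine ⟨⟨toEnd N n x, hhom W hW.2.1 n x⟩, ?_, rfl⟩
          change (a : Module.End (ZMod p) W) x = 0 at hx
          change (a : Module.End (ZMod p) W) _ = 0
          rw [← hcomm n x]
          apply Subtype.ext
          change toEnd N n ((a : Module.End (ZMod p) W) x : V) = 0
          rw [hx, ZeroMemClass.coe_zero, map_zero]) with e | e
      · refine hne.2 (Subtype.ext (LinearMap.ext fun x => ?_))
        have h1 : (a : Module.End (ZMod p) W) ((b : Module.End (ZMod p) W) x) = 0 :=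
          LinearMap.congr_fun (congrArg Subtype.val h) x
        exact Subtype.ext ((Submodule.eq_bot_iff _).mp e _ ⟨_, h1, rfl⟩)
      · refine hne.1 (Subtype.ext (LinearMap.ext fun x => ?_))
        obtain ⟨y, hy, hyx⟩ : (x : V) ∈ (LinearMap.ker (a : Module.End (ZMod p) W)).map W.subtype := by
          rw [e]; exact x.2
        rw [← Subtype.ext hyx]
        exact hy⟩
    have := finite_end (K := ZMod p) (V := W) (W := W)
    have := NoZeroDivisors.to_isDomain (Subalgebra.centralizer (ZMod p)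
      (Set.range fun n : N => (toEnd N n).restrict (hW.2.1 n)))
    exact Finite.isDomain_to_isField _
  set E := Subalgebra.centralizer (ZMod p)
    (Set.range fun n : N => (toEnd N n).restrict (hW.2.1 n))
  have hE : IsField E := hfield E rfl
  have hirr : W = ⊤ := by
    by_contra hWt
    obtain ⟨u, -, hu⟩ := SetLike.exists_of_lt (lt_top_iff_ne_top.mpr hWt)
    obtain ⟨U, hU, huU, -⟩ := cover hreg N hW (fun e : u = 0 => hu (e ▸ W.zero_mem))
    have hu0 : u ≠ 0 := fun e => hu (e ▸ W.zero_mem)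
    have hWU : W ⊓ U = ⊥ := by
      rcases hW.2.2 (W ⊓ U) inf_le_left (fun g x hx => ⟨hW.2.1 g x hx.1, hU.2.1 g x hx.2⟩) with e | e
      · exact e
      · rcases hU.2.2 W (e ▸ inf_le_right) hW.2.1 with e' | e'
        · exact absurd e' hW.1
        · exact absurd (e' ▸ huU) hu
    have hdis : ∀ x ∈ W, x ∈ U → x = 0 := fun x h1 h2 => (Submodule.eq_bot_iff _).mp hWU x ⟨h1, h2⟩
    -- an isomorphism between `W` and `U` for every pair of non-zero vectors
    have hiso : ∀ w : W, (w : V) ≠ 0 → ∃ φ : W →ₗ[ZMod p] U,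
        (∀ (n : N) (x : W), φ ⟨toEnd N n x, hhom W hW.2.1 n x⟩ =
          ⟨toEnd N n (φ x), hhom U hU.2.1 n (φ x)⟩) ∧ (φ w : V) = u ∧ Function.Bijective φ := by
      intro w hw
      have hwu : (w : V) + u ≠ 0 := fun e => hu (by
        rw [eq_neg_of_add_eq_zero_right e]; exact W.neg_mem w.2)
      obtain ⟨D, hD, hwD, hDd⟩ := cover hreg N hW hwu
      obtain ⟨U', hU', huU', hUd⟩ := cover hreg N hW hu0
      have hUU : U' = U := by
        rcases hU.2.2 (U ⊓ U') inf_le_left (fun g x hx => ⟨hU.2.1 g x hx.1, hU'.2.1 g x hx.2⟩) with e | e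
        · exact absurd ((Submodule.eq_bot_iff _).mp e u ⟨huU, huU'⟩) hu0
        · rcases hU'.2.2 U (e ▸ inf_le_right) hU.2.1 with e' | e'
          · exact absurd e' hU.1
          · exact e'.symm
      subst hUU
      let M : Submodule (ZMod p) V := W ⊔ U'
      have hDM : D ≤ M := by
        rcases hD.2.2 (D ⊓ M) inf_le_left (fun g x hx => ⟨hD.2.1 g x hx.1, by
          obtain ⟨a, ha, b, hb, rfl⟩ := Submodule.mem_sup.mp hx.2
          rw [map_add]
          exact Submodule.add_mem_sup (hW.2.1 g a ha) (hU'.2.1 g b hb)⟩) with e | e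
        · exact absurd ((Submodule.eq_bot_iff _).mp e _
            ⟨hwD, Submodule.add_mem_sup w.2 huU'⟩) hwu
        · exact e ▸ inf_le_right
      have hsplit : ∀ x : D, ∃! q : W × U', (q.1 : V) + q.2 = x := by
        intro x
        obtain ⟨a, ha, b, hb, hab⟩ := Submodule.mem_sup.mp (hDM x.2)
        refine ⟨(⟨a, ha⟩, ⟨b, hb⟩), hab, fun q hq => ?_⟩
        have h1 : (q.1 : V) - a = b - q.2 := by
          rw [sub_eq_sub_iff_add_eq_add, hq, ← hab, add_comm a b]
        have h2 := hdis _ (W.sub_mem q.1.2 ha) (h1 ▸ U'.sub_mem hb q.2.2)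
        rw [h2] at h1
        exact Prod.ext (Subtype.ext (sub_eq_zero.mp h2)) (Subtype.ext (sub_eq_zero.mp h1.symm).symm)
      choose π hπ hπu using hsplit
      have hlin : ∀ (x y : D) (c : ZMod p), π (c • x + y) = c • π x + π y := fun x y c =>
        (hπu _ _ (by
          simp only [Prod.fst_add, Prod.snd_add, Prod.smul_fst, Prod.smul_snd, Submodule.coe_add,
            Submodule.coe_smul]
          rw [← hπ x, ← hπ y]
          module)).symm
      let π' : D →ₗ[ZMod p] W × U' :=
        { toFun := π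
          map_add' := fun x y => by simpa using hlin x y 1
          map_smul' := fun c x => by
            have h0 : π 0 = 0 := (hπu 0 0 (by simp)).symm
            simpa [h0] using hlin x 0 c }
      have hequiv : ∀ (n : N) (x : D), π ⟨toEnd N n x, hhom D hD.2.1 n x⟩ =
          (⟨toEnd N n (π x).1, hhom W hW.2.1 n _⟩, ⟨toEnd N n (π x).2, hhom U' hU'.2.1 n _⟩) :=
        fun n x => (hπu _ _ (by simp only [← map_add, hπ])).symm
      have h1 : Function.Injective (LinearMap.fst (ZMod p) W U' ∘ₗ π') := by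
        rw [injective_iff_map_eq_zero]
        intro x hx
        change (π x).1 = 0 at hx
        have hx' : (x : V) ∈ U' := by rw [← hπ x, hx, ZeroMemClass.coe_zero, zero_add]; exact (π x).2.2
        rcases hD.2.2 (D ⊓ U') inf_le_left (fun g y hy => ⟨hD.2.1 g y hy.1, hU'.2.1 g y hy.2⟩) with e | e
        · exact Subtype.ext ((Submodule.eq_bot_iff _).mp e _ ⟨x.2, hx'⟩)
        · exfalso
          have hh : (w : V) + u ∈ U' := (e ▸ inf_le_right : D ≤ U') hwD
          exact hw (hdis _ w.2 (by simpa using U'.sub_mem hh huU'))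
      have h2 : Function.Injective (LinearMap.snd (ZMod p) W U' ∘ₗ π') := by
        rw [injective_iff_map_eq_zero]
        intro x hx
        change (π x).2 = 0 at hx
        have hx' : (x : V) ∈ W := by rw [← hπ x, hx, ZeroMemClass.coe_zero, add_zero]; exact (π x).1.2
        rcases hD.2.2 (D ⊓ W) inf_le_left (fun g y hy => ⟨hD.2.1 g y hy.1, hW.2.1 g y hy.2⟩) with e | e
        · exact Subtype.ext ((Submodule.eq_bot_iff _).mp e _ ⟨x.2, hx'⟩)
        · exfalso
          have hh : (w : V) + u ∈ W := (e ▸ inf_le_right : D ≤ W) hwD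
          exact hu (by simpa using W.sub_mem hh w.2)
      let e1 : D ≃ₗ[ZMod p] W := LinearEquiv.ofBijective _
        ⟨h1, (LinearMap.injective_iff_surjective_of_finrank_eq_finrank hDd).mp h1⟩
      let φ := (LinearMap.snd (ZMod p) W U' ∘ₗ π') ∘ₗ (e1.symm : W →ₗ[ZMod p] D)
      refine ⟨φ, fun n x => ?_, ?_, ?_⟩
      · obtain ⟨y, rfl⟩ := e1.surjective x
        have : (⟨toEnd N n (e1 y), hhom W hW.2.1 n (e1 y)⟩ : W) =
            e1 ⟨toEnd N n y, hhom D hD.2.1 n y⟩ := (congrArg Prod.fst (hequiv n y)).symm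
        rw [this]
        simp only [φ, LinearMap.comp_apply, LinearEquiv.coe_coe, LinearEquiv.symm_apply_apply]
        exact congrArg Prod.snd (hequiv n y)
      · have hπw : π ⟨_, hwD⟩ = (w, ⟨u, huU'⟩) := (hπu ⟨_, hwD⟩ (w, ⟨u, huU'⟩) rfl).symm
        have : e1.symm w = ⟨_, hwD⟩ := e1.symm_apply_eq.mpr (congrArg Prod.fst hπw).symm
        simp only [φ, LinearMap.comp_apply, LinearEquiv.coe_coe, this]
        exact congrArg (fun q : W × U' => (q.2 : V)) hπw
      · exact ⟨h2.comp e1.symm.injective,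
          ((LinearMap.injective_iff_surjective_of_finrank_eq_finrank (hDd.trans hUd.symm)).mp h2).comp
            e1.symm.surjective⟩
    obtain ⟨w₀, hw₀, hw₀0⟩ := W.ne_bot_iff.mp hW.1
    -- the commuting algebra moves `w₀` to every non-zero vector of `W`
    have htrans : ∀ x : W, ∃ d ∈ E, (d : Module.End (ZMod p) W) ⟨w₀, hw₀⟩ = x := by
      intro x
      by_cases hx : (x : V) = 0
      · exact ⟨0, zero_mem _, Subtype.ext (by simp [hx])⟩
      obtain ⟨φ, hφ, hφu, hφb⟩ := hiso ⟨w₀, hw₀⟩ hw₀0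
      obtain ⟨ψ, hψ, hψu, hψb⟩ := hiso x hx
      let ψe := LinearEquiv.ofBijective ψ hψb
      refine ⟨(ψe.symm : U →ₗ[ZMod p] W) ∘ₗ φ, ?_, ?_⟩
      · rw [Subalgebra.mem_centralizer_iff]
        rintro _ ⟨n, rfl⟩
        refine LinearMap.ext fun y => ψe.injective ?_
        change ψ ⟨toEnd N n (ψe.symm (φ y)), hhom W hW.2.1 n _⟩ =
          ψe (ψe.symm (φ ⟨toEnd N n y, hhom W hW.2.1 n y⟩))
        rw [ψe.apply_symm_apply, hψ, hφ]
        exact Subtype.ext (congrArg (toEnd N n) (congrArg Subtype.val (ψe.apply_symm_apply (φ y))))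
      · apply ψe.injective
        change ψe (ψe.symm (φ _)) = ψe x
        rw [ψe.apply_symm_apply]
        exact Subtype.ext (hφu.trans hψu.symm)
    -- hence `N` is abelian on `W`
    have hnE : ∀ n : N, ∃ d : E, ∀ x : W,
        (⟨toEnd N n x, hhom W hW.2.1 n x⟩ : W) = (d : Module.End (ZMod p) W) x := by
      intro n
      obtain ⟨d, hd, hdw⟩ := htrans ⟨toEnd N n w₀, hhom W hW.2.1 n ⟨w₀, hw₀⟩⟩
      refine ⟨⟨d, hd⟩, fun x => ?_⟩
      obtain ⟨c, hc, rfl⟩ := htrans x
      have h1 : (⟨toEnd N n (c ⟨w₀, hw₀⟩), hhom W hW.2.1 n _⟩ : W) =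
          c ⟨toEnd N n w₀, hhom W hW.2.1 n ⟨w₀, hw₀⟩⟩ :=
        LinearMap.congr_fun (Subalgebra.mem_centralizer_iff (ZMod p) |>.mp hc _ ⟨n, rfl⟩) ⟨w₀, hw₀⟩
      rw [h1, ← hdw]
      exact LinearMap.congr_fun (congrArg Subtype.val (hE.mul_comm ⟨c, hc⟩ ⟨d, hd⟩)) ⟨w₀, hw₀⟩
    apply hmn
    obtain ⟨dm, hdm⟩ := hnE m₀
    obtain ⟨dn, hdn⟩ := hnE n₀
    have hkey : ∀ a b : N, ∀ da db : E, (∀ x : W, (⟨toEnd N a x, hhom W hW.2.1 a x⟩ : W) =
          (da : Module.End (ZMod p) W) x) → (∀ x : W, (⟨toEnd N b x, hhom W hW.2.1 b x⟩ : W) =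
          (db : Module.End (ZMod p) W) x) →
        toEnd N (a * b) w₀ = ((da * db : E) : Module.End (ZMod p) W) ⟨w₀, hw₀⟩ := by
      intro a b da db ha hb
      change _ = ((da : Module.End (ZMod p) W) ((db : Module.End (ZMod p) W) ⟨w₀, hw₀⟩) : V)
      rw [← hb, ← ha, map_mul]
      rfl
    apply inv_mul_eq_one.mp
    apply Subtype.ext
    refine fpf hreg hw₀0 ?_
    have e1 : toEnd N (m₀ * n₀) w₀ = toEnd N (n₀ * m₀) w₀ := by
      rw [hkey _ _ dm dn hdm hdn, hkey _ _ dn dm hdn hdm, hE.mul_comm]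
    change toEnd N ((m₀ * n₀)⁻¹ * (n₀ * m₀)) w₀ = w₀
    rw [map_mul, Module.End.mul_apply, ← e1, ← Module.End.mul_apply, ← map_mul, inv_mul_cancel,
      map_one]
    rfl
  constructor
  · intro X hX
    subst hirr
    rcases hW.2.2 X le_top hX with e | e
    · exact Or.inl e
    · exact Or.inr e
  · -- the centraliser acts through the commuting field
    intro x y
    have hc : ∀ z : Subgroup.centralizer (N : Set H),
        (((z : H) : V ≃ₗ[ZMod p] V).toLinearMap).restrict
          (p := W) (q := W) (fun v _ => by rw [hirr]; trivial) ∈ E := by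
      intro z
      rw [Subalgebra.mem_centralizer_iff]
      rintro _ ⟨n, rfl⟩
      refine LinearMap.ext fun v => Subtype.ext ?_
      exact LinearEquiv.congr_fun (congrArg Subtype.val
        (Subgroup.mem_centralizer_iff.mp z.2 n n.2)) v
    apply Subtype.ext
    apply Subtype.ext
    ext v
    have := LinearMap.congr_fun (congrArg Subtype.val (hE.mul_comm ⟨_, hc x⟩ ⟨_, hc y⟩))
      ⟨v, hirr ▸ trivial⟩
    exact congrArg Subtype.val this

end Regular

end Cfsg.Agent.Perm.RegLin
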