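/-
The quaternion normal subgroup of a regular linear group without irreducible cyclic normal subgroup.

* `mem_zpowers_of_commute`
* `quaternion_of_minimal` : a solvable minimal non-abelian normal subgroup centralising a maximal
  normal abelian subgroup is quaternion of order 8
* `card_eq_of_quaternion` : then `V` has 25, 49, 121 or 529 elements
-/
import Cfsg.Agent.Lib.Perm.RegularLinear
import Cfsg.Agent.Lib.PGroup.UniqueOrderP
import Cfsg.Agent.S3742
import Mathlib.GroupTheory.Nilpotent
import Mathlib.FieldTheory.Finite.Basic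

open scoped commutatorElement

namespace Cfsg.Agent.Perm.RegLin

variable {p : ℕ} [Fact p.Prime] {V : Type*} [AddCommGroup V] [Module (ZMod p) V] [Finite V]
  [Nontrivial V] {H : Subgroup (V ≃ₗ[ZMod p] V)}
  (hreg : ∀ v w : V, v ≠ 0 → w ≠ 0 → ∃! h : H, (h : V ≃ₗ[ZMod p] V) v = w)

include hreg in
theorem mem_zpowers_of_commute {z y : H} {r : ℕ} (hr : r.Prime) (hz : orderOf z = r)
    (hy : y ^ r = 1) (h : Commute z y) : y ∈ Subgroup.zpowers z := by
  classical
  have := finite_aut (K := ZMod p) (V := V)
  let B := Subgroup.closure ({z, y} : Set H)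
  have hc : ∀ a b : B, a * b = b * a := by
    have := Subgroup.isMulCommutative_closure (G := H) (k := {z, y}) (by
      rintro a (rfl | rfl) b (rfl | rfl)
      exacts [rfl, h.eq, h.eq.symm, rfl])
    exact fun a b => mul_comm' a b
  have := isCyclic_of_commutative hreg B hc
  have := Fintype.ofFinite B
  have hle := IsCyclic.card_pow_eq_one_le (α := B) hr.pos
  let zB : B := ⟨z, Subgroup.subset_closure (by simp)⟩
  let yB : B := ⟨y, Subgroup.subset_closure (by simp)⟩
  have hzB : orderOf zB = r := by rw [← Subgroup.orderOf_coe]; exact hz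
  have hsub : (Finset.univ.filter fun b : B => b ∈ Subgroup.zpowers zB) ⊆
      Finset.univ.filter fun b : B => b ^ r = 1 := fun b hb => by
    simp only [Finset.mem_filter, Finset.mem_univ, true_and] at hb ⊢
    obtain ⟨n, rfl⟩ := Subgroup.mem_zpowers_iff.mp hb
    rw [← zpow_natCast, ← zpow_mul, mul_comm, zpow_mul, zpow_natCast, ← hzB, pow_orderOf_eq_one,
      one_zpow]
  have heq := Finset.eq_of_subset_of_card_le hsub (hle.trans_eq (by
    rw [← hzB, ← Nat.card_zpowers, Nat.card_eq_fintype_card, Fintype.card_subtype]))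
  have : yB ∈ Finset.univ.filter fun b : B => b ∈ Subgroup.zpowers zB := by
    rw [heq, Finset.mem_filter]
    exact ⟨Finset.mem_univ _, Subtype.ext hy⟩
  obtain ⟨n, hn⟩ := Subgroup.mem_zpowers_iff.mp (Finset.mem_filter.mp this).2
  exact Subgroup.mem_zpowers_iff.mpr ⟨n, congrArg Subtype.val hn⟩

include hreg in
/-- A solvable minimal non-abelian normal subgroup centralising a maximal normal abelian subgroup
is quaternion of order 8. -/
theorem quaternion_of_minimal (A : Subgroup H) [A.Normal] (hAc : IsMulCommutative A)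
    (hAmax : ∀ B : Subgroup H, B.Normal → IsMulCommutative B → A ≤ B → B = A) (N : Subgroup H)
    [N.Normal] (hNle : N ≤ Subgroup.centralizer (A : Set H)) (hNna : ¬ IsMulCommutative N)
    (hNmin : ∀ M : Subgroup H, M.Normal → M ≤ N → ¬ IsMulCommutative M → M = N)
    (hsolv : Group.IsSolvable N) : Nonempty (N ≃* QuaternionGroup 2) := by
  have := finite_aut (K := ZMod p) (V := V)
  have : Nontrivial N := by
    by_contra h
    rw [not_nontrivial_iff_subsingleton] at h
    exact hNna ⟨⟨fun a b => Subsingleton.elim _ _⟩⟩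
  -- the derived group lies in `A`
  set D : Subgroup H := ⁅N, N⁆ with hD
  have hDN : D ≤ N := Subgroup.commutator_le_right N N
  have hmap : (commutator N).map N.subtype = D := by
    rw [commutator_def, Subgroup.map_commutator, ← MonoidHom.range_eq_map, N.range_subtype]
  have hDne : D ≠ N := fun h => by
    refine ne_of_lt (IsSolvable.commutator_lt_top_of_nontrivial (G := N)) ?_
    apply Subgroup.map_injective N.subtype_injective
    rw [hmap, h, ← MonoidHom.range_eq_map, N.range_subtype]
  have hDab : IsMulCommutative D := by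
    by_contra h
    exact hDne (hNmin D inferInstance hDN h)
  have hAA : A ≤ Subgroup.centralizer (A : Set H) := fun a ha b hb =>
    congrArg Subtype.val (hAc.is_comm.comm ⟨b, hb⟩ ⟨a, ha⟩)
  have hDD : D ≤ Subgroup.centralizer (D : Set H) := fun a ha b hb =>
    congrArg Subtype.val (hDab.is_comm.comm ⟨b, hb⟩ ⟨a, ha⟩)
  have hsup : A ⊔ D ≤ Subgroup.centralizer ((A ⊔ D : Subgroup H) : Set H) :=
    sup_le (Subgroup.le_centralizer_iff.mp (sup_le hAA (hDN.trans hNle)))
      (Subgroup.le_centralizer_iff.mp
        (sup_le (Subgroup.le_centralizer_iff.mp (hDN.trans hNle)) hDD))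
  have hDA : D ≤ A := by
    have h := hAmax (A ⊔ D) inferInstance
      ⟨⟨fun a b => Subtype.ext (hsup b.2 a a.2)⟩⟩ le_sup_left
    exact le_of_le_of_eq le_sup_right h
  -- hence `N` is nilpotent of class 2
  have hcl : commutator N ≤ Subgroup.center N := fun x hx => by
    have : (x : H) ∈ D := hmap ▸ Subgroup.mem_map_of_mem N.subtype hx
    rw [Subgroup.mem_center_iff]
    exact fun g => Subtype.ext (hNle g.2 x (hDA this)).symm
  have hnil : Group.IsNilpotent N := by
    rw [Subgroup.nilpotent_iff_lowerCentralSeries]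
    refine ⟨2, ?_⟩
    rw [← le_bot_iff]
    exact Subgroup.commutator_le.mpr fun a ha b _ => by
      rw [Subgroup.top_lowerCentralSeries_one] at ha
      rw [Subgroup.mem_bot, commutatorElement_eq_one_iff_mul_comm]
      exact (Subgroup.mem_center_iff.mp (hcl ha) b).symm
  -- so it is a Sylow group
  have hex : ∃ (r : ℕ), r.Prime ∧ IsPGroup r N := by
    by_contra hno
    push Not at hno
    have hall : ∀ (r : ℕ) [Fact r.Prime] (P : Sylow r N), (P : Subgroup N).Normal :=
      by
      have q := (Group.isNilpotent_of_finite_tfae (G := N)).out 0 3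
      exact fun r _ P => q.mp hnil r ‹_› P
    refine hNna ?_
    let e := Sylow.directProductOfNormal (G := N) fun {r} _ P => hall r P
    have hab : ∀ (r : (Nat.card N).primeFactors) (P : Sylow (r : ℕ) N),
        ∀ x y : (P : Subgroup N), x * y = y * x := by
      intro r P x y
      have : Fact (r : ℕ).Prime := ⟨Nat.prime_of_mem_primeFactors r.2⟩
      have := hall r P
      have : (P : Subgroup N).Characteristic := P.characteristic_of_normal (hall r P)
      have hM : IsMulCommutative ((P : Subgroup N).map N.subtype) := by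
        by_contra h
        have := hNmin ((P : Subgroup N).map N.subtype) inferInstance (Subgroup.map_subtype_le _) h
        refine hno r Fact.out (P.2.of_equiv ((Subgroup.topEquiv (G := N)).symm.trans
          (MulEquiv.subgroupCongr ?_)).symm)
        apply Subgroup.map_injective N.subtype_injective
        rw [this, ← MonoidHom.range_eq_map, N.range_subtype]
      exact Subtype.ext (Subtype.ext
        (congrArg (fun u : ((P : Subgroup N).map N.subtype) => (u : H)) (hM.is_comm.comm
          ⟨_, Subgroup.mem_map_of_mem _ x.2⟩ ⟨_, Subgroup.mem_map_of_mem _ y.2⟩)))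
    refine ⟨⟨fun a b => e.symm.injective ?_⟩⟩
    rw [map_mul, map_mul]
    funext r P
    exact hab r P _ _
  obtain ⟨r, hr, hN⟩ := hex
  have : Fact r.Prime := ⟨hr⟩
  obtain ⟨z, hz, hzo⟩ : ∃ z ∈ Subgroup.center N, orderOf z = r := by
    have := hN.center_nontrivial
    obtain ⟨k, hk, hk'⟩ := (hN.to_subgroup (Subgroup.center N)).nontrivial_iff_card.mp this
    obtain ⟨z, hz⟩ := exists_prime_orderOf_dvd_card' (G := Subgroup.center N) r
      (hk' ▸ dvd_pow_self r hk.ne')
    exact ⟨z, z.2, by rw [Subgroup.orderOf_coe, hz]⟩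
  have hzy : ∀ y : N, y ^ r = 1 → y ∈ Subgroup.zpowers z := by
    intro y hy
    obtain ⟨n, hn⟩ := Subgroup.mem_zpowers_iff.mp (mem_zpowers_of_commute hreg (z := (z : H))
      (y := (y : H)) hr (by rw [Subgroup.orderOf_coe, hzo]) (congrArg Subtype.val hy)
      (congrArg Subtype.val ((Subgroup.mem_center_iff.mp hz y).symm : z * y = y * z)))
    exact Subgroup.mem_zpowers_iff.mpr ⟨n, Subtype.ext hn⟩
  have huniq : ∀ x y : N, orderOf x = r → y ^ r = 1 → y ∈ Subgroup.zpowers x := by
    intro x y hx hy
    have hxz := hzy x (hx ▸ pow_orderOf_eq_one x)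
    have : Subgroup.zpowers x = Subgroup.zpowers z := Subgroup.eq_of_le_of_card_ge
      (Subgroup.zpowers_le.mpr hxz) (by rw [Nat.card_zpowers, Nat.card_zpowers, hx, hzo])
    exact this.symm ▸ hzy y hy
  rcases PGroup.unique_order_p_cases hN huniq with hcyc | ⟨-, n, ⟨e⟩⟩
  · exact absurd ⟨⟨fun a b => hcyc.commGroup.mul_comm a b⟩⟩ hNna
  -- class two leaves only the group of order eight
  suffices n = 1 by subst this; exact ⟨e⟩
  rcases n with _ | _ | n
  · refine absurd ⟨⟨fun a b => e.injective ?_⟩⟩ hNna
    rw [map_mul, map_mul]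
    exact (by decide : ∀ x y : QuaternionGroup 1, x * y = y * x) _ _
  · rfl
  · exfalso
    have key : ∀ u v w : QuaternionGroup (2 ^ (n + 2)),
        w * (u * v * u⁻¹ * v⁻¹) = (u * v * u⁻¹ * v⁻¹) * w := by
      intro u v w
      have h : ⁅e.symm u, e.symm v⁆ ∈ Subgroup.center N :=
        hcl (Subgroup.commutator_mem_commutator (Subgroup.mem_top _) (Subgroup.mem_top _))
      have := congrArg e (Subgroup.mem_center_iff.mp h (e.symm w))
      simpa [commutatorElement_def] using this
    have h := key (QuaternionGroup.a 1) (QuaternionGroup.xa 0) (QuaternionGroup.xa 0)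
    have hinv : ∀ i : ZMod (2 * 2 ^ (n + 2)), (QuaternionGroup.a i)⁻¹ = QuaternionGroup.a (-i) :=
      fun i => rfl
    simp only [hinv, mul_assoc, QuaternionGroup.a_mul_xa, QuaternionGroup.xa_mul_a,
      inv_eq_of_mul_eq_one_right, mul_inv_cancel, mul_one] at h
    have hxa : ∀ i j : ZMod (2 * 2 ^ (n + 2)), QuaternionGroup.a i * QuaternionGroup.xa j =
        QuaternionGroup.xa (j - i) := fun i j => rfl
    have hxinv : (QuaternionGroup.xa (0 : ZMod (2 * 2 ^ (n + 2))))⁻¹ =
        QuaternionGroup.xa ((2 ^ (n + 2) : ℕ) + 0 : ZMod (2 * 2 ^ (n + 2))) := rfl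
    simp only [hinv, hxinv, QuaternionGroup.a_mul_a, QuaternionGroup.a_mul_xa,
      QuaternionGroup.xa_mul_a, QuaternionGroup.xa_mul_xa, add_zero, zero_sub, sub_zero,
      QuaternionGroup.xa.injEq] at h
    have hz : ((2 ^ (n + 2) : ℕ) : ZMod (2 * 2 ^ (n + 2))) * 2 = 0 := by
      have := ZMod.natCast_self (2 * 2 ^ (n + 2))
      push_cast at this ⊢
      linear_combination this
    have h4 : ((4 : ℕ) : ZMod (2 * 2 ^ (n + 2))) = 0 := by
      simp only [Nat.cast_ofNat]
      linear_combination h - hz
    rw [ZMod.natCast_eq_zero_iff] at h4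
    have := Nat.le_of_dvd (by norm_num) h4
    have : 4 ≤ 2 ^ (n + 2) := by
      calc 4 = 2 ^ 2 := by norm_num
        _ ≤ _ := Nat.pow_le_pow_right (by norm_num) (by omega)
    omega

/-- Anticommuting square roots of `-1` leave a subspace of dimension at most two invariant. -/
theorem exists_plane (I J : Module.End (ZMod p) V) (hI : I * I = -1) (hJ : J * J = -1)
    (hJI : J * I = -(I * J)) {x y : ZMod p} (hxy : x * x + y * y = -1) (hy : y ≠ 0) :
    ∃ W : Submodule (ZMod p) V, W ≠ ⊥ ∧ (∀ v ∈ W, I v ∈ W) ∧ (∀ v ∈ W, J v ∈ W) ∧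
      Module.finrank (ZMod p) W ≤ 2 := by
  classical
  have hI' : ∀ w, I (I w) = -w := fun w => LinearMap.congr_fun hI w
  have hJ' : ∀ w, J (J w) = -w := fun w => LinearMap.congr_fun hJ w
  have hJI' : ∀ w, J (I w) = -I (J w) := fun w => LinearMap.congr_fun hJI w
  let T : Module.End (ZMod p) V := x • I + y • J
  have hT : ∀ w, T w = x • I w + y • J w := fun w => rfl
  have hTT : ∀ w, T (T w) = w := fun w => by
    simp only [hT, map_add, map_smul, hI', hJ', hJI']
    calc _ = (-(x * x + y * y)) • w := by module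
      _ = w := by rw [hxy, neg_neg, one_smul]
  obtain ⟨v, hv, hTv⟩ : ∃ v, v ≠ 0 ∧ T v = v := by
    obtain ⟨u, hu⟩ := exists_ne (0 : V)
    by_cases h : u + T u = 0
    · have hTu : T u = -u := eq_neg_of_add_eq_zero_right h
      refine ⟨I (J u), fun e => hu ?_, ?_⟩
      · have h1 := congrArg I e
        rw [hI', map_zero, neg_eq_zero] at h1
        have h2 := congrArg J h1
        rwa [hJ', map_zero, neg_eq_zero] at h2
      · have h1 : T (I (J u)) = -I (J (T u)) := by
          simp only [hT, map_add, map_smul, hI', hJ', hJI', map_neg]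
          module
        rw [h1, hTu, map_neg, map_neg, neg_neg]
    · exact ⟨u + T u, h, by rw [map_add, hTT, add_comm]⟩
  have hJv : J v = y⁻¹ • v - (y⁻¹ * x) • I v := by
    have : y • J v = v - x • I v := by
      rw [eq_sub_iff_add_eq', ← hT, hTv]
    calc J v = y⁻¹ • (y • J v) := by rw [smul_smul, inv_mul_cancel₀ hy, one_smul]
      _ = _ := by rw [this, smul_sub, smul_smul]
  refine ⟨Submodule.span (ZMod p) {v, I v}, ?_, ?_, ?_, ?_⟩
  · rw [Submodule.ne_bot_iff]
    exact ⟨v, Submodule.subset_span (by simp), hv⟩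
  · intro w hw
    obtain ⟨a, b, rfl⟩ := Submodule.mem_span_pair.mp hw
    exact Submodule.mem_span_pair.mpr ⟨-b, a, by rw [map_add, map_smul, map_smul, hI']; module⟩
  · intro w hw
    obtain ⟨a, b, rfl⟩ := Submodule.mem_span_pair.mp hw
    refine Submodule.mem_span_pair.mpr ⟨a * y⁻¹ - b * (y⁻¹ * x), -(a * (y⁻¹ * x)) - b * y⁻¹, ?_⟩
    rw [map_add, map_smul, map_smul, hJI', hJv, map_sub, map_smul, map_smul, hI']
    module
  · have h := finrank_span_finset_le_card (R := ZMod p) ({v, I v} : Finset V)
    rw [Finset.coe_insert, Finset.coe_singleton] at h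
    exact h.trans Finset.card_le_two

theorem quaternion_gens (g : QuaternionGroup 2) : ∃ a : Fin 4, ∃ b : Fin 2,
    g = QuaternionGroup.a 1 ^ (a : ℕ) * QuaternionGroup.xa 0 ^ (b : ℕ) := by
  revert g
  decide +kernel

theorem zmod_three_sq : ∀ c : ZMod 3, c * c ≠ -1 := by decide

include hreg in
/-- With a quaternion normal subgroup `V` has 25, 49, 121 or 529 elements. -/
theorem card_eq_of_quaternion (hI : NoIrredCyclic H) (A : Subgroup H) [A.Normal]
    (hAc : IsMulCommutative A)
    (hAmax : ∀ B : Subgroup H, B.Normal → IsMulCommutative B → A ≤ B → B = A) (N : Subgroup H)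
    [N.Normal] (hNle : N ≤ Subgroup.centralizer (A : Set H)) (hNna : ¬ IsMulCommutative N)
    (e : N ≃* QuaternionGroup 2) :
    Nat.card V = 25 ∨ Nat.card V = 49 ∨ Nat.card V = 121 ∨ Nat.card V = 529 := by
  have := finite_aut (K := ZMod p) (V := V)
  have hp := (Fact.out : p.Prime)
  have hna : ∃ m n : N, m * n ≠ n * m := by
    by_contra hall
    push Not at hall
    exact hNna ⟨⟨hall⟩⟩
  obtain ⟨hirr, hcomm⟩ := irreducible_of_nonabelian hreg N hna
  have hCN : Subgroup.centralizer (N : Set H) = A :=
    hAmax _ inferInstance ⟨⟨hcomm⟩⟩ fun a ha n hn => (hNle hn a ha).symm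
  -- the quaternion group in matrices
  set i : N := e.symm (QuaternionGroup.a 1) with hi
  set j : N := e.symm (QuaternionGroup.xa 0) with hj
  have hz : ((i * i : N) : H) * (i * i : N) = 1 ∧ ((i * i : N) : H) ≠ 1 := by
    rw [← Subgroup.coe_mul]
    refine ⟨congrArg Subtype.val (e.injective ?_ : i * i * (i * i) = 1), fun h => ?_⟩
    · simp only [map_mul, map_one, hi, MulEquiv.apply_symm_apply]
      decide
    · have h1 : i * i = 1 := Subtype.ext h
      have h2 := congrArg e h1
      simp only [map_mul, map_one, hi, MulEquiv.apply_symm_apply] at h2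
      revert h2
      decide
  have hneg : toEnd N (i * i) = -1 := LinearMap.ext fun v =>
    eq_neg_of_involution hreg hz.1 hz.2 v
  have hII : toEnd N i * toEnd N i = -1 := by rw [← map_mul, hneg]
  have hJJ : toEnd N j * toEnd N j = -1 := by
    rw [← map_mul, ← hneg]
    congr 1
    apply e.injective
    simp only [map_mul, hi, hj, MulEquiv.apply_symm_apply]
    decide
  have hJI : toEnd N j * toEnd N i = -(toEnd N i * toEnd N j) := by
    rw [← map_mul, show j * i = (i * i) * (i * j) by
      apply e.injective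
      simp only [map_mul, hi, hj, MulEquiv.apply_symm_apply]
      decide, map_mul, hneg, map_mul, neg_one_mul]
  have hp2 : p ≠ 2 := by
    rintro rfl
    apply hz.2
    obtain ⟨v, hv⟩ := exists_ne (0 : V)
    refine fpf hreg hv ?_
    rw [eq_neg_of_involution hreg hz.1 hz.2 v, ← neg_one_smul (ZMod 2) v,
      show (-1 : ZMod 2) = 1 from rfl, one_smul]
  -- so the dimension is two
  obtain ⟨x, y, hxy⟩ := ZMod.sq_add_sq p (-1)
  obtain ⟨W, hW0, hWI, hWJ, hW2⟩ : ∃ W : Submodule (ZMod p) V, W ≠ ⊥ ∧
      (∀ v ∈ W, toEnd N i v ∈ W) ∧ (∀ v ∈ W, toEnd N j v ∈ W) ∧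
      Module.finrank (ZMod p) W ≤ 2 := by
    by_cases hy : y = 0
    · have hx : x ≠ 0 := fun h => by simp [h, hy] at hxy
      obtain ⟨W, h1, h2, h3, h4⟩ := exists_plane (toEnd N j) (toEnd N i) hJJ hII
        (by rw [hJI, neg_neg]) (show y * y + x * x = -1 by linear_combination hxy) hx
      exact ⟨W, h1, h3, h2, h4⟩
    · exact exists_plane (toEnd N i) (toEnd N j) hII hJJ hJI (show x * x + y * y = -1 by linear_combination hxy) hy
  have hWinv : IsInv (toEnd N) W := by
    intro g v hv
    obtain ⟨a, b, hab⟩ := quaternion_gens (e g)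
    have : g = i ^ (a : ℕ) * j ^ (b : ℕ) := by
      apply e.injective
      simp only [map_mul, map_pow, hi, hj, MulEquiv.apply_symm_apply, hab]
    have hpow : ∀ (T : Module.End (ZMod p) V), (∀ w ∈ W, T w ∈ W) → ∀ k : ℕ, ∀ w ∈ W,
        (T ^ k) w ∈ W := fun T hT k => by
      induction k with
      | zero => intro w hw; exact hw
      | succ k ih => intro w hw; rw [pow_succ, Module.End.mul_apply]; exact ih _ (hT w hw)
    rw [this, map_mul, map_pow, map_pow, Module.End.mul_apply]
    exact hpow _ hWI _ _ (hpow _ hWJ _ _ hv)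
  have hWtop : W = ⊤ := (hirr W hWinv).resolve_left hW0
  obtain ⟨-, -, U, hU, hUtop, hdvd, h2k⟩ := abelian_normal hreg hI A hAc.is_comm.comm
  have hk : 0 < Module.finrank (ZMod p) U :=
    Nat.pos_of_ne_zero fun h => hU.1 (Submodule.finrank_eq_zero.mp h)
  rw [hWtop, finrank_top] at hW2
  have hn : Module.finrank (ZMod p) V = 2 := by omega
  have hk1 : Module.finrank (ZMod p) U = 1 := by omega
  rw [hk1, pow_one] at hdvd
  -- the quotient by `A` acts faithfully on the quaternion group
  let φ : H →* MulAut N := MulAut.conjNormal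
  have hker : φ.ker = A := by
    rw [← hCN]
    ext h
    rw [MonoidHom.mem_ker, Subgroup.mem_centralizer_iff]
    constructor
    · intro hh n hn
      have := congrArg (fun u : MulAut N => ((u ⟨n, hn⟩ : N) : H)) hh
      simp only [φ, MulAut.conjNormal_apply, MulAut.one_apply] at this
      calc n * h = (h * n * h⁻¹) * h := by rw [this]
        _ = h * n := by group
    · intro hh
      ext n
      simp only [φ, MulAut.conjNormal_apply, MulAut.one_apply]
      rw [← hh n n.2, mul_inv_cancel_right]
  have hidx : A.index ∣ 24 := by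
    obtain ⟨f⟩ := S3742.result
    rw [← hker, Subgroup.index_ker,
      show (24 : ℕ) = Nat.card (MulAut N) by
        rw [Nat.card_congr ((MulAut.congr e).trans f).toEquiv, Nat.card_perm, Nat.card_fin]
        decide]
    exact Subgroup.card_subgroup_dvd_card _
  have hH := A.index_mul_card
  rw [card_eq hreg, hn] at hH
  rw [Module.natCard_eq_pow_finrank (K := ZMod p), hn, Nat.card_zmod]
  obtain ⟨q, rfl⟩ : ∃ q, p = q + 1 := ⟨p - 1, by have := hp.two_le; omega⟩
  simp only [Nat.add_sub_cancel] at hdvd
  have hq : 0 < q := by have := hp.two_le; omega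
  have hdiv : q + 2 ∣ 24 := by
    have h1 : (q + 2) * q ∣ 24 * q := by
      rw [show (q + 2) * q = (q + 1) ^ 2 - 1 by
        rw [eq_comm, Nat.sub_eq_iff_eq_add (Nat.one_le_pow _ _ (by omega))]; ring, ← hH]
      exact Nat.mul_dvd_mul hidx hdvd
    exact Nat.dvd_of_mul_dvd_mul_right hq h1
  have hne3 : q + 1 ≠ 3 := by
    intro h3
    have hq2 : q = 2 := by omega
    subst hq2
    have hN8 : Nat.card N = 8 := by
      rw [Nat.card_congr e.toEquiv, Nat.card_eq_fintype_card, QuaternionGroup.card]
    have hH8 : Nat.card H = 8 := by rw [card_eq hreg, hn]; rfl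
    have hNtop : N = ⊤ := Subgroup.eq_top_of_card_eq N (by rw [hN8, hH8])
    let C : Subgroup H := Subgroup.zpowers (i : H)
    have hord : orderOf (i : H) = 4 := by
      rw [Subgroup.orderOf_coe, hi, MulEquiv.orderOf_eq, QuaternionGroup.orderOf_a_one]
    have hC : C.index = 2 := by
      have := C.index_mul_card
      rw [hH8, Nat.card_zpowers, hord] at this
      omega
    obtain ⟨L, hL0, hLtop, hL⟩ := hI C (Subgroup.normal_of_index_eq_two hC) inferInstance
    have hL1 : Module.finrank (ZMod (2 + 1)) L = 1 := by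
      have h1 : Module.finrank (ZMod (2 + 1)) L < Module.finrank (ZMod (2 + 1)) V :=
        Submodule.finrank_lt hLtop
      have h2 : 0 < Module.finrank (ZMod (2 + 1)) L :=
        Nat.pos_of_ne_zero fun h => hL0 (Submodule.finrank_eq_zero.mp h)
      omega
    obtain ⟨v, hv, hv0⟩ := L.ne_bot_iff.mp hL0
    obtain ⟨c, hc⟩ := (finrank_eq_one_iff_of_nonzero' (⟨v, hv⟩ : L)
      (fun h => hv0 (congrArg Subtype.val h))).mp hL1 ⟨_, hL _ (Subgroup.mem_zpowers _) v hv⟩
    have hc' : toEnd N i v = c • v := (congrArg Subtype.val hc).symm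
    have h2 := LinearMap.congr_fun hII v
    rw [Module.End.mul_apply, hc', map_smul, hc', smul_smul, LinearMap.neg_apply,
      Module.End.one_apply, ← neg_one_smul (ZMod (2 + 1)) v] at h2
    have := smul_left_injective (ZMod (2 + 1)) hv0 h2
    exact absurd this (zmod_three_sq c)
  have hle := Nat.le_of_dvd (by norm_num) hdiv
  have hle' : q ≤ 22 := by omega
  have hq1 : q ≠ 1 := fun h => hp2 (by omega)
  interval_cases q <;> norm_num at * <;> omega

end Cfsg.Agent.Perm.RegLin
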