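/-
Regular linear groups of even order with one subgroup of order three have a subgroup of index two.

* `exists_hom_two_of_quotient`, `exists_hom_two_of_cyclic_abelian`
* `exists_hom_two`
-/
import Cfsg.Agent.Lib.Perm.RegularLinearQ
import Cfsg.Agent.S0686
import Mathlib.GroupTheory.Transfer
import Mathlib.GroupTheory.SpecificGroups.Cyclic.Basic

namespace Cfsg.Agent.Perm.RegLin

/-- A non-trivial 2-quotient gives a non-trivial map to the group of order two. -/
theorem exists_hom_two_of_quotient {G : Type*} [Group G] [Finite G] (K : Subgroup G) [K.Normal]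
    (hK : K ≠ ⊤) (h2 : IsPGroup 2 (G ⧸ K)) : ∃ f : G →* Multiplicative (ZMod 2), f ≠ 1 := by
  have : Fact (Nat.Prime 2) := ⟨Nat.prime_two⟩
  obtain ⟨e, he⟩ := IsPGroup.iff_card.mp h2
  obtain ⟨k, rfl⟩ : ∃ k, e = k + 1 := ⟨e - 1, by
    have h1 : Nat.card (G ⧸ K) ≠ 1 := fun h => hK (Subgroup.index_eq_one.mp h)
    rw [he] at h1
    rcases e with _ | e
    · simp at h1
    · rfl⟩
  obtain ⟨S, hS⟩ := Sylow.exists_subgroup_card_pow_prime 2 (G := G ⧸ K) (n := k)
    (by rw [he]; exact pow_dvd_pow 2 (Nat.le_succ k))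
  have hidx : S.index = 2 := by
    have h := S.index_mul_card
    rw [hS, he, pow_succ'] at h
    exact Nat.eq_of_mul_eq_mul_right (pow_pos (by norm_num) k) h
  have := Subgroup.normal_of_index_eq_two hidx
  let e2 : ((G ⧸ K) ⧸ S) ≃* Multiplicative (ZMod 2) :=
    mulEquivOfPrimeCardEq (p := 2) (by rw [← Subgroup.index, hidx]) (by simp)
  refine ⟨e2.toMonoidHom.comp ((QuotientGroup.mk' S).comp (QuotientGroup.mk' K)), fun h => ?_⟩
  obtain ⟨q, hq⟩ : ∃ q : G ⧸ K, q ∉ S := by
    by_contra hall
    push Not at hall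
    rw [(Subgroup.eq_top_iff' S).mpr hall, Subgroup.index_top] at hidx
    omega
  obtain ⟨g, rfl⟩ := QuotientGroup.mk_surjective q
  exact hq ((QuotientGroup.eq_one_iff _).mp (e2.injective ((DFunLike.congr_fun h g).trans (map_one e2).symm)))

/-- An extension of a cyclic group by an abelian group has a subgroup of index two if the order is
even. -/
theorem exists_hom_two_of_cyclic_abelian {G : Type*} [Group G] [Finite G] (C : Subgroup G) [C.Normal]
    (hC : IsCyclic C) (hab : ∀ x y : G ⧸ C, x * y = y * x) (hev : 2 ∣ Nat.card G) :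
    ∃ f : G →* Multiplicative (ZMod 2), f ≠ 1 := by
  classical
  have : Fact (Nat.Prime 2) := ⟨Nat.prime_two⟩
  by_cases h2 : 2 ∣ C.index
  · -- the quotient is abelian of even order
    let sq : (G ⧸ C) →* (G ⧸ C) :=
      { toFun := fun x => x ^ 2
        map_one' := one_pow 2
        map_mul' := fun x y => (show Commute x y from hab x y).mul_pow 2 }
    have : sq.range.Normal := ⟨fun n hn g => by rwa [hab g n, mul_inv_cancel_right]⟩
    let q : G →* (G ⧸ C) ⧸ sq.range := (QuotientGroup.mk' sq.range).comp (QuotientGroup.mk' C)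
    have hq : Function.Surjective q :=
      (QuotientGroup.mk'_surjective _).comp (QuotientGroup.mk'_surjective _)
    refine exists_hom_two_of_quotient q.ker (fun htop => ?_)
      (IsPGroup.of_equiv (p := 2) ?_ (QuotientGroup.quotientKerEquivOfSurjective q hq).symm)
    · have hsurj : Function.Surjective sq := fun x => by
        obtain ⟨g, rfl⟩ := QuotientGroup.mk_surjective x
        exact (QuotientGroup.eq_one_iff _).mp (htop.symm ▸ Subgroup.mem_top g : g ∈ q.ker)
      obtain ⟨x, hx⟩ := exists_prime_orderOf_dvd_card' (G := G ⧸ C) 2 h2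
      have hx1 : x = 1 := (Finite.injective_iff_surjective.mpr hsurj) (by
        change x ^ 2 = (1 : G ⧸ C) ^ 2
        rw [← hx, pow_orderOf_eq_one, one_pow])
      rw [hx1, orderOf_one] at hx
      omega
    · intro y
      obtain ⟨x, rfl⟩ := QuotientGroup.mk'_surjective _ y
      exact ⟨1, by rw [pow_one, ← map_pow]; exact (QuotientGroup.eq_one_iff _).mpr ⟨x, rfl⟩⟩
  · -- a cyclic Sylow 2-subgroup
    obtain ⟨P⟩ : Nonempty (Sylow 2 G) := inferInstance
    have hPC : (P : Subgroup G) ≤ C := by
      intro x hx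
      obtain ⟨e, he⟩ := P.2 ⟨x, hx⟩
      rw [← QuotientGroup.eq_one_iff]
      refine orderOf_eq_one_iff.mp (Nat.eq_one_of_dvd_coprimes (a := 2 ^ e) (b := C.index) ?_ ?_
        (orderOf_dvd_natCard _))
      · exact Nat.Coprime.pow_left e ((Nat.prime_two.coprime_iff_not_dvd).mpr h2)
      · apply orderOf_dvd_of_pow_eq_one
        rw [← QuotientGroup.mk_pow, show x ^ 2 ^ e = 1 from congrArg Subtype.val he, QuotientGroup.mk_one]
    have : IsCyclic P := isCyclic_of_injective (Subgroup.inclusion hPC) (Subgroup.inclusion_injective hPC)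
    have hmin : (Nat.card G).minFac = 2 := (Nat.minFac_eq_two_iff _).mpr hev
    have hle := IsCyclic.normalizer_le_centralizer hmin (P := P) ‹_›
    have hcompl := MonoidHom.ker_transferSylow_isComplement' P hle
    set K := (MonoidHom.transferSylow P hle).ker
    have hKidx : K.index = Nat.card (P : Subgroup G) := hcompl.symm.index_eq_card
    obtain ⟨e, he⟩ := IsPGroup.iff_card.mp P.2
    refine exists_hom_two_of_quotient K (fun h => ?_) (IsPGroup.of_card (n := e) (by rw [← Subgroup.index, hKidx, he]))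
    rw [h, Subgroup.index_top] at hKidx
    have := P.card_eq_multiplicity
    rw [← hKidx] at this
    have hpos : 0 < (Nat.card G).factorization 2 :=
      Nat.Prime.factorization_pos_of_dvd Nat.prime_two Nat.card_pos.ne' hev
    exact (Nat.one_lt_pow hpos.ne' (by norm_num : 1 < 2)).ne this

theorem sl25_two_subgroups : ∃ x y : Matrix.SpecialLinearGroup (Fin 2) (ZMod 5),
    x ^ 3 = 1 ∧ y ^ 3 = 1 ∧ x ≠ 1 ∧ y ≠ 1 ∧ y ≠ x ∧ y ≠ x ^ 2 :=
  ⟨⟨!![0, -1; 1, -1], by decide⟩, ⟨!![0, 1; -1, -1], by decide⟩, Subtype.ext (by decide),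
    Subtype.ext (by decide), fun h => absurd (congrArg Subtype.val h) (by decide),
    fun h => absurd (congrArg Subtype.val h) (by decide),
    fun h => absurd (congrArg Subtype.val h) (by decide),
    fun h => absurd (congrArg Subtype.val h) (by decide)⟩

variable {p : ℕ} [Fact p.Prime] {V : Type*} [AddCommGroup V] [Module (ZMod p) V] [Finite V]
  [Nontrivial V] {H : Subgroup (V ≃ₗ[ZMod p] V)}
  (hreg : ∀ v w : V, v ≠ 0 → w ≠ 0 → ∃! h : H, (h : V ≃ₗ[ZMod p] V) v = w)

/-- The centraliser of an irreducible cyclic group is commutative. -/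
theorem comm_centralizer_of_irreducible (A : Subgroup H) (hc : ∀ a b : A, a * b = b * a)
    (hirr : ∀ W : Submodule (ZMod p) V, IsInv (toEnd A) W → W = ⊥ ∨ W = ⊤)
    (x y : Subgroup.centralizer (A : Set H)) : x * y = y * x := by
  set R := Algebra.adjoin (ZMod p) (Set.range (toEnd A))
  have hW : IsMinInv (toEnd A) (⊤ : Submodule (ZMod p) V) :=
    ⟨top_ne_bot, fun _ _ _ => trivial, fun U _ hU => hirr U hU⟩
  have hcov : Cover (toEnd A) := fun u _ => ⟨⊤, hW, trivial⟩
  obtain ⟨w, hw⟩ := exists_ne (0 : V)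
  have hmem : ∀ z : Subgroup.centralizer (A : Set H),
      (((z : H) : V ≃ₗ[ZMod p] V).toLinearMap : Module.End (ZMod p) V) ∈ R := by
    intro z
    let U : Submodule (ZMod p) V :=
      { carrier := {x | ∃ r ∈ R, r w = x}
        add_mem' := by rintro _ _ ⟨a, ha, rfl⟩ ⟨b, hb, rfl⟩; exact ⟨a + b, add_mem ha hb, rfl⟩
        zero_mem' := ⟨0, zero_mem _, rfl⟩
        smul_mem' := by rintro c _ ⟨a, ha, rfl⟩; exact ⟨c • a, R.smul_mem ha c, rfl⟩ }
    have hU : U = ⊤ := (hirr U (by
      rintro g _ ⟨a, ha, rfl⟩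
      exact ⟨toEnd A g * a, mul_mem (Algebra.subset_adjoin ⟨g, rfl⟩) ha, rfl⟩)).resolve_left fun e =>
        hw ((Submodule.eq_bot_iff _).mp e w ⟨1, one_mem _, rfl⟩)
    obtain ⟨r, hr, hrw⟩ : ((z : H) : V ≃ₗ[ZMod p] V) w ∈ U := hU ▸ trivial
    have h0 : ((z : H) : V ≃ₗ[ZMod p] V).toLinearMap - r = 0 := by
      refine eq_zero_of_apply hcov (fun g => Commute.sub_right ?_ (commute_of_mem_adjoin hc hr g))
        (fun W hWi v hv => ?_) hw (by simp [hrw])
      · refine LinearMap.ext fun v => ?_
        exact LinearEquiv.congr_fun (congrArg Subtype.val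
          (Subgroup.mem_centralizer_iff.mp z.2 (g : H) g.2)) v
      · rcases hirr W hWi with rfl | rfl
        · rw [Submodule.mem_bot] at hv ⊢
          rw [hv, map_zero]
        · trivial
    rw [sub_eq_zero.mp h0]
    exact hr
  have hcomm : Commute ((x : H) : V ≃ₗ[ZMod p] V).toLinearMap ((y : H) : V ≃ₗ[ZMod p] V).toLinearMap := by
    refine (Algebra.commute_of_mem_adjoin_of_forall_mem_commute (hmem y) ?_)
    rintro _ ⟨g, rfl⟩
    exact (commute_of_mem_adjoin hc (hmem x) g).symm
  apply Subtype.ext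
  apply Subtype.ext
  ext v
  exact LinearMap.congr_fun hcomm.eq v

include hreg in
theorem index_dvd_of_quaternion (A : Subgroup H) [A.Normal] (N : Subgroup H) [N.Normal]
    (hCN : Subgroup.centralizer (N : Set H) = A) (e : N ≃* QuaternionGroup 2) : A.index ∣ 24 := by
  have := finite_aut (K := ZMod p) (V := V)
  let φ : H →* MulAut N := MulAut.conjNormal
  have hker : φ.ker = A := by
    rw [← hCN]
    ext h
    rw [MonoidHom.mem_ker, Subgroup.mem_centralizer_iff]
    constructor
    · intro hh n hn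
      have := congrArg (fun u : MulAut N => ((u ⟨n, hn⟩ : N) : H)) hh
      simp only [φ, MulAut.conjNormal_apply, MulAut.one_apply] at this
      calc n * h = (h * n * h⁻¹) * h := by rw [this]
        _ = h * n := by group
    · intro hh
      ext n
      simp only [φ, MulAut.conjNormal_apply, MulAut.one_apply]
      rw [← hh n n.2, mul_inv_cancel_right]
  obtain ⟨f⟩ := S3742.result
  rw [← hker, Subgroup.index_ker,
    show (24 : ℕ) = Nat.card (MulAut N) by
      rw [Nat.card_congr ((MulAut.congr e).trans f).toEquiv, Nat.card_perm, Nat.card_fin]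
      decide]
  exact Subgroup.card_subgroup_dvd_card _

include hreg in
/-- A regular linear group of even order with at most one subgroup of order three has a subgroup of
index two. -/
theorem exists_hom_two (hev : 2 ∣ Nat.card H)
    (h3 : ∀ x y : H, orderOf x = 3 → orderOf y = 3 → y ∈ Subgroup.zpowers x) :
    ∃ f : H →* Multiplicative (ZMod 2), f ≠ 1 := by
  have := finite_aut (K := ZMod p) (V := V)
  by_cases hI : NoIrredCyclic H
  swap
  · unfold NoIrredCyclic at hI
    push Not at hI
    obtain ⟨A, hAn, hAc, hirr⟩ := hI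
    have hirr' : ∀ W : Submodule (ZMod p) V, IsInv (toEnd A) W → W = ⊥ ∨ W = ⊤ := by
      intro W hW
      by_contra h
      rw [not_or] at h
      obtain ⟨a, ha, v, hv, hn⟩ := hirr W h.1 h.2
      exact hn (isInv_toEnd.mp hW a ha v hv)
    have hcA : ∀ a b : A, a * b = b * a := fun a b => hAc.commGroup.mul_comm a b
    set C := Subgroup.centralizer (A : Set H)
    have hcC := comm_centralizer_of_irreducible A hcA hirr'
    have hCc := isCyclic_of_commutative hreg C hcC
    let φ : H →* MulAut C := MulAut.conjNormal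
    have hker : φ.ker = C := by
      apply le_antisymm
      · intro h hh
        rw [MonoidHom.mem_ker] at hh
        rw [Subgroup.mem_centralizer_iff]
        intro a ha
        have haC : a ∈ C := fun b hb => congrArg Subtype.val (hcA ⟨b, hb⟩ ⟨a, ha⟩)
        have := congrArg (fun u : MulAut C => ((u ⟨a, haC⟩ : C) : H)) hh
        simp only [φ, MulAut.conjNormal_apply, MulAut.one_apply] at this
        calc a * h = (h * a * h⁻¹) * h := by rw [this]
          _ = h * a := by group
      · intro c hc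
        rw [MonoidHom.mem_ker]
        ext n
        simp only [φ, MulAut.conjNormal_apply, MulAut.one_apply]
        rw [show c * n = n * c from congrArg Subtype.val (hcC ⟨c, hc⟩ n), mul_inv_cancel_right]
    refine exists_hom_two_of_cyclic_abelian C hCc (fun x y => ?_) hev
    induction x using QuotientGroup.induction_on with
    | H x => induction y using QuotientGroup.induction_on with
      | H y =>
        rw [← QuotientGroup.mk_mul, ← QuotientGroup.mk_mul, QuotientGroup.eq, ← hker, MonoidHom.mem_ker]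
        simp only [map_mul, map_inv, mul_inv_rev]
        have hAut : ∀ u v : MulAut C, u * v = v * u := by
          intro u v
          apply (IsCyclic.mulAutMulEquiv C).injective
          rw [map_mul, map_mul, mul_comm]
        rw [hAut (φ y) (φ x)]
        group
  obtain ⟨A, ⟨hAn, hAc⟩, hAmax⟩ := (Set.toFinite
    {B : Subgroup H | B.Normal ∧ IsMulCommutative B}).exists_maximal ⟨⊥, inferInstance, inferInstance⟩
  have hmax : ∀ B : Subgroup H, B.Normal → IsMulCommutative B → A ≤ B → B = A :=
    fun B h1 h2 h3 => le_antisymm (hAmax ⟨h1, h2⟩ h3) h3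
  have := hAn
  have hc : ∀ a b : A, a * b = b * a := hAc.is_comm.comm
  have hne := centralizer_ne hreg hI A hc
  have hC : ¬ IsMulCommutative (Subgroup.centralizer (A : Set H)) := fun h =>
    hne (hmax _ inferInstance h fun a ha b hb => congrArg Subtype.val (hc ⟨b, hb⟩ ⟨a, ha⟩))
  obtain ⟨N, ⟨hNn, hNle, hNna⟩, hNmin⟩ := (Set.toFinite {M : Subgroup H |
    M.Normal ∧ M ≤ Subgroup.centralizer (A : Set H) ∧ ¬ IsMulCommutative M}).exists_minimal
      ⟨_, inferInstance, le_rfl, hC⟩
  have := hNn
  rcases S0686.result H hreg hI A hAn hAc hmax N hNn hNle hNna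
    (fun M h1 h2 h3 => le_antisymm h2 (hNmin ⟨h1, h2.trans hNle, h3⟩ h2)) with ⟨⟨e⟩⟩ | ⟨⟨e⟩⟩
  swap
  · exfalso
    obtain ⟨x, y, hx, hy, hx1, hy1, hxy, hxy2⟩ := sl25_two_subgroups
    have hord : ∀ z, z ^ 3 = 1 → z ≠ 1 → orderOf ((e.symm z : N) : H) = 3 := fun z hz hz1 => by
      rw [Subgroup.orderOf_coe, MulEquiv.orderOf_eq]
      exact orderOf_eq_prime hz hz1
    have hmem := h3 _ _ (hord x hx hx1) (hord y hy hy1)
    obtain ⟨k, hk⟩ := Subgroup.mem_zpowers_iff.mp hmem
    have hk' : x ^ k = y := by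
      apply e.symm.injective
      apply Subtype.ext
      rw [map_zpow, Subgroup.coe_zpow, hk]
    rw [← zpow_mod_orderOf, orderOf_eq_prime hx hx1, Nat.cast_ofNat] at hk'
    have h0 := Int.emod_nonneg k (show (3 : ℤ) ≠ 0 by norm_num)
    have h1 := Int.emod_lt_of_pos k (show (0 : ℤ) < 3 by norm_num)
    interval_cases h : k % 3
    · exact hy1 (by simpa using hk'.symm)
    · exact hxy (by simpa using hk'.symm)
    · exact hxy2 (hk'.symm.trans (zpow_natCast x 2))
  -- the quaternion case: only degree 49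
  obtain ⟨hirr, hcomm⟩ := irreducible_of_nonabelian hreg N (by
    by_contra hall
    push Not at hall
    exact hNna ⟨⟨hall⟩⟩)
  have hCN : Subgroup.centralizer (N : Set H) = A :=
    hmax _ inferInstance ⟨⟨hcomm⟩⟩ fun a ha n hn => (hNle hn a ha).symm
  have hidx := index_dvd_of_quaternion hreg A N hCN e
  have hV := card_eq_of_quaternion hreg hI A hAc hmax N hNle hNna e
  obtain ⟨-, -, U, hU, -, hdvd, h2k⟩ := abelian_normal hreg hI A hc
  have hk : 0 < Module.finrank (ZMod p) U :=
    Nat.pos_of_ne_zero fun h => hU.1 (Submodule.finrank_eq_zero.mp h)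
  have hH := card_eq hreg
  rw [Module.natCard_eq_pow_finrank (K := ZMod p), Nat.card_zmod] at hV
  obtain ⟨hp, hn⟩ : p ∈ ({5, 7, 11, 23} : Finset ℕ) ∧ Module.finrank (ZMod p) V = 2 := by
    have hpp := (Fact.out : p.Prime)
    generalize Module.finrank (ZMod p) V = n at hV h2k ⊢
    have key : ∀ q, q.Prime → p ^ n = q ^ 2 → p = q ∧ n = 2 := by
      intro q hq h
      obtain rfl : p = q := (Nat.prime_dvd_prime_iff_eq hpp hq).mp
        (hpp.dvd_of_dvd_pow (h ▸ dvd_pow_self p (by omega)))
      exact ⟨rfl, Nat.pow_right_injective hpp.two_le h⟩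
    rcases hV with h | h | h | h
    · obtain ⟨rfl, hn⟩ := key 5 (by norm_num) h; exact ⟨by decide, hn⟩
    · obtain ⟨rfl, hn⟩ := key 7 (by norm_num) h; exact ⟨by decide, hn⟩
    · obtain ⟨rfl, hn⟩ := key 11 (by norm_num) h; exact ⟨by decide, hn⟩
    · obtain ⟨rfl, hn⟩ := key 23 (by norm_num) h; exact ⟨by decide, hn⟩
  have hk1 : Module.finrank (ZMod p) U = 1 := by omega
  rw [hk1, pow_one] at hdvd
  rw [hn] at hH
  have : Fact (Nat.Prime 3) := ⟨Nat.prime_three⟩
  have h3H : 3 ∣ Nat.card H := by
    simp only [Finset.mem_insert, Finset.mem_singleton] at hp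
    rw [hH]
    rcases hp with rfl | rfl | rfl | rfl <;> norm_num
  obtain ⟨t, ht⟩ := exists_prime_orderOf_dvd_card' 3 h3H
  have hTn : (Subgroup.zpowers t).Normal := ⟨fun z hz g => by
    obtain ⟨k, rfl⟩ := Subgroup.mem_zpowers_iff.mp hz
    have hg : g * t * g⁻¹ ∈ Subgroup.zpowers t :=
      h3 t _ ht ((MulEquiv.orderOf_eq (MulAut.conj g) t).trans ht)
    have : g * t ^ k * g⁻¹ = (g * t * g⁻¹) ^ k := by rw [conj_zpow]
    rw [this]
    exact zpow_mem hg k⟩
  have htA : t ∈ A := by
    rw [← hCN, Subgroup.mem_centralizer_iff]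
    intro n hn'
    refine Subgroup.commute_of_normal_of_disjoint N (Subgroup.zpowers t) hNn hTn ?_ n t hn'
      (Subgroup.mem_zpowers t)
    rw [disjoint_iff]
    refine Subgroup.inf_eq_bot_of_coprime ?_
    rw [Nat.card_zpowers, ht, Nat.card_congr e.toEquiv, Nat.card_eq_fintype_card, QuaternionGroup.card]
    norm_num
  have h3A : 3 ∣ Nat.card A := ht ▸ Subgroup.orderOf_dvd_natCard A htA
  have hH' := A.index_mul_card
  rw [hH] at hH'
  simp only [Finset.mem_insert, Finset.mem_singleton] at hp
  obtain ⟨m, hm⟩ : ∃ m, A.index = 2 ^ m ∧ 0 < m := by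
    have h31 := h3A.trans hdvd
    rcases hp with rfl | rfl | rfl | rfl
    · omega
    · have hA6 : Nat.card A ≤ 6 := Nat.le_of_dvd (by norm_num) hdvd
      have hidx24 : A.index ≤ 24 := Nat.le_of_dvd (by norm_num) hidx
      refine ⟨3, ?_, by norm_num⟩
      interval_cases hA : Nat.card A <;>
        first
        | omega
        | (exfalso
           have h16 : A.index = 16 := by omega
           rw [h16] at hidx
           norm_num at hidx)
    · omega
    · omega
  refine exists_hom_two_of_quotient A (fun h => ?_) (IsPGroup.of_card (n := m) (by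
    rw [← Subgroup.index]; exact hm.1))
  rw [h, Subgroup.index_top] at hm
  exact (Nat.one_lt_pow hm.2.ne' (by norm_num : 1 < 2)).ne hm.1

end Cfsg.Agent.Perm.RegLin
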