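/-
Conjugacy of maximal p-subgroups inside a subgroup, and joining transitivity.

* `exists_conj_of_pgroups_max`
* `isMultiplyPretransitive_add_of_fixingSubgroup` : if `G` is `m`-transitive and the fixer of an
  `m`-set is `k`-transitive on the rest then `G` is `(m+k)`-transitive
-/
import Cfsg.Agent.Lib.Perm.Basic

namespace Cfsg.Agent.Perm

open MulAction

/-- Two `p`-subgroups of maximal order in `K` are conjugate in `K`. -/
theorem exists_conj_of_pgroups_max {A : Type*} [Group A] [Finite A] {p : ℕ} [Fact p.Prime]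
    {K P Q : Subgroup A} (hP : IsPGroup p P) (hQ : IsPGroup p Q) (hPK : P ≤ K) (hQK : Q ≤ K)
    (hPQ : Nat.card Q = Nat.card P)
    (hmax : ∀ R : Subgroup A, IsPGroup p R → R ≤ K → Nat.card R ≤ Nat.card P) :
    ∃ k ∈ K, Q.map (MulAut.conj k).toMonoidHom = P := by
  have hsyl : ∀ R : Subgroup A, IsPGroup p R → R ≤ K → Nat.card R = Nat.card P →
      ∃ S : Sylow p K, (S : Subgroup K).map K.subtype = R := by
    intro R hR hRK hcard
    obtain ⟨S, hS⟩ := (hR.comap_subtype (K := K)).exists_le_sylow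
    have hle : R ≤ (S : Subgroup K).map K.subtype := fun r hr =>
      ⟨⟨r, hRK hr⟩, hS (Subgroup.mem_subgroupOf.mpr hr), rfl⟩
    refine ⟨S, (Subgroup.eq_of_le_of_card_ge hle ?_).symm⟩
    rw [hcard]
    exact hmax _ (S.2.map K.subtype) (Subgroup.map_subtype_le _)
  obtain ⟨S, hS⟩ := hsyl P hP hPK rfl
  obtain ⟨T, hT⟩ := hsyl Q hQ hQK hPQ
  obtain ⟨k, hk⟩ := MulAction.exists_smul_eq K T S
  refine ⟨k, k.2, ?_⟩
  rw [← hS, ← hT, ← hk, Sylow.coe_subgroup_smul, Subgroup.map_map]
  show _ = Subgroup.map K.subtype ((T : Subgroup K).map (MulAut.conj k).toMonoidHom)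
  rw [Subgroup.map_map]
  rfl

theorem isMultiplyPretransitive_add_of_fixingSubgroup {G X : Type*} [Group G] [MulAction G X]
    {m k : ℕ} {s : Set X} [Finite s] (hs : s.ncard = m) (hm : IsMultiplyPretransitive G X m)
    (hk : IsMultiplyPretransitive (fixingSubgroup G s) (SubMulAction.ofFixingSubgroup G s) k) :
    IsMultiplyPretransitive G X (m + k) := by
  obtain ⟨e⟩ : Nonempty (Fin m ≃ s) := Finite.card_eq.mp (by simp [Nat.card_coe_set_eq, hs])
  let s0 : Fin m ↪ X := e.toEmbedding.trans (Function.Embedding.subtype _)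
  have key : ∀ u : Fin (m + k) ↪ X, ∃ g : G,
      (∀ i, g • u (Fin.castAdd k i) = s0 i) ∧ ∀ j, g • u (Fin.natAdd m j) ∉ s := by
    intro u
    obtain ⟨g, hg⟩ := hm.exists_smul_eq ((Fin.castAddEmb k).trans u) s0
    have hg' : ∀ i, g • u (Fin.castAdd k i) = s0 i := fun i =>
      congrArg (fun v : Fin m ↪ X => v i) hg
    refine ⟨g, hg', fun j hj => ?_⟩
    obtain ⟨i, hi⟩ := e.surjective ⟨_, hj⟩
    have h1 : s0 i = g • u (Fin.natAdd m j) := congrArg Subtype.val hi
    have h2 := congrArg Fin.val (u.injective (MulAction.injective g ((hg' i).trans h1)))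
    simp only [Fin.val_castAdd, Fin.val_natAdd] at h2
    have := i.isLt
    omega
  refine ⟨fun u v => ?_⟩
  obtain ⟨g, hg, hgs⟩ := key u
  obtain ⟨h, hh, hhs⟩ := key v
  let u' : Fin k ↪ SubMulAction.ofFixingSubgroup G s :=
    ⟨fun j => ⟨g • u (Fin.natAdd m j), hgs j⟩, fun a b e' => by
      simpa using u.injective (MulAction.injective g (congrArg Subtype.val e'))⟩
  let v' : Fin k ↪ SubMulAction.ofFixingSubgroup G s :=
    ⟨fun j => ⟨h • v (Fin.natAdd m j), hhs j⟩, fun a b e' => by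
      simpa using v.injective (MulAction.injective h (congrArg Subtype.val e'))⟩
  obtain ⟨n, hn⟩ := hk.exists_smul_eq u' v'
  refine ⟨h⁻¹ * n * g, ?_⟩
  ext i
  rw [Function.Embedding.smul_apply, mul_smul, mul_smul, inv_smul_eq_iff]
  induction i using Fin.addCases with
  | left i => rw [hg, hh]; exact (mem_fixingSubgroup_iff G).mp n.2 _ (e i).2
  | right j => exact congrArg Subtype.val (congrArg (fun w : Fin k ↪ _ => w j) hn)

end Cfsg.Agent.Perm
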