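/-
Permutation modules in characteristic `p`.

* `sylow_isPretransitive_of_card_prime_pow`
* `exists_fixed_ne_zero` : a p-group fixes a non-zero vector of any non-zero invariant subspace
* `constants_le_of_invariant` : for a transitive p-group every non-zero invariant subspace of
  functions contains the constants
* `exists_annihilator` : non-zero invariant annihilator of a proper invariant subspace
* `exists_orbital_map` : a non-constant endomorphism killing the constants, for groups that are not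
  2-transitive
-/
import Cfsg.Agent.Lib.Perm.Regular

namespace Cfsg.Agent.Perm

open MulAction

theorem sylow_isPretransitive_of_card_prime_pow {G Ω : Type*} [Group G] [Finite G] [Finite Ω]
    [MulAction G Ω] [IsPretransitive G Ω] {p f : ℕ} [Fact p.Prime] (hcard : Nat.card Ω = p ^ f)
    (P : Sylow p G) : IsPretransitive (P : Subgroup G) Ω := by
  have hp := (Fact.out : p.Prime)
  have hΩ : Nonempty Ω := (Nat.card_ne_zero.mp (by rw [hcard]; exact pow_ne_zero _ hp.ne_zero)).1
  obtain ⟨a⟩ := hΩ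
  rw [isPretransitive_iff_orbit_eq_univ a, Set.eq_univ_iff_ncard]
  refine le_antisymm ((Set.ncard_le_ncard (Set.subset_univ _)).trans_eq (Set.ncard_univ Ω)) ?_
  have hS : IsPGroup p ((stabilizer (P : Subgroup G) a).map (P : Subgroup G).subtype) :=
    (P.2.to_subgroup _).map _
  have hle : (stabilizer (P : Subgroup G) a).map (P : Subgroup G).subtype ≤ stabilizer G a := by
    rintro _ ⟨x, hx, rfl⟩
    exact hx
  obtain ⟨S, hSle⟩ := (hS.comap_subtype (K := stabilizer G a)).exists_le_sylow
  have h1 : Nat.card (stabilizer (P : Subgroup G) a) ≤ p ^ (Nat.card (stabilizer G a)).factorization p := by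
    rw [← Sylow.card_eq_multiplicity S]
    refine le_trans (le_of_eq ?_) (Subgroup.card_le_of_le hSle)
    exact (Nat.card_congr ((stabilizer (P : Subgroup G) a).equivMapOfInjective _
      (P : Subgroup G).subtype_injective).toEquiv).trans
        (Nat.card_congr (Subgroup.subgroupOfEquivOfLe hle).toEquiv).symm
  have hidx := (stabilizer G a).index_mul_card
  rw [index_stabilizer_of_transitive G a, hcard] at hidx
  have h2 : (Nat.card G).factorization p = f + (Nat.card (stabilizer G a)).factorization p := by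
    rw [← hidx, Nat.factorization_mul (pow_ne_zero _ hp.ne_zero) Nat.card_pos.ne', Finsupp.add_apply,
      Nat.Prime.factorization_pow hp, Finsupp.single_eq_same]
  have h3 : Nat.card (orbit (P : Subgroup G) a) * Nat.card (stabilizer (P : Subgroup G) a)
      = Nat.card (P : Subgroup G) := by
    rw [← Nat.card_prod]
    exact Nat.card_congr (orbitProdStabilizerEquivGroup _ a)
  rw [Sylow.card_eq_multiplicity P, h2, pow_add, ← hcard] at h3
  rw [← Nat.card_coe_set_eq]
  by_contra hlt
  rw [not_le] at hlt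
  exact (Nat.mul_lt_mul_of_lt_of_le hlt h1 (pow_pos hp.pos _)).ne h3

/-- A `p`-group fixes a non-zero vector in every non-zero invariant subspace in characteristic
`p`. -/
theorem exists_fixed_ne_zero {K P V : Type*} [Field K] [Group P] [Finite P] [AddCommGroup V]
    [Module K V] {p : ℕ} [Fact p.Prime] [CharP K p] (hP : IsPGroup p P) (ρ : Representation K P V)
    (W : Submodule K V) (hinv : ∀ g, ∀ w ∈ W, ρ g w ∈ W) (hW : W ≠ ⊥) :
    ∃ w ∈ W, w ≠ 0 ∧ ∀ g, ρ g w = w := by
  classical
  obtain ⟨w₀, hw₀, hw₀0⟩ := W.ne_bot_iff.mp hW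
  let S : Set V := Set.range fun g => ρ g w₀
  let A := AddSubgroup.closure S
  have hpV : ∀ v : V, p • v = 0 := fun v => by
    rw [← Nat.cast_smul_eq_nsmul K, CharP.cast_eq_zero, zero_smul]
  have hAW : ∀ v ∈ A, v ∈ W := fun v hv =>
    (AddSubgroup.closure_le (K := W.toAddSubgroup)).mpr
      (by rintro _ ⟨g, rfl⟩; exact hinv g w₀ hw₀) hv
  have hw₀A : w₀ ∈ A :=
    AddSubgroup.subset_closure ⟨1, by simp⟩
  have hAinv : ∀ g, ∀ v ∈ A, ρ g v ∈ A := by
    intro g v hv
    induction hv using AddSubgroup.closure_induction with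
    | mem x hx =>
      obtain ⟨h, rfl⟩ := hx
      exact AddSubgroup.subset_closure ⟨g * h, by simp⟩
    | zero => rw [map_zero]; exact A.zero_mem
    | add x y _ _ hx hy => rw [map_add]; exact A.add_mem hx hy
    | neg x _ hx => rw [map_neg]; exact A.neg_mem hx
  cases nonempty_fintype P
  have : NeZero p := ⟨(Fact.out : p.Prime).ne_zero⟩
  have hAfin : Finite A := by
    let Φ : (P → ZMod p) →+ V :=
      { toFun := fun c => ∑ g, (ZMod.castHom (dvd_refl p) K (c g)) • ρ g w₀
        map_zero' := by simp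
        map_add' := fun c d => by simp [add_smul, Finset.sum_add_distrib] }
    have hAle : A ≤ Φ.range := by
      rw [AddSubgroup.closure_le]
      rintro _ ⟨g, rfl⟩
      refine ⟨Pi.single g 1, ?_⟩
      show ∑ x, (ZMod.castHom (dvd_refl p) K ((Pi.single g 1 : P → ZMod p) x)) • ρ x w₀ = _
      rw [Finset.sum_eq_single_of_mem g (Finset.mem_univ g) (fun x _ hx => by
        rw [Pi.single_eq_of_ne hx, map_zero, zero_smul]), Pi.single_eq_same, map_one, one_smul]
    have : Finite Φ.range := Set.Finite.to_subtype (Set.finite_range Φ)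
    exact Finite.of_injective _ (AddSubgroup.inclusion_injective hAle)
  let act : MulAction P A :=
    { smul := fun g v => ⟨ρ g v, hAinv g v v.2⟩
      one_smul := fun v => Subtype.ext (by show ρ 1 (v : V) = v; rw [map_one]; rfl)
      mul_smul := fun g h v => Subtype.ext (by
        show ρ (g * h) (v : V) = ρ g (ρ h v)
        rw [map_mul]; rfl) }
  have hdvd : p ∣ Nat.card A := by
    have h1 : addOrderOf (⟨w₀, hw₀A⟩ : A) = p :=
      addOrderOf_eq_prime (Subtype.ext (hpV w₀)) fun e => hw₀0 (congrArg Subtype.val e)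
    exact h1 ▸ addOrderOf_dvd_natCard _
  obtain ⟨⟨v, hv⟩, hvf, hv0⟩ := hP.exists_fixed_point_of_prime_dvd_card_of_fixed_point A hdvd
    (a := (0 : A)) (fun g => Subtype.ext (map_zero (ρ g)))
  exact ⟨v, hAW v hv, fun e => hv0 (Subtype.ext e.symm), fun g => congrArg Subtype.val (hvf g)⟩

variable {G Ω K : Type*} [Group G] [MulAction G Ω] [Field K]

theorem constants_le_of_invariant [Finite G] {p : ℕ} [Fact p.Prime] [CharP K p] (hP : IsPGroup p G)
    [IsPretransitive G Ω] (W : Submodule K (Ω → K))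
    (hinv : ∀ g, ∀ w ∈ W, Cfsg.permRep K G Ω g w ∈ W) (hW : W ≠ ⊥) : (fun _ => (1 : K)) ∈ W := by
  obtain ⟨w, hw, hw0, hfix⟩ := exists_fixed_ne_zero hP (Cfsg.permRep K G Ω) W hinv hW
  obtain ⟨a, ha⟩ := Function.ne_iff.mp hw0
  have hconst : ∀ x, w x = w a := fun x => by
    obtain ⟨g, rfl⟩ := exists_smul_eq G a x
    have := congrFun (hfix g) (g • a)
    rw [← this]
    show w (g⁻¹ • g • a) = w a
    rw [inv_smul_smul]
  have h : (fun _ => (1 : K)) = (w a)⁻¹ • w := funext fun x => by
    rw [Pi.smul_apply, smul_eq_mul, hconst x, inv_mul_cancel₀ ha]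
  rw [h]
  exact W.smul_mem _ hw

theorem exists_annihilator [Fintype Ω] (U : Submodule K (Ω → K))
    (hinv : ∀ g, ∀ w ∈ U, Cfsg.permRep K G Ω g w ∈ U) (hU : U ≠ ⊤) :
    ∃ V : Submodule K (Ω → K), V ≠ ⊥ ∧ (∀ g, ∀ w ∈ V, Cfsg.permRep K G Ω g w ∈ V) ∧
      ∀ v ∈ V, ∀ u ∈ U, ∑ x, v x * u x = 0 := by
  classical
  let V : Submodule K (Ω → K) :=
    { carrier := {v | ∀ u ∈ U, ∑ x, v x * u x = 0}
      add_mem' := fun {v w} hv hw u hu => by
        simp only [Pi.add_apply, add_mul, Finset.sum_add_distrib, hv u hu, hw u hu, add_zero]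
      zero_mem' := fun u _ => by simp
      smul_mem' := fun c v hv u hu => by
        simp only [Pi.smul_apply, smul_eq_mul, mul_assoc, ← Finset.mul_sum, hv u hu, mul_zero] }
  refine ⟨V, ?_, fun g w hw u hu => ?_, fun v hv => hv⟩
  · obtain ⟨φ, hφ0, hφU⟩ := Submodule.exists_dual_map_eq_bot_of_lt_top (lt_top_iff_ne_top.mpr hU)
      inferInstance
    intro hV
    apply hφ0
    have hmem : (fun x => φ (Pi.single x 1)) ∈ V := fun u hu => by
      have hu0 : φ u = 0 := (Submodule.eq_bot_iff _).mp hφU _ (Submodule.mem_map_of_mem hu)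
      refine Eq.trans ?_ hu0
      conv_rhs => rw [pi_eq_sum_univ' u]
      rw [map_sum]
      exact Finset.sum_congr rfl fun x _ => by rw [map_smul, smul_eq_mul, mul_comm]
    rw [hV, Submodule.mem_bot] at hmem
    refine LinearMap.pi_ext fun x c => ?_
    rw [show (Pi.single x c : Ω → K) = c • Pi.single x (1 : K) by
      rw [← Pi.single_smul, smul_eq_mul, mul_one], map_smul, LinearMap.zero_apply,
      show φ (Pi.single x 1) = 0 from congrFun hmem x, smul_zero]
  · rw [← hw _ (hinv g⁻¹ u hu)]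
    show ∑ x, w (g⁻¹ • x) * u x = ∑ x, w x * u ((g⁻¹)⁻¹ • x)
    refine Fintype.sum_equiv (MulAction.toPerm g⁻¹) _ _ fun x => ?_
    show w (g⁻¹ • x) * u x = w (g⁻¹ • x) * u (g⁻¹⁻¹ • g⁻¹ • x)
    rw [inv_smul_smul]

theorem exists_orbital_map [Fintype Ω] [IsPretransitive G Ω]
    (h2 : ¬ IsMultiplyPretransitive G Ω 2) :
    ∃ φ : (Ω → K) →ₗ[K] (Ω → K), (∀ g v, φ (Cfsg.permRep K G Ω g v) = Cfsg.permRep K G Ω g (φ v)) ∧
      φ (fun _ => 1) = 0 ∧ (∀ v, ∑ y, φ v y = 0) ∧
      ∃ (a : Ω) (v : Ω → K) (b b' : Ω), v a = 1 ∧ (∀ x, x ≠ a → v x = 0) ∧ φ v b ≠ φ v b' := by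
  classical
  rw [is_two_pretransitive_iff] at h2
  push Not at h2
  obtain ⟨a, b, c, d, hab, hcd, hno⟩ := h2
  obtain ⟨g₀, hg₀⟩ := exists_smul_eq G c a
  set b' := g₀ • d with hb'
  have hb'a : b' ≠ a := fun e => hcd (MulAction.injective g₀ (hg₀.trans e.symm))
  have hno' : ∀ g : G, g • a = a → g • b ≠ b' := fun g h1 h2 =>
    hno (g₀⁻¹ * g) (by rw [mul_smul, h1, ← hg₀, inv_smul_smul])
      (by rw [mul_smul, h2, hb', inv_smul_smul])
  let R : Ω → Ω → Prop := fun x y => ∃ g : G, g • a = x ∧ g • b = y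
  have hR : ∀ (g : G) x y, R (g • x) (g • y) ↔ R x y := by
    intro g x y
    constructor
    · rintro ⟨h, h1, h2⟩
      exact ⟨g⁻¹ * h, by rw [mul_smul, h1, inv_smul_smul], by rw [mul_smul, h2, inv_smul_smul]⟩
    · rintro ⟨h, h1, h2⟩
      exact ⟨g * h, by rw [mul_smul, h1], by rw [mul_smul, h2]⟩
  let d₁ : Ω → ℕ := fun x => (Finset.univ.filter fun y => R x y).card
  let d₂ : Ω → ℕ := fun y => (Finset.univ.filter fun x => R x y).card
  have hd₁ : ∀ x, d₁ x = d₁ a := by
    intro x
    obtain ⟨g, rfl⟩ := exists_smul_eq G a x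
    refine (Finset.card_equiv (MulAction.toPerm g) fun y => ?_).symm
    simp only [Finset.mem_filter, Finset.mem_univ, true_and, toPerm_apply, hR]
  have hd₂ : ∀ y, d₂ y = d₂ a := by
    intro y
    obtain ⟨g, rfl⟩ := exists_smul_eq G a y
    refine (Finset.card_equiv (MulAction.toPerm g) fun x => ?_).symm
    simp only [Finset.mem_filter, Finset.mem_univ, true_and, toPerm_apply, hR]
  have hdeq : d₁ a = d₂ a := by
    have h := Finset.sum_card_bipartiteAbove_eq_sum_card_bipartiteBelow R
      (s := (Finset.univ : Finset Ω)) (t := (Finset.univ : Finset Ω))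
    have h' : ∑ x, d₁ x = ∑ y, d₂ y := h
    simp only [hd₁, hd₂, Finset.sum_const, smul_eq_mul, Finset.card_univ] at h'
    exact Nat.eq_of_mul_eq_mul_left (Fintype.card_pos_iff.mpr ⟨a⟩) h'
  let φ : (Ω → K) →ₗ[K] (Ω → K) :=
    { toFun := fun v y => (∑ x ∈ Finset.univ.filter (fun x => R x y), v x) - (d₁ a : K) * v y
      map_add' := fun u v => funext fun y => by simp [Finset.sum_add_distrib]; ring
      map_smul' := fun t v => funext fun y => by
        simp only [Pi.smul_apply, smul_eq_mul, RingHom.id_apply]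
        rw [← Finset.mul_sum]
        ring }
  refine ⟨φ, fun g v => funext fun y => ?_, funext fun y => ?_, fun v => ?_,
    a, Pi.single a 1, b, b', by simp,
    fun x hx => by simp [hx], ?_⟩
  · show (∑ x ∈ Finset.univ.filter (fun x => R x y), v (g⁻¹ • x)) - (d₁ a : K) * v (g⁻¹ • y)
      = (∑ x ∈ Finset.univ.filter (fun x => R x (g⁻¹ • y)), v x) - (d₁ a : K) * v (g⁻¹ • y)
    congr 1
    refine Finset.sum_equiv (MulAction.toPerm g⁻¹) (fun x => ?_) fun x _ => rfl
    simp only [Finset.mem_filter, Finset.mem_univ, true_and, toPerm_apply, hR]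
  · show (∑ _x ∈ Finset.univ.filter (fun x => R x y), (1 : K)) - (d₁ a : K) * 1 = 0
    rw [Finset.sum_const, nsmul_eq_mul, mul_one, show (Finset.univ.filter fun x => R x y).card = d₁ a
      from (hd₂ y).trans hdeq.symm, mul_one, sub_self]
  · show ∑ y, ((∑ x ∈ Finset.univ.filter (fun x => R x y), v x) - (d₁ a : K) * v y) = 0
    rw [Finset.sum_sub_distrib, Finset.sum_comm' (s' := fun x => Finset.univ.filter fun y => R x y)
      (t' := Finset.univ) (fun y x => by simp)]
    simp only [Finset.sum_const, nsmul_eq_mul]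
    rw [sub_eq_zero]
    exact Finset.sum_congr rfl fun x _ => by rw [show (Finset.univ.filter fun y => R x y).card = d₁ a
      from hd₁ x]
  · show (∑ x ∈ Finset.univ.filter (fun x => R x b), (Pi.single a 1 : Ω → K) x) - _ ≠
      (∑ x ∈ Finset.univ.filter (fun x => R x b'), (Pi.single a 1 : Ω → K) x) - _
    rw [Finset.sum_pi_single', Finset.sum_pi_single', Pi.single_eq_of_ne hab.symm,
      Pi.single_eq_of_ne hb'a, if_pos (by simpa using ⟨1, one_smul G a, one_smul G b⟩),
      if_neg (by
        simp only [Finset.mem_filter, Finset.mem_univ, true_and]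
        rintro ⟨g, h1, h2⟩
        exact hno' g h1 h2)]
    simp

end Cfsg.Agent.Perm
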