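/-
Centralisers of transitive permutation groups in the full symmetric group.

* `eq_one_of_commute_of_fix`, `eq_of_commute_of_apply_eq`
* `exists_commuting_perm_of_regular` : the centraliser of a regular group is transitive
* `centralizer_eq_of_transitive` : a transitive subgroup of the centraliser of a transitive group
  is the whole centraliser
* `commute_of_minimal_normal` : distinct minimal normal subgroups commute elementwise
* `map_le_centralizer_of_commute`
-/
import Cfsg.Agent.Lib.Perm.Regular

namespace Cfsg.Agent.Perm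

open MulAction

variable {α : Type*}

theorem eq_one_of_commute_of_fix {S : Subgroup (Equiv.Perm α)} (hS : IsPretransitive S α)
    {c : Equiv.Perm α} (hc : c ∈ Subgroup.centralizer (S : Set (Equiv.Perm α))) {a : α}
    (ha : c a = a) : c = 1 := by
  ext x
  obtain ⟨⟨g, hg⟩, rfl⟩ := exists_smul_eq S a x
  have h := congrArg (fun σ : Equiv.Perm α => σ a) (Subgroup.mem_centralizer_iff.mp hc g hg)
  simp only [Equiv.Perm.mul_apply, ha] at h
  simpa [Subgroup.smul_def, Equiv.Perm.smul_def] using h.symm

theorem eq_of_commute_of_apply_eq {S : Subgroup (Equiv.Perm α)} (hS : IsPretransitive S α)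
    {c d : Equiv.Perm α} (hc : c ∈ Subgroup.centralizer (S : Set (Equiv.Perm α)))
    (hd : d ∈ Subgroup.centralizer (S : Set (Equiv.Perm α))) {a : α} (ha : c a = d a) : c = d := by
  have := eq_one_of_commute_of_fix hS (mul_mem (inv_mem hd) hc) (a := a) (by
    rw [Equiv.Perm.mul_apply, ha, Equiv.Perm.inv_def, Equiv.symm_apply_apply])
  exact (inv_mul_eq_one.mp this).symm

/-- A transitive subgroup of the centraliser of a transitive group is the whole centraliser. -/
theorem centralizer_eq_of_transitive {S T : Subgroup (Equiv.Perm α)} [Nonempty α]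
    (hS : IsPretransitive S α) (hT : IsPretransitive T α)
    (hle : T ≤ Subgroup.centralizer (S : Set (Equiv.Perm α))) :
    Subgroup.centralizer (S : Set (Equiv.Perm α)) = T := by
  refine le_antisymm (fun c hc => ?_) hle
  obtain ⟨a⟩ := (inferInstance : Nonempty α)
  obtain ⟨⟨t, ht⟩, h⟩ := exists_smul_eq T a (c a)
  rw [eq_of_commute_of_apply_eq hS hc (hle ht) (a := a)
    (by simpa [Subgroup.smul_def, Equiv.Perm.smul_def] using h.symm)]
  exact ht

theorem exists_commuting_perm_of_regular {G : Type*} [Group G] [MulAction G α]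
    (ht : IsPretransitive G α) (hreg : ∀ x : α, stabilizer G x = ⊥) (a b : α) :
    ∃ c : Equiv.Perm α, c a = b ∧ ∀ (g : G) (x : α), c (g • x) = g • c x := by
  have hinj : ∀ y : α, Function.Injective fun g : G => g • y := by
    intro y g h e
    have : h⁻¹ * g ∈ stabilizer G y := by
      rw [mem_stabilizer_iff, mul_smul]
      simp only at e
      rw [e, inv_smul_smul]
    rw [hreg y, Subgroup.mem_bot, inv_mul_eq_one] at this
    exact this.symm
  let ea : G ≃ α := Equiv.ofBijective _ ⟨hinj a, fun x => exists_smul_eq G a x⟩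
  let eb : G ≃ α := Equiv.ofBijective _ ⟨hinj b, fun x => exists_smul_eq G b x⟩
  have hea : ∀ g : G, ea g = g • a := fun g => rfl
  have heb : ∀ g : G, eb g = g • b := fun g => rfl
  refine ⟨ea.symm.trans eb, ?_, fun g x => ?_⟩
  · rw [Equiv.trans_apply, heb,
      show ea.symm a = 1 from ea.symm_apply_eq.mpr (by rw [hea, one_smul]), one_smul]
  · obtain ⟨h, rfl⟩ := exists_smul_eq G a x
    rw [smul_smul, Equiv.trans_apply, Equiv.trans_apply, ← hea, ← hea, Equiv.symm_apply_apply,
      Equiv.symm_apply_apply, heb, heb, mul_smul]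

theorem commute_of_minimal_normal {G : Type*} [Group G] {M N : Subgroup G} [hMn : M.Normal]
    [hNn : N.Normal] (hMmin : ∀ L : Subgroup G, L.Normal → L ≤ M → L = ⊥ ∨ L = M)
    (hNmin : ∀ L : Subgroup G, L.Normal → L ≤ N → L = ⊥ ∨ L = N) (hMN : M ≠ N) :
    Disjoint M N ∧ ∀ m ∈ M, ∀ n ∈ N, Commute m n := by
  have hd : Disjoint M N := by
    rw [disjoint_iff]
    rcases hMmin (M ⊓ N) inferInstance inf_le_left with h | h
    · exact h
    rcases hNmin (M ⊓ N) inferInstance inf_le_right with h' | h'
    · exact h'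
    · exact absurd (h.symm.trans h') hMN
  exact ⟨hd, fun m hm n hn => Subgroup.commute_of_normal_of_disjoint M N hMn hNn hd m n hm hn⟩

theorem isPretransitive_map_subtype {G : Subgroup (Equiv.Perm α)} {M : Subgroup G}
    (hM : IsPretransitive M α) :
    IsPretransitive (M.map G.subtype : Subgroup (Equiv.Perm α)) α := by
  refine ⟨fun x y => ?_⟩
  obtain ⟨m, hm⟩ := exists_smul_eq M x y
  exact ⟨⟨((m : G) : Equiv.Perm α), Subgroup.mem_map_of_mem G.subtype m.2⟩, hm⟩

theorem map_le_centralizer_of_commute {G : Subgroup (Equiv.Perm α)} {M N : Subgroup G}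
    (h : ∀ m ∈ M, ∀ n ∈ N, Commute m n) :
    N.map G.subtype ≤
      Subgroup.centralizer ((M.map G.subtype : Subgroup (Equiv.Perm α)) : Set (Equiv.Perm α)) := by
  rintro _ ⟨n, hn, rfl⟩
  rw [Subgroup.mem_centralizer_iff]
  rintro _ ⟨m, hm, rfl⟩
  rw [← map_mul, ← map_mul, (h m hm n hn).eq]

theorem nonempty_of_subgroup_ne_bot {G : Subgroup (Equiv.Perm α)} {M : Subgroup G} (hM : M ≠ ⊥) :
    Nonempty α := by
  by_contra h
  rw [not_nonempty_iff] at h
  exact hM (Subgroup.eq_bot_of_subsingleton M)

end Cfsg.Agent.Perm
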