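/-
Sylow subgroups of transitive groups of prime degree.

* `not_sq_dvd_card_of_prime_degree`
* `sylow_prime_degree` : order `p`, transitive, self-centralising, normaliser of order `p * d` with
  `d ∣ p - 1`
-/
import Cfsg.Agent.Lib.Perm.PermModule
import Cfsg.Agent.Lib.Perm.Centralizer

namespace Cfsg.Agent.Perm

open MulAction

variable {G α : Type*} [Group G] [MulAction G α] [Finite α] [FaithfulSMul G α] {p : ℕ} [Fact p.Prime]

theorem not_sq_dvd_card_of_prime_degree (hα : Nat.card α = p) : ¬ p ^ 2 ∣ Nat.card G := by
  have hp := (Fact.out : p.Prime)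
  intro h
  have h1 : Nat.card G ∣ p.factorial := by
    rw [← hα, ← Nat.card_perm]
    exact Subgroup.card_dvd_of_injective (MulAction.toPermHom G α) MulAction.toPerm_injective
  have h2 : p * p ∣ p * (p - 1).factorial := by
    rw [Nat.mul_factorial_pred hp.ne_zero, ← pow_two]
    exact h.trans h1
  have h3 := (Nat.Prime.dvd_factorial hp).mp ((Nat.mul_dvd_mul_iff_left hp.pos).mp h2)
  have := hp.two_le
  omega

/-- Sylow subgroups of a faithful transitive group of prime degree. -/
theorem sylow_prime_degree [Finite G] [IsPretransitive G α] (hα : Nat.card α = p) (P : Sylow p G) :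
    Nat.card (P : Subgroup G) = p ∧ IsPretransitive (P : Subgroup G) α ∧
      Subgroup.centralizer ((P : Subgroup G) : Set G) = (P : Subgroup G) ∧
      ∃ d, d ∣ p - 1 ∧ Nat.card (Subgroup.normalizer ((P : Subgroup G) : Set G)) = p * d := by
  have hp := (Fact.out : p.Prime)
  have hne : Nonempty α := (Nat.card_ne_zero.mp (hα ▸ hp.ne_zero)).1
  obtain ⟨a⟩ := hne
  have ht := sylow_isPretransitive_of_card_prime_pow (Ω := α) (f := 1) (by rw [hα, pow_one]) P
  have hcard : Nat.card (P : Subgroup G) = p := by
    obtain ⟨n, hn⟩ := IsPGroup.iff_card.mp P.2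
    have h1 : n < 2 := by
      by_contra h
      apply not_sq_dvd_card_of_prime_degree (G := G) hα
      exact ((pow_dvd_pow p (not_lt.mp h)).trans (hn ▸ dvd_rfl)).trans
        (Subgroup.card_subgroup_dvd_card (P : Subgroup G))
    have h2 : n ≠ 0 := by
      rintro rfl
      rw [pow_zero, Subgroup.card_eq_one] at hn
      have : p ≤ 1 := by
        rw [← hα, Finite.card_le_one_iff_subsingleton]
        refine ⟨fun x y => ?_⟩
        obtain ⟨g, rfl⟩ := exists_smul_eq (P : Subgroup G) x y
        have : g = 1 := Subtype.ext ((Subgroup.eq_bot_iff_forall _).mp hn g g.2)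
        rw [this, one_smul]
      exact absurd this (not_le.mpr hp.one_lt)
    rw [hn, show n = 1 by omega, pow_one]
  have hC : ∀ c ∈ Subgroup.centralizer ((P : Subgroup G) : Set G), c • a = a → c = 1 := by
    intro c hc hca
    apply FaithfulSMul.eq_of_smul_eq_smul (α := α)
    intro x
    obtain ⟨g, rfl⟩ := exists_smul_eq (P : Subgroup G) a x
    rw [one_smul, Subgroup.smul_def, ← mul_smul, ← Subgroup.mem_centralizer_iff.mp hc g g.2,
      mul_smul, hca]
  have : IsCyclic (P : Subgroup G) := isCyclic_of_prime_card hcard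
  have hab : IsMulCommutative (P : Subgroup G) :=
    ⟨⟨fun u v => IsCyclic.commGroup.mul_comm u v⟩⟩
  have hcent : Subgroup.centralizer ((P : Subgroup G) : Set G) = (P : Subgroup G) := by
    refine (Subgroup.eq_of_le_of_card_ge (Subgroup.le_centralizer _) ?_).symm
    refine le_of_le_of_eq ?_ (hα.trans hcard.symm)
    refine Nat.card_le_card_of_injective
      (fun c : Subgroup.centralizer ((P : Subgroup G) : Set G) => (c : G) • a) fun c d h => ?_
    have := hC _ (mul_mem (inv_mem d.2) c.2) (by
      simp only at h
      rw [mul_smul, h, inv_smul_smul])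
    exact Subtype.ext (inv_mul_eq_one.mp this).symm
  refine ⟨hcard, ht, hcent, ?_⟩
  let φ := (P : Subgroup G).normalizerMonoidHom
  refine ⟨Nat.card φ.range, ?_, ?_⟩
  · have hd := φ.range.card_subgroup_dvd_card
    rwa [IsCyclic.card_mulAut, hcard, Nat.totient_prime hp] at hd
  · have hk : Nat.card φ.ker = p := by
      rw [Subgroup.normalizerMonoidHom_ker,
        Nat.card_congr (Subgroup.subgroupOfEquivOfLe (fun c hc =>
          Subgroup.centralizer_le_normalizer _ hc)).toEquiv]
      exact (Nat.card_congr (MulEquiv.subgroupCongr hcent).toEquiv).trans hcard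
    have h := φ.ker.index_mul_card
    rw [Subgroup.index_ker, hk] at h
    rw [← h, mul_comm]

end Cfsg.Agent.Perm
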