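/-
More on transitive groups of prime degree.

* `prime_dvd_card_of_transitive`
* `exists_sylow_data` : `|G| = p * d * n`, `d ∣ p - 1`, `n = #Syl_p ≡ 1 [MOD p]`
* `card_eq_prime_of_normalizer_eq` : if `d = 1` then `|G| = p` (Burnside transfer)
* `isSolvable_of_normal_sylow` : if `n = 1` then `G` is solvable
* `sign_of_involution_normalizing` : an involution normalising `P` has `p - 1` moved points
-/
import Cfsg.Agent.Lib.Perm.PrimeSylow
import Mathlib.GroupTheory.Transfer
import Mathlib.GroupTheory.Solvable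
import Mathlib.GroupTheory.Perm.Cycle.Type
import Mathlib.GroupTheory.GroupAction.Primitive

namespace Cfsg.Agent.Perm

open MulAction

variable {G α : Type*} [Group G] [Finite G] [MulAction G α] [Finite α] [FaithfulSMul G α]
  [IsPretransitive G α] {p : ℕ} [Fact p.Prime]

omit [Finite G] [FaithfulSMul G α] in
theorem prime_dvd_card_of_transitive (hα : Nat.card α = p) (N : Subgroup G)
    [IsPretransitive N α] : p ∣ Nat.card N := by
  have hp := (Fact.out : p.Prime)
  have hne : Nonempty α := (Nat.card_ne_zero.mp (hα ▸ hp.ne_zero)).1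
  obtain ⟨a⟩ := hne
  rw [← (stabilizer N a).index_mul_card, index_stabilizer_of_transitive, hα]
  exact dvd_mul_right _ _

theorem exists_sylow_data (hα : Nat.card α = p) (P : Sylow p G) :
    ∃ d n, d ∣ p - 1 ∧ Nat.card (Subgroup.normalizer ((P : Subgroup G) : Set G)) = p * d ∧
      n = Nat.card (Sylow p G) ∧ n % p = 1 ∧ Nat.card G = p * d * n := by
  obtain ⟨-, -, -, d, hd, hN⟩ := sylow_prime_degree (G := G) hα P
  refine ⟨d, _, hd, hN, rfl, ?_, ?_⟩
  · have h := card_sylow_modEq_one p G
    rwa [Nat.ModEq, Nat.one_mod_eq_one.mpr (Fact.out : p.Prime).ne_one] at h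
  · rw [Sylow.card_eq_index_normalizer P, ← hN]
    exact (Subgroup.card_mul_index _).symm

/-- Burnside transfer: if the Sylow `p`-subgroup is self-normalising then `|G| = p`. -/
theorem card_eq_prime_of_normalizer_eq (hα : Nat.card α = p) (P : Sylow p G)
    (h : Nat.card (Subgroup.normalizer ((P : Subgroup G) : Set G)) = p) : Nat.card G = p := by
  obtain ⟨hP, -, hC, -⟩ := sylow_prime_degree (G := G) hα P
  have hNP : Subgroup.normalizer ((P : Subgroup G) : Set G) = (P : Subgroup G) :=
    (Subgroup.eq_of_le_of_card_ge Subgroup.le_normalizer (by rw [hP, h])).symm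
  have hle : Subgroup.normalizer ((P : Subgroup G) : Set G) ≤
      Subgroup.centralizer ((P : Subgroup G) : Set G) := by rw [hNP, hC]
  have hK := MonoidHom.ker_transferSylow_isComplement' P hle
  set K := (MonoidHom.transferSylow P hle).ker
  by_cases hK1 : K = ⊥
  · rw [← hK.card_mul, hK1, Subgroup.card_bot, one_mul, hP]
  have := IsPreprimitive.of_prime_card (G := G) (X := α) (hα.symm ▸ Fact.out)
  have : IsPretransitive K α := isPretransitive_of_normal_ne_bot hK1
  refine absurd ?_ (not_sq_dvd_card_of_prime_degree (G := G) hα)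
  rw [← hK.card_mul, hP, pow_two]
  exact mul_dvd_mul_right (prime_dvd_card_of_transitive hα K) p

theorem isSolvable_of_normal_sylow (hα : Nat.card α = p) (P : Sylow p G)
    (h : Nat.card (Sylow p G) = 1) : Group.IsSolvable G := by
  obtain ⟨hP, -, hC, -⟩ := sylow_prime_degree (G := G) hα P
  have hN : Subgroup.normalizer ((P : Subgroup G) : Set G) = ⊤ :=
    Subgroup.index_eq_one.mp ((Sylow.card_eq_index_normalizer P).symm.trans h)
  have : ((P : Subgroup G)).Normal := Subgroup.normalizer_eq_top_iff.mp hN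
  have : IsCyclic (P : Subgroup G) := isCyclic_of_prime_card hP
  let : CommGroup (P : Subgroup G) := IsCyclic.commGroup
  refine Group.isSolvable_of_ker_le_range (P : Subgroup G).subtype
    ((IsCyclic.mulAutMulEquiv (P : Subgroup G)).toMonoidHom.comp
      (MulAut.conjNormal (H := (P : Subgroup G)))) ?_
  rw [Subgroup.range_subtype]
  intro g hg
  rw [← hC, Subgroup.mem_centralizer_iff]
  intro x hx
  rw [MonoidHom.mem_ker, MonoidHom.comp_apply, MulEquiv.coe_toMonoidHom] at hg
  have hg' := (IsCyclic.mulAutMulEquiv (P : Subgroup G)).injective (hg.trans (map_one _).symm)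
  have := congrArg (fun f : MulAut (P : Subgroup G) => ((f ⟨x, hx⟩ : (P : Subgroup G)) : G)) hg'
  simp only [MulAut.conjNormal_apply, MulAut.one_apply] at this
  exact (mul_inv_eq_iff_eq_mul.mp this).symm

theorem sylow_normal_of_isSolvable (hα : Nat.card α = p) (hG : Group.IsSolvable G)
    (P : Sylow p G) : (P : Subgroup G).Normal := by
  have hp := (Fact.out : p.Prime)
  have := IsPreprimitive.of_prime_card (G := G) (X := α) (hα.symm ▸ Fact.out)
  obtain ⟨hP, -, hC, -⟩ := sylow_prime_degree (G := G) hα P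
  have htop : (⊤ : Subgroup G) ≠ ⊥ := fun h => by
    have h1 := hP ▸ Subgroup.card_subgroup_dvd_card (P : Subgroup G)
    rw [← Subgroup.card_top, h, Subgroup.card_bot, Nat.dvd_one] at h1
    exact hp.ne_one h1
  obtain ⟨k, hk, hk1⟩ : ∃ k, derivedSeries G k ≠ ⊥ ∧ derivedSeries G (k + 1) = ⊥ := by
    obtain ⟨n, hn⟩ := hG.solvable
    by_contra hcon
    push Not at hcon
    have : ∀ k, derivedSeries G k ≠ ⊥ := fun k => by
      induction k with
      | zero => rwa [derivedSeries_zero]
      | succ k ih => exact hcon k ih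
    exact this n hn
  have : (derivedSeries G k).Normal := derivedSeries_normal G k
  have ht : IsPretransitive (derivedSeries G k) α := isPretransitive_of_normal_ne_bot hk
  have hab : ∀ x ∈ derivedSeries G k, ∀ y ∈ derivedSeries G k, x * y = y * x := fun x hx y hy => by
    rw [derivedSeries_succ] at hk1
    exact commutatorElement_eq_one_iff_mul_comm.mp
      (Subgroup.mem_bot.mp (hk1 ▸ Subgroup.commutator_mem_commutator hx hy))
  have hpd : p ∣ Nat.card (derivedSeries G k) := prime_dvd_card_of_transitive hα _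
  obtain ⟨x, hx⟩ := exists_prime_orderOf_dvd_card' p hpd
  obtain ⟨Q, hQ⟩ := (IsPGroup.of_card (n := 1)
    (show Nat.card (Subgroup.zpowers (x : G)) = p ^ 1 by
      rw [Nat.card_zpowers, Subgroup.orderOf_coe, hx, pow_one])).exists_le_sylow
  obtain ⟨hQc, -, hQC, -⟩ := sylow_prime_degree (G := G) hα Q
  have hQe : Subgroup.zpowers (x : G) = Q := Subgroup.eq_of_le_of_card_ge hQ
    (by rw [hQc, Nat.card_zpowers, Subgroup.orderOf_coe, hx])
  have hle : derivedSeries G k ≤ Q := fun y hy => by
    rw [← hQC, Subgroup.mem_centralizer_iff]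
    intro z hz
    rw [← hQe] at hz
    obtain ⟨j, rfl⟩ := Subgroup.mem_zpowers_iff.mp hz
    exact (Commute.zpow_left (hab _ x.2 y hy) j).eq
  have hDQ : derivedSeries G k = Q := le_antisymm hle (hQe ▸ Subgroup.zpowers_le.mpr x.2)
  have hQn : (Q : Subgroup G).Normal := hDQ ▸ ‹(derivedSeries G k).Normal›
  have := Sylow.unique_of_normal Q hQn
  rwa [Subsingleton.elim P Q]

omit [Finite α] in
/-- An involution normalising a regular subgroup of prime order moves all but one point. -/
theorem support_card_of_involution [Fintype α] [DecidableEq α] (P : Subgroup (Equiv.Perm α))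
    (hα : Fintype.card α = p) (hP : Nat.card P = p) [IsPretransitive P α]
    (hC : ∀ c : Equiv.Perm α, (∀ g ∈ P, g * c = c * g) → c ∈ P) (hp2 : p ≠ 2) (t : Equiv.Perm α)
    (ht : t ^ 2 = 1) (ht1 : t ≠ 1) (htN : ∀ g ∈ P, t * g * t⁻¹ ∈ P) :
    t.support.card = p - 1 := by
  have hp := (Fact.out : p.Prime)
  have hord : orderOf t = 2 := orderOf_eq_prime ht ht1
  have heven : 2 ∣ t.support.card := by
    rw [← Equiv.Perm.sum_cycleType]
    exact Multiset.dvd_sum fun c hc => by
      have h1 := Equiv.Perm.dvd_of_mem_cycleType hc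
      have h2 := Equiv.Perm.two_le_of_mem_cycleType hc
      rw [hord] at h1
      rw [Nat.le_antisymm (Nat.le_of_dvd two_pos h1) h2]
  have hle : Fintype.card α ≤ t.support.card + 1 := by
    by_contra hlt
    obtain ⟨a, b, ha, hb, hab⟩ := Finset.one_lt_card_iff.mp
      (show 1 < t.supportᶜ.card by rw [Finset.card_compl]; omega)
    simp only [Finset.mem_compl, Equiv.Perm.notMem_support] at ha hb
    obtain ⟨g, hg⟩ := exists_smul_eq P a b
    have hbij : Function.Bijective fun u : P => u • a :=
      (Nat.bijective_iff_surjective_and_card _).mpr ⟨fun x => exists_smul_eq P a x, by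
        rw [hP, Nat.card_eq_fintype_card, hα]⟩
    have hfix : (⟨t * g * t⁻¹, htN g g.2⟩ : P) = g := hbij.1 (by
      change (t * (g : Equiv.Perm α) * t⁻¹) a = g • a
      rw [Equiv.Perm.mul_apply, Equiv.Perm.mul_apply, Equiv.Perm.inv_eq_iff_eq.mpr ha.symm]
      change t (g • a) = g • a
      rw [hg, hb])
    have hcomm : Commute t g := mul_inv_eq_iff_eq_mul.mp (congrArg Subtype.val hfix)
    have hg1 : g ≠ 1 := fun e => hab (by rw [← hg, e, one_smul])
    have htP : t ∈ P := hC t fun u hu => by
      obtain ⟨k, hk⟩ := Subgroup.mem_zpowers_iff.mp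
        (mem_zpowers_of_prime_card hP (g' := ⟨u, hu⟩) hg1)
      have hk' : u = (g : Equiv.Perm α) ^ k := by
        rw [← Subgroup.coe_zpow, hk]
      rw [hk']
      exact (hcomm.zpow_right k).eq.symm
    have h2p := Subgroup.orderOf_dvd_natCard P htP
    rw [hord, hP] at h2p
    exact hp2 ((Nat.prime_dvd_prime_iff_eq Nat.prime_two hp).mp h2p).symm
  have hle' := Finset.card_le_univ t.support
  obtain ⟨k, hk⟩ := heven
  obtain ⟨j, hj⟩ := hp.odd_of_ne_two hp2
  omega

end Cfsg.Agent.Perm
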