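/-
Functions on `ZMod p` as polynomials of degree `< p`.

* `polyFun` : evaluation map
* `polySpace r` : polynomial functions of degree `< r`
* `finrank_polySpace`, `translation_invariant_eq_polySpace`
* `eq_affine_of_polySpace_invariant` : a map of `ZMod p` preserving a small polynomial space is affine
-/
import Cfsg.Agent.EqLemmas

namespace Cfsg.Agent.Perm

open Polynomial

variable {p : ℕ} [Fact p.Prime] (K : Type*) [Field K] [CharP K p]

/-- Evaluation of polynomials on the prime field. -/
noncomputable def polyFun (p : ℕ) [Fact p.Prime] [CharP K p] : K[X] →ₗ[K] (ZMod p → K) :=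
  LinearMap.pi fun j => Polynomial.leval (ZMod.castHom (dvd_refl p) K j)

theorem polyFun_apply (P : K[X]) (j : ZMod p) :
    polyFun K p P j = P.eval (ZMod.cast j : K) := rfl

/-- Polynomial functions of degree less than `r`. -/
noncomputable def polySpace (p : ℕ) [Fact p.Prime] [CharP K p] (r : ℕ) : Submodule K (ZMod p → K) :=
  (Polynomial.degreeLT K r).map (polyFun K p)

theorem mem_polySpace_iff {r : ℕ} {f : ZMod p → K} :
    f ∈ polySpace K p r ↔ ∃ P : K[X], P.degree < r ∧ polyFun K p P = f := by
  simp [polySpace, Submodule.mem_map, Polynomial.mem_degreeLT]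

theorem polyFun_injOn {P Q : K[X]} (hP : P.degree < (p : ℕ)) (hQ : Q.degree < (p : ℕ))
    (h : polyFun K p P = polyFun K p Q) : P = Q := by
  classical
  by_contra hne
  have hd : (P - Q).degree < (p : ℕ) :=
    lt_of_le_of_lt (Polynomial.degree_sub_le P Q) (max_lt hP hQ)
  have hnd : (P - Q).natDegree < p :=
    (Polynomial.natDegree_lt_iff_degree_lt (sub_ne_zero.mpr hne)).mpr hd
  have hinj : Function.Injective fun j : ZMod p => ZMod.castHom (dvd_refl p) K j :=
    (ZMod.castHom (dvd_refl p) K).injective
  have hcard := Polynomial.card_le_degree_of_subset_roots (p := P - Q)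
    (Z := Finset.univ.image fun j : ZMod p => ZMod.castHom (dvd_refl p) K j) (fun x hx => by
      have hx' : x ∈ Finset.univ.image fun j : ZMod p => ZMod.castHom (dvd_refl p) K j := hx
      obtain ⟨j, -, rfl⟩ := Finset.mem_image.mp hx'
      rw [Polynomial.mem_roots (sub_ne_zero.mpr hne), Polynomial.IsRoot, Polynomial.eval_sub,
        sub_eq_zero]
      exact congrFun h j)
  rw [Finset.card_image_of_injective _ hinj, Finset.card_univ, ZMod.card] at hcard
  omega

theorem finrank_polySpace {r : ℕ} (hr : r ≤ p) : Module.finrank K (polySpace K p r) = r := by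
  have hinj : Function.Injective ((polyFun K p).domRestrict (Polynomial.degreeLT K r)) := by
    intro P Q h
    have hb : ∀ S : Polynomial.degreeLT K r, (S : K[X]).degree < (p : ℕ) := fun S =>
      lt_of_lt_of_le (Polynomial.mem_degreeLT.mp S.2) (by exact_mod_cast hr)
    exact Subtype.ext (polyFun_injOn K (hb P) (hb Q) h)
  have h := LinearMap.finrank_range_of_inj hinj
  rw [LinearMap.range_domRestrict] at h
  rw [polySpace, h, LinearEquiv.finrank_eq (Polynomial.degreeLTEquiv K r), Module.finrank_fin_fun]

theorem polySpace_eq_top : polySpace K p p = ⊤ :=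
  Submodule.eq_top_of_finrank_eq (by
    rw [finrank_polySpace K le_rfl, Module.finrank_pi, ZMod.card])

theorem exists_polyFun_eq (f : ZMod p → K) :
    ∃ P : K[X], P.degree < (p : ℕ) ∧ polyFun K p P = f :=
  (mem_polySpace_iff K).mp (by rw [polySpace_eq_top]; trivial)

theorem polySpace_mono {r s : ℕ} (h : r ≤ s) : polySpace K p r ≤ polySpace K p s :=
  Submodule.map_mono (Polynomial.degreeLT_mono h)

/-- A translation invariant subspace containing a function of exact degree `d` contains all
functions of degree at most `d`. -/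
theorem polySpace_succ_le {W : Submodule K (ZMod p → K)}
    (hW : ∀ f ∈ W, (fun j => f (j - 1)) ∈ W) :
    ∀ {d : ℕ} {P : K[X]}, d < p → P.degree < (d + 1 : ℕ) → P.coeff d ≠ 0 → polyFun K p P ∈ W →
      polySpace K p (d + 1) ≤ W := by
  intro d
  induction d with
  | zero =>
    intro P _ hP hc hPW
    intro f hf
    obtain ⟨Q, hQ, rfl⟩ := (mem_polySpace_iff K).mp hf
    rw [zero_add] at hP hQ
    have hC : ∀ S : K[X], S.degree < (1 : ℕ) → S = C (S.coeff 0) := fun S hS => by
      ext m
      rcases m with _ | m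
      · rw [coeff_C_zero]
      · rw [coeff_C_ne_zero (Nat.succ_ne_zero m), (degree_lt_iff_coeff_zero _ _).mp hS _ (by omega)]
    have hPc := hC P hP
    have hQc := hC Q hQ
    have : Q = (Q.coeff 0 / P.coeff 0) • P := by
      rw [hPc, hQc, Polynomial.coeff_C_zero, Polynomial.coeff_C_zero, Polynomial.smul_C,
        smul_eq_mul, div_mul_cancel₀ _ hc]
    rw [this, map_smul]
    exact W.smul_mem _ hPW
  | succ d ih =>
    intro P hdp hP hc hPW
    set D := P - P.comp (X + C (-1 : K)) with hD
    have hDW : polyFun K p D ∈ W := by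
      rw [hD, map_sub]
      refine W.sub_mem hPW ?_
      convert hW _ hPW using 1
      funext j
      show (P.comp (X + C (-1 : K))).eval (ZMod.castHom (dvd_refl p) K j)
        = P.eval (ZMod.castHom (dvd_refl p) K (j - 1))
      rw [eval_comp, eval_add, eval_X, eval_C, map_sub, map_one, sub_eq_add_neg]
    have hnd : P.natDegree = d + 1 := by
      refine natDegree_eq_of_le_of_coeff_ne_zero ?_ hc
      rcases eq_or_ne P 0 with rfl | h0
      · simp
      · exact Nat.lt_succ_iff.mp ((natDegree_lt_iff_degree_lt h0).mpr hP)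
    have hX : (X + C (-1 : K)).natDegree = 1 := natDegree_X_add_C _
    have hcn : (P.comp (X + C (-1 : K))).natDegree = d + 1 := by rw [natDegree_comp, hX, mul_one, hnd]
    have hDdeg : D.degree < (d + 1 : ℕ) := by
      rw [degree_lt_iff_coeff_zero]
      intro m hm
      rcases eq_or_lt_of_le hm with rfl | hlt
      · rw [hD, coeff_sub]
        have h2 : (P.comp (X + C (-1 : K))).coeff (d + 1) = P.coeff (d + 1) := by
          have := coeff_comp_degree_mul_degree (p := P) (q := X + C (-1 : K)) (by rw [hX]; norm_num)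
          rw [hX, mul_one, hnd, leadingCoeff_X_add_C, one_pow, mul_one] at this
          rw [this, leadingCoeff, hnd]
        rw [h2, sub_self]
      · rw [hD, coeff_sub, coeff_eq_zero_of_natDegree_lt (by omega),
          coeff_eq_zero_of_natDegree_lt (by omega), sub_zero]
    have hDc : D.coeff d ≠ 0 := by
      have h2 : (P.comp (X + C (-1 : K))).coeff d = P.coeff d + (d + 1 : ℕ) * P.coeff (d + 1) * (-1) := by
        rw [← taylor_apply, taylor_coeff]
        have hh : Polynomial.hasseDeriv d P
            = C (P.coeff d) + C ((d + 1 : ℕ) * P.coeff (d + 1)) * X := by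
          ext m
          rw [hasseDeriv_coeff]
          rcases m with _ | m
          · simp
          rcases m with _ | m
          · simp [Nat.choose_succ_self_right, add_comm 1 d]
          · rw [coeff_eq_zero_of_natDegree_lt (show P.natDegree < m + 1 + 1 + d by omega), mul_zero]
            simp [Polynomial.coeff_one, Polynomial.coeff_X]
        rw [hh]
        simp
      rw [hD, coeff_sub, h2]
      have hne : ((d + 1 : ℕ) : K) ≠ 0 := by
        rw [Ne, CharP.cast_eq_zero_iff K p]
        exact fun hdvd => absurd (Nat.le_of_dvd (by omega) hdvd) (by omega)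
      rw [show P.coeff d - (P.coeff d + ((d + 1 : ℕ) : K) * P.coeff (d + 1) * -1)
        = ((d + 1 : ℕ) : K) * P.coeff (d + 1) by ring]
      exact mul_ne_zero hne hc
    have hlow := ih (by omega) hDdeg hDc hDW
    intro f hf
    obtain ⟨Q, hQ, rfl⟩ := (mem_polySpace_iff K).mp hf
    have hR : (Q - (Q.coeff (d + 1) / P.coeff (d + 1)) • P).degree < (d + 1 : ℕ) := by
      rw [degree_lt_iff_coeff_zero]
      intro m hm
      rw [coeff_sub, coeff_smul, smul_eq_mul]
      rcases eq_or_lt_of_le hm with rfl | hlt
      · rw [div_mul_cancel₀ _ hc, sub_self]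
      · rw [(degree_lt_iff_coeff_zero _ _).mp hP m (by omega),
          (degree_lt_iff_coeff_zero _ _).mp hQ m (by omega), mul_zero, sub_zero]
    have := W.add_mem (hlow ((mem_polySpace_iff K).mpr ⟨_, hR, rfl⟩))
      (W.smul_mem (Q.coeff (d + 1) / P.coeff (d + 1)) hPW)
    rwa [map_sub, map_smul, sub_add_cancel] at this

theorem translation_invariant_eq_polySpace (W : Submodule K (ZMod p → K))
    (hW : ∀ f ∈ W, (fun j => f (j - 1)) ∈ W) : ∃ r ≤ p, W = polySpace K p r := by
  classical
  have hex : ∃ r, r ≤ p ∧ W ≤ polySpace K p r :=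
    ⟨p, le_rfl, by rw [polySpace_eq_top]; exact le_top⟩
  refine ⟨Nat.find hex, (Nat.find_spec hex).1, le_antisymm (Nat.find_spec hex).2 ?_⟩
  obtain ⟨hrp, hle⟩ := Nat.find_spec hex
  rcases hr : Nat.find hex with _ | d
  · intro f hf
    obtain ⟨Q, hQ, rfl⟩ := (mem_polySpace_iff K).mp hf
    rw [Nat.cast_zero, Nat.WithBot.lt_zero_iff, degree_eq_bot] at hQ
    rw [hQ, map_zero]
    exact W.zero_mem
  · rw [hr] at hrp hle
    have hnot : ¬ W ≤ polySpace K p d := fun h =>
      Nat.find_min hex (show d < Nat.find hex by omega) ⟨by omega, h⟩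
    obtain ⟨f, hfW, hf⟩ := SetLike.not_le_iff_exists.mp hnot
    obtain ⟨P, hP, rfl⟩ := (mem_polySpace_iff K).mp (hle hfW)
    refine polySpace_succ_le K hW (by omega) hP ?_ hfW
    intro hc
    apply hf
    refine (mem_polySpace_iff K).mpr ⟨P, ?_, rfl⟩
    rw [degree_lt_iff_coeff_zero] at hP ⊢
    intro m hm
    rcases eq_or_lt_of_le hm with rfl | hlt
    · exact hc
    · exact hP m (by omega)

/-- A map of `ZMod p` composing a small polynomial space into itself is affine. -/
theorem eq_affine_of_polySpace_invariant {r : ℕ} (hr : 2 ≤ r) (hr' : 2 * r ≤ p + 1)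
    (φ : ZMod p → ZMod p) (hinv : ∀ f ∈ polySpace K p r, (fun j => f (φ j)) ∈ polySpace K p r) :
    ∃ a b : ZMod p, ∀ j, φ j = a * j + b := by
  have hX : polyFun K p X ∈ polySpace K p r :=
    (mem_polySpace_iff K).mpr ⟨X, by rw [degree_X]; exact_mod_cast hr, rfl⟩
  obtain ⟨Q, hQr, hQ⟩ := (mem_polySpace_iff K).mp (hinv _ hX)
  have hQj : ∀ j, Q.eval (ZMod.castHom (dvd_refl p) K j) = ZMod.castHom (dvd_refl p) K (φ j) :=
    fun j => (congrFun hQ j).trans (eval_X)
  have hnd : Q.natDegree ≤ 1 := by
    by_contra hn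
    rw [not_le] at hn
    have hQ0 : Q ≠ 0 := fun e => by rw [e, natDegree_zero] at hn; omega
    have hnr : Q.natDegree < r := (natDegree_lt_iff_degree_lt hQ0).mpr hQr
    set n := Q.natDegree
    set i := (r - 1) / n + 1 with hi
    have h1 := Nat.div_add_mod (r - 1) n
    have h2 := Nat.mod_lt (r - 1) (show n > 0 by omega)
    have hle1 : n * i ≤ r - 1 + n := by
      rw [hi, mul_add, mul_one]; omega
    have hge : r ≤ n * i := by
      rw [hi, mul_add, mul_one]; omega
    have hir : i < r := by
      have h2n : 2 * ((r - 1) / n) ≤ n * ((r - 1) / n) := Nat.mul_le_mul_right _ hn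
      omega
    have hpow : polyFun K p (X ^ i) ∈ polySpace K p r :=
      (mem_polySpace_iff K).mpr ⟨X ^ i, by rw [degree_X_pow]; exact_mod_cast hir, rfl⟩
    obtain ⟨R, hRr, hR⟩ := (mem_polySpace_iff K).mp (hinv _ hpow)
    have hdeg : (Q ^ i).degree = ((n * i : ℕ) : WithBot ℕ) := by
      rw [degree_eq_natDegree (pow_ne_zero _ hQ0), natDegree_pow, mul_comm]
    have hQi : Q ^ i = R := by
      refine polyFun_injOn K ?_ (lt_of_lt_of_le hRr (by exact_mod_cast (show r ≤ p by omega))) ?_
      · rw [hdeg]
        exact_mod_cast (show n * i < p by omega)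
      · rw [hR]
        funext j
        show (Q ^ i).eval (ZMod.castHom (dvd_refl p) K j)
          = (X ^ i).eval (ZMod.castHom (dvd_refl p) K (φ j))
        rw [eval_pow, eval_pow, eval_X, hQj]
    rw [← hQi, hdeg] at hRr
    have : n * i < r := by exact_mod_cast hRr
    omega
  obtain ⟨u, v, rfl⟩ := exists_eq_X_add_C_of_natDegree_le_one hnd
  simp only [eval_add, eval_mul, eval_C, eval_X] at hQj
  refine ⟨φ 1 - φ 0, φ 0, fun j => (ZMod.castHom (dvd_refl p) K).injective ?_⟩
  rw [map_add, map_mul, map_sub, ← hQj, ← hQj, ← hQj, map_one, map_zero]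
  ring

end Cfsg.Agent.Perm
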