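/-
Transitive groups of prime degree.

* `exists_cycle_coordinates` : coordinates in which a transitive group of prime degree contains the
  translation `j ↦ j + 1`
* `isSolvable_of_affine` : groups of affine maps of `ZMod p` are solvable
* `isSolvable_or_dim` : invariant subspaces of functions on a non-solvable group have dimension
  `0, 1, p-1` or `p`
-/
import Cfsg.Agent.Lib.Perm.PermModule
import Cfsg.Agent.Lib.Perm.PolyFun

namespace Cfsg.Agent.Perm

open MulAction

variable {G α : Type*} [Group G] [Finite G] [MulAction G α] [Fintype α]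
  {p : ℕ} [Fact p.Prime]

theorem exists_cycle_coordinates [IsPretransitive G α] (hα : Fintype.card α = p) :
    ∃ (e : ZMod p ≃ α) (σ : G), ∀ j, σ • e j = e (j + 1) := by
  have hp := (Fact.out : p.Prime)
  have hne : Nonempty α := Fintype.card_pos_iff.mp (hα ▸ hp.pos)
  obtain ⟨a⟩ := hne
  have hdvd : p ∣ Nat.card G := by
    rw [← hα, ← Nat.card_eq_fintype_card, ← index_stabilizer_of_transitive G a]
    exact (stabilizer G a).index_dvd_card
  obtain ⟨P⟩ : Nonempty (Sylow p G) := inferInstance
  have hPt := sylow_isPretransitive_of_card_prime_pow (Ω := α) (f := 1)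
    (by rw [Nat.card_eq_fintype_card, hα, pow_one]) P
  have : Nontrivial α := Fintype.one_lt_card_iff_nontrivial.mp (hα ▸ hp.one_lt)
  obtain ⟨b, hb⟩ := exists_ne a
  obtain ⟨⟨x, hxP⟩, hx⟩ := exists_smul_eq (P : Subgroup G) a b
  obtain ⟨k, hk⟩ := P.2 ⟨x, hxP⟩
  have hk' : x ^ p ^ k = 1 := congrArg Subtype.val hk
  -- a power of `x` of order `p` moving some point
  have hxm : x • a ≠ a := fun e => hb ((hx.symm.trans e).trans rfl)
  have hper : period x a = p := by
    have h1 : period x a ∣ p ^ k := by
      rw [← MulAction.pow_smul_eq_iff_period_dvd, hk', one_smul]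
    have h2 : period x a ≤ Fintype.card α := by
      rw [MulAction.period_eq_minimalPeriod]
      exact Function.minimalPeriod_le_card
    obtain ⟨i, _, hi⟩ := (Nat.dvd_prime_pow hp).mp h1
    have hne1 : period x a ≠ 1 := fun e => hxm (period_eq_one_iff.mp e)
    have hi1 : i = 1 := by
      rcases Nat.lt_trichotomy i 1 with h | h | h
      · rw [show i = 0 by omega, pow_zero] at hi; exact absurd hi hne1
      · exact h
      · have : p ^ 2 ≤ period x a := hi ▸ Nat.pow_le_pow_right hp.pos h
        have h22 : p * 1 < p * p := Nat.mul_lt_mul_of_pos_left hp.one_lt hp.pos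
        rw [pow_two] at this
        omega
    rw [hi, hi1, pow_one]
  have hbij : Function.Bijective fun j : ZMod p => x ^ j.val • a := by
    rw [Fintype.bijective_iff_injective_and_card]
    refine ⟨fun i j h => ZMod.val_injective p ?_, by rw [ZMod.card, hα]⟩
    have key : ∀ m n : ℕ, n < p → m ≤ n → x ^ m • a = x ^ n • a → m = n := by
      intro m n hn hmn e
      obtain ⟨d, rfl⟩ := Nat.exists_eq_add_of_le hmn
      rw [pow_add, mul_smul] at e
      have h0 : x ^ d • a = a := (MulAction.injective (x ^ m) e).symm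
      rw [MulAction.pow_smul_eq_iff_period_dvd, hper] at h0
      rcases Nat.eq_zero_or_pos d with rfl | hd
      · rfl
      · have := Nat.le_of_dvd hd h0; omega
    rcases le_total i.val j.val with hle | hle
    · exact key _ _ (ZMod.val_lt j) hle h
    · exact (key _ _ (ZMod.val_lt i) hle h.symm).symm
  refine ⟨Equiv.ofBijective _ hbij, x, fun j => ?_⟩
  show x • x ^ j.val • a = x ^ (j + 1).val • a
  have h := (MulAction.pow_mod_period_smul (m := x) (a := a) (j.val + 1)).symm
  rw [← mul_smul, ← pow_succ', h, hper, ZMod.val_add, ZMod.val_one]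

omit [Finite G] in
/-- Groups of affine maps of `ZMod p` are solvable. -/
theorem isSolvable_of_affine [FaithfulSMul G α] (e : ZMod p ≃ α)
    (h : ∀ g : G, ∃ a b : ZMod p, ∀ j, e.symm (g • e j) = a * j + b) : Group.IsSolvable G := by
  choose A B hAB using h
  have hA : ∀ g, A g = e.symm (g • e 1) - e.symm (g • e 0) := fun g => by rw [hAB, hAB]; ring
  let φ : G →* ZMod p :=
    { toFun := A
      map_one' := by rw [hA, one_smul, one_smul, e.symm_apply_apply, e.symm_apply_apply, sub_zero]
      map_mul' := fun g h => by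
        rw [hA (g * h), mul_smul, mul_smul, ← e.apply_symm_apply (h • e 1),
          ← e.apply_symm_apply (h • e 0), hAB g, hAB g, hAB h, hAB h]
        ring }
  let ψ := φ.toHomUnits
  have hker : ∀ g ∈ ψ.ker, ∀ j, g • e j = e (j + B g) := by
    intro g hg j
    have h1 : A g = 1 := by
      have := congrArg Units.val (MonoidHom.mem_ker.mp hg)
      simpa [ψ, φ] using this
    rw [← e.apply_symm_apply (g • e j), hAB, h1, one_mul]
  have hkc : Group.IsSolvable ψ.ker := by
    apply Group.isSolvable_of_comm
    intro u v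
    apply Subtype.ext
    apply FaithfulSMul.eq_of_smul_eq_smul (α := α)
    intro x
    obtain ⟨j, rfl⟩ := e.surjective x
    rw [Subgroup.coe_mul, Subgroup.coe_mul, mul_smul, mul_smul, hker _ v.2, hker _ u.2,
      hker _ u.2, hker _ v.2, add_assoc, add_assoc, add_comm (B _) (B _)]
  exact Group.isSolvable_of_ker_le_range ψ.ker.subtype ψ (by rw [Subgroup.range_subtype])

variable {K : Type*} [Field K] [CharP K p]

/-- In a non-solvable transitive group of degree `p` the invariant subspaces of functions have
dimension at most `1` or at least `p - 1`. -/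
theorem finrank_le_one_or_ge [FaithfulSMul G α] [IsPretransitive G α] (hα : Fintype.card α = p)
    (hG : ¬ Group.IsSolvable G) (W : Submodule K (α → K))
    (hW : ∀ g, ∀ w ∈ W, Cfsg.permRep K G α g w ∈ W) :
    Module.finrank K W ≤ 1 ∨ p ≤ Module.finrank K W + 1 := by
  by_contra hcon
  push Not at hcon
  obtain ⟨e, σ, hσ⟩ := exists_cycle_coordinates (G := G) hα
  let L : (α → K) ≃ₗ[K] (ZMod p → K) := LinearEquiv.funCongrLeft K K e
  have hL : ∀ (w : α → K) j, L w j = w (e j) := fun w j => rfl
  -- small invariant space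
  obtain ⟨r, hr2, hrp, V, hV, hVeq⟩ : ∃ r, 2 ≤ r ∧ 2 * r ≤ p + 1 ∧ ∃ V : Submodule K (α → K),
      (∀ g, ∀ w ∈ V, Cfsg.permRep K G α g w ∈ V) ∧ V.map (L : (α → K) →ₗ[K] (ZMod p → K)) = polySpace K p r := by
    have hdim : ∀ V : Submodule K (α → K), (∀ g, ∀ w ∈ V, Cfsg.permRep K G α g w ∈ V) →
        ∃ r ≤ p, Module.finrank K V = r ∧ V.map (L : (α → K) →ₗ[K] (ZMod p → K)) = polySpace K p r := by
      intro V hV
      obtain ⟨r, hr, hVr⟩ := translation_invariant_eq_polySpace K (V.map (L : (α → K) →ₗ[K] (ZMod p → K))) (by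
        rintro _ ⟨w, hw, rfl⟩
        refine ⟨Cfsg.permRep K G α σ w, hV σ w hw, funext fun j => ?_⟩
        show w (σ⁻¹ • e j) = w (e (j - 1))
        congr 1
        rw [inv_smul_eq_iff, hσ, sub_add_cancel])
      refine ⟨r, hr, ?_, hVr⟩
      rw [← finrank_polySpace K hr, ← hVr]
      exact (L.submoduleMap V).finrank_eq
    obtain ⟨r, hr, hWr, hWmap⟩ := hdim W hW
    by_cases hsmall : 2 * r ≤ p + 1
    · exact ⟨r, by omega, hsmall, W, hW, hWmap⟩
    classical
    let Bf : (α → K) →ₗ[K] Module.Dual K (α → K) :=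
      { toFun := fun v => { toFun := fun u => ∑ x, v x * u x
                            map_add' := fun u u' => by simp [mul_add, Finset.sum_add_distrib]
                            map_smul' := fun c u => by simp [Finset.mul_sum, mul_left_comm] }
        map_add' := fun v v' => LinearMap.ext fun u => by simp [add_mul, Finset.sum_add_distrib]
        map_smul' := fun c v => LinearMap.ext fun u => by simp [Finset.mul_sum, mul_assoc] }
    have hB : Function.Injective Bf := fun v v' h => funext fun x => by
      simpa [Bf, Pi.single_apply, Finset.sum_ite_eq', mul_ite] using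
        LinearMap.congr_fun h (Pi.single x 1)
    have hBs : Function.Surjective Bf :=
      (LinearMap.injective_iff_surjective_of_finrank_eq_finrank Subspace.dual_finrank_eq.symm).mp hB
    let B : (α → K) →ₗ[K] Module.Dual K W := W.dualRestrict ∘ₗ Bf
    have hBsurj : Function.Surjective B := by
      rw [LinearMap.coe_comp]
      exact Subspace.dualRestrict_surjective.comp hBs
    have hinv : ∀ g, ∀ w ∈ LinearMap.ker B, Cfsg.permRep K G α g w ∈ LinearMap.ker B := by
      intro g w hw
      rw [LinearMap.mem_ker] at hw ⊢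
      refine LinearMap.ext fun u => ?_
      have := LinearMap.congr_fun hw ⟨_, hW g⁻¹ u u.2⟩
      rw [LinearMap.zero_apply] at this ⊢
      rw [← this]
      show ∑ x, w (g⁻¹ • x) * (u : α → K) x = ∑ x, w x * (u : α → K) ((g⁻¹)⁻¹ • x)
      refine Fintype.sum_equiv (MulAction.toPerm g⁻¹) _ _ fun x => ?_
      show w (g⁻¹ • x) * (u : α → K) x = w (g⁻¹ • x) * (u : α → K) (g⁻¹⁻¹ • g⁻¹ • x)
      rw [inv_smul_smul]
    obtain ⟨t, ht, hts, htmap⟩ := hdim _ hinv
    have h1 := B.finrank_range_add_finrank_ker
    rw [LinearMap.range_eq_top.mpr hBsurj, finrank_top, Subspace.dual_finrank_eq, hWr,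
      Module.finrank_pi, hα, hts] at h1
    exact ⟨t, by omega, by omega, _, hinv, htmap⟩
  refine hG (isSolvable_of_affine e fun g => eq_affine_of_polySpace_invariant K hr2 hrp _ ?_)
  intro f hf
  rw [← hVeq] at hf ⊢
  obtain ⟨w, hw, rfl⟩ := hf
  refine ⟨Cfsg.permRep K G α g⁻¹ w, hV g⁻¹ w hw, funext fun j => ?_⟩
  show w ((g⁻¹)⁻¹ • e j) = w (e (e.symm (g • e j)))
  rw [inv_inv, e.apply_symm_apply]

end Cfsg.Agent.Perm
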