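/-
Coordinates for an involution normalising a Sylow `p`-subgroup in prime degree.

* `exists_inverting_coordinates`
-/
import Cfsg.Agent.Lib.Perm.PrimeTransitive
import Cfsg.Agent.Lib.Perm.SharpThreeExchange

namespace Cfsg.Agent.Perm

open MulAction

theorem exists_inverting_coordinates {α : Type*} [Fintype α] [DecidableEq α] {p : ℕ} [Fact p.Prime]
    (hα : Fintype.card α = p) (hp2 : p ≠ 2) (G : Subgroup (Equiv.Perm α)) [IsPretransitive G α]
    (P : Sylow p G)
    (heven : Even (Nat.card (Subgroup.normalizer ((P : Subgroup G) : Set G)))) :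
    ∃ (e : ZMod p ≃ α) (σ t : G), (∀ j, σ • e j = e (j + 1)) ∧ ∀ j, t • e j = e (-j) := by
  classical
  have hp := (Fact.out : p.Prime)
  obtain ⟨hP, ht, hC, -⟩ := sylow_prime_degree (G := G) (Nat.card_eq_fintype_card.trans hα) P
  obtain ⟨t, ht2⟩ := exists_prime_orderOf_dvd_card'
    (G := Subgroup.normalizer ((P : Subgroup G) : Set G)) 2 heven.two_dvd
  have htt : (t : G) * t = 1 := by
    rw [← Subgroup.coe_mul, ← pow_two, ← ht2, pow_orderOf_eq_one, Subgroup.coe_one]
  obtain ⟨σ, hσord⟩ := exists_prime_orderOf_dvd_card' (G := (P : Subgroup G)) p (dvd_of_eq hP.symm)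
  have hσ1 : σ ≠ 1 := fun e => hp.ne_one (by rw [← hσord, e, orderOf_one])
  have hgen : ∀ x : (P : Subgroup G), x ∈ Subgroup.zpowers σ :=
    fun x => mem_zpowers_of_prime_card hP hσ1
  have hinvert : (t : G) * σ * (t : G)⁻¹ = ((σ : G))⁻¹ := by
    have hmem : ∀ g ∈ (P : Subgroup G), (t : G) * g * (t : G)⁻¹ ∈ (P : Subgroup G) :=
      fun g hg => (Subgroup.mem_normalizer_iff.mp t.2 g).mp hg
    obtain ⟨k, hk⟩ := Subgroup.mem_zpowers_iff.mp (hgen ⟨_, hmem σ σ.2⟩)
    have hk' : (t : G) * σ * (t : G)⁻¹ = (σ : G) ^ k := by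
      rw [← Subgroup.coe_zpow, hk]
    have h3 : (σ : G) ^ (k * k) = σ := by
      rw [zpow_mul, ← hk', conj_zpow, ← hk', show (t : G)⁻¹ = t from inv_eq_of_mul_eq_one_right htt,
        show (t : G) * ((t : G) * σ * t) * t = ((t : G) * t) * σ * ((t : G) * t) by group, htt,
        one_mul, mul_one]
    have h4 : ((k : ZMod p)) * k = 1 := by
      have : (σ : G) ^ (k * k - 1) = 1 := by rw [zpow_sub_one, h3, mul_inv_cancel]
      rw [← orderOf_dvd_iff_zpow_eq_one, Subgroup.orderOf_coe, hσord,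
        ← ZMod.intCast_zmod_eq_zero_iff_dvd, Int.cast_sub, Int.cast_mul, Int.cast_one, sub_eq_zero]
        at this
      exact this
    rcases mul_self_eq_one_iff.mp h4 with e | e
    · exfalso
      have hkσ : (σ : G) ^ k = σ := by
        conv_rhs => rw [← zpow_one (σ : G)]
        rw [zpow_eq_zpow_iff_modEq, Subgroup.orderOf_coe, hσord, ← ZMod.intCast_eq_intCast_iff,
          e, Int.cast_one]
      have htP : (t : G) ∈ (P : Subgroup G) := by
        suffices h : (t : G) ∈ Subgroup.centralizer ((P : Subgroup G) : Set G) by rwa [hC] at h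
        rw [Subgroup.mem_centralizer_iff]
        intro g hg
        obtain ⟨j, hj⟩ := Subgroup.mem_zpowers_iff.mp (hgen ⟨g, hg⟩)
        have hg' : g = (σ : G) ^ j := by rw [← Subgroup.coe_zpow, hj]
        rw [hg']
        exact ((show Commute (t : G) σ from
          mul_inv_eq_iff_eq_mul.mp (hk'.trans hkσ)).zpow_right j).eq.symm
      have := Subgroup.orderOf_dvd_natCard _ htP
      rw [Subgroup.orderOf_coe, ht2, hP] at this
      exact hp2 ((Nat.prime_dvd_prime_iff_eq Nat.prime_two hp).mp this).symm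
    · rw [hk', ← zpow_neg_one, zpow_eq_zpow_iff_modEq, Subgroup.orderOf_coe, hσord,
        ← ZMod.intCast_eq_intCast_iff, e, Int.cast_neg, Int.cast_one]
  let s : ZMod p → G := fun i => (σ : G) ^ i.val
  have hsadd : ∀ i j, s (i + j) = s i * s j := fun i j => by
    simp only [s]
    rw [← pow_add, pow_eq_pow_iff_modEq, Subgroup.orderOf_coe, hσord, ← ZMod.natCast_eq_natCast_iff]
    simp
  have hs0 : s 0 = 1 := by simp [s]
  have hsneg : ∀ i, s (-i) = (s i)⁻¹ := fun i => eq_inv_of_mul_eq_one_left (by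
    rw [← hsadd, neg_add_cancel, hs0])
  have hts : ∀ i, (t : G) * s i = s (-i) * t := fun i => by
    rw [hsneg, ← mul_inv_eq_iff_eq_mul]
    simp only [s]
    rw [← conj_pow, hinvert, inv_pow]
  have hs1 : s 1 = (σ : G) := by
    simp only [s]
    rw [ZMod.val_one, pow_one]
  obtain ⟨a, hta⟩ : ∃ a : α, (t : G) • a = a := by
    by_contra hcon
    push Not at hcon
    have h2 := even_support_of_sq_eq_one (t := ((t : G) : Equiv.Perm α)) (by
      rw [← Subgroup.coe_mul, htt, Subgroup.coe_one])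
    rw [show ((t : G) : Equiv.Perm α).support = Finset.univ from
      Finset.eq_univ_of_forall fun x => Equiv.Perm.mem_support.mpr (hcon x),
      Finset.card_univ, hα] at h2
    exact (Nat.not_even_iff_odd.mpr (hp.odd_of_ne_two hp2)) h2
  have hsbij : Function.Bijective fun i => s i • a := by
    rw [Fintype.bijective_iff_surjective_and_card]
    refine ⟨fun x => ?_, by rw [ZMod.card, hα]⟩
    obtain ⟨u, hu⟩ := exists_smul_eq (P : Subgroup G) a x
    obtain ⟨k, hk⟩ := Subgroup.mem_zpowers_iff.mp (hgen u)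
    refine ⟨(k : ZMod p), ?_⟩
    change ((σ : G) ^ (k : ZMod p).val) • a = x
    rw [← hu, ← hk]
    change _ = ((σ ^ k : (P : Subgroup G)) : G) • a
    rw [Subgroup.coe_zpow, ← zpow_natCast]
    congr 1
    rw [zpow_eq_zpow_iff_modEq, Subgroup.orderOf_coe, hσord, ← ZMod.intCast_eq_intCast_iff]
    simp
  refine ⟨Equiv.ofBijective _ hsbij, (σ : G), (t : G), fun j => ?_, fun j => ?_⟩
  · change (σ : G) • s j • a = s (j + 1) • a
    rw [← mul_smul, ← hs1, ← hsadd, add_comm 1 j]
  · change (t : G) • s j • a = s (-j) • a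
    rw [← mul_smul, hts, mul_smul, hta]

end Cfsg.Agent.Perm
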