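/-
Transitive groups of prime degree `p ≡ 3 (mod 4)` whose Sylow normaliser has order `p (p - 1) / 2`.

* `exists_half_coordinates` : coordinates with a translation and a multiplication of half order
* `kernel_eq_zero` : an invariant balanced kernel killed by one functional is zero
* `two_point_orbits` : a two point stabiliser has at most two orbits on the other points
-/
import Cfsg.Agent.S0674
import Cfsg.Agent.S0675
import Cfsg.Agent.S0676
import Cfsg.Agent.Lib.Perm.PrimeTransitive

namespace Cfsg.Agent.Perm.HalfNorm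

open MulAction Cfsg.Agent.S0676

variable {α : Type*} [Fintype α] [DecidableEq α] {p : ℕ} [Fact p.Prime]

/-! ### The binomial recursion -/

section Recursion

variable (c : ℕ → ℕ → ZMod p)
  (htr : ∀ i j, i ≤ p - 2 → j ≤ p - 2 → c i j = ∑ s ∈ Finset.range (i + 1),
    ∑ t ∈ Finset.range (j + 1), (i.choose s : ZMod p) * (j.choose t : ZMod p) * c s t)

include htr in
theorem shift_rel (i j : ℕ) (hi : i + 1 ≤ p - 2) (hj : j + 1 ≤ p - 2)
    (hlow : ∀ s t, s ≤ p - 2 → t ≤ p - 2 → s + t < i + j + 1 → c s t = 0) :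
    ((i : ZMod p) + 1) * c i (j + 1) + ((j : ZMod p) + 1) * c (i + 1) j = 0 := by
  have h := htr (i + 1) (j + 1) hi hj
  rw [Finset.sum_range_succ, Finset.sum_range_succ, Finset.sum_eq_zero, zero_add,
    Finset.sum_range_succ (n := j + 1), Finset.sum_eq_zero, zero_add,
    Finset.sum_range_succ (n := j + 1), Finset.sum_range_succ (n := j), Finset.sum_eq_zero,
    zero_add] at h
  · simp only [Nat.choose_succ_self_right, Nat.choose_self, Nat.cast_one, Nat.cast_add, one_mul,
      mul_one] at h
    linear_combination -h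
  all_goals intro s hs
  all_goals rw [Finset.mem_range] at hs
  · rw [hlow (i + 1) s hi (by omega) (by omega), mul_zero]
  · rw [hlow i s (by omega) (by omega) (by omega), mul_zero]
  · refine Finset.sum_eq_zero fun t ht => ?_
    rw [Finset.mem_range] at ht
    rw [hlow s t (by omega) (by omega) (by omega), mul_zero]

include htr in
theorem chain (h0 : ∀ j, c 0 j = 0) (n : ℕ)
    (hlow : ∀ s t, s ≤ p - 2 → t ≤ p - 2 → s + t < n → c s t = 0)
    (hbase : ∀ i, i ≠ 0 → i ≤ p - 2 → i + (p - 2) = n → c i (p - 2) = 0) :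
    ∀ i j, i ≤ p - 2 → j ≤ p - 2 → i + j = n → c i j = 0 := by
  intro i
  induction i with
  | zero => exact fun j _ _ _ => h0 j
  | succ i ih =>
    intro j hi hj hij
    rcases Nat.lt_or_ge j (p - 2) with hj' | hj'
    · have h := shift_rel c htr i j hi hj' (fun s t hs ht hst => hlow s t hs ht (by omega))
      rw [ih (j + 1) (by omega) hj' (by omega), mul_zero, zero_add] at h
      refine (mul_eq_zero.mp h).resolve_left fun e => ?_
      have e' : ((j + 1 : ℕ) : ZMod p) = 0 := by exact_mod_cast e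
      rw [ZMod.natCast_eq_zero_iff] at e'
      have := Nat.le_of_dvd (by omega) e'
      omega
    · obtain rfl : j = p - 2 := by omega
      exact hbase (i + 1) (by omega) hi hij

include htr in
/-- The weighted case: only one coefficient can survive. -/
theorem eq_zero_of_weight (h0 : ∀ j, c 0 j = 0) {m : ℕ} (hm : p = 2 * m + 1) (a : ZMod p)
    (ha : orderOf a = m) (hw : ∀ i j, c i j = a ^ (1 + i + j) * c i j)
    (hkey : c m (p - 2) = 0) : ∀ i j, i ≤ p - 2 → j ≤ p - 2 → c i j = 0 := by
  suffices h : ∀ n i j, i ≤ p - 2 → j ≤ p - 2 → i + j = n → c i j = 0 from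
    fun i j hi hj => h _ i j hi hj rfl
  intro n
  induction n using Nat.strong_induction_on with
  | _ n ih =>
    refine chain c htr h0 n (fun s t hs ht hst => ih _ hst s t hs ht rfl) fun i hi0 hi hin => ?_
    by_contra hc
    have h1 : a ^ (1 + i + (p - 2)) = 1 :=
      mul_right_cancel₀ hc (by rw [one_mul]; exact (hw i (p - 2)).symm)
    rw [← orderOf_dvd_iff_pow_eq_one, ha] at h1
    have h2 : m ∣ i := by
      rw [show 1 + i + (p - 2) = i + 2 * m by omega] at h1
      exact (Nat.dvd_add_left (dvd_mul_left m 2)).mp h1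
    obtain ⟨k, rfl⟩ := h2
    rcases k with _ | _ | k
    · simp at hi0
    · rw [Nat.zero_add, mul_one] at hc
      exact hc hkey
    · have : m * 2 ≤ m * (k + 1 + 1) := Nat.mul_le_mul le_rfl (by omega)
      omega

include htr in
/-- The skew case: the row of degree one vanishes. -/
theorem row_one_of_skew (h0 : ∀ j, c 0 j = 0) (hp2 : p ≠ 2) (hskew : ∀ i j, c i j = -c j i) :
    ∀ j, j ≤ p - 2 → c 1 j = 0 := by
  have hp := (Fact.out : p.Prime)
  have hp3 : 3 ≤ p := by have := hp.two_le; omega
  have hsmall : ∀ n, n ≤ p - 2 → ∀ i j, i ≤ p - 2 → j ≤ p - 2 → i + j = n → c i j = 0 := by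
    intro n
    induction n using Nat.strong_induction_on with
    | _ n ih =>
      intro hn
      exact chain c htr h0 n (fun s t hs ht hst => ih _ hst (by omega) s t hs ht rfl)
        fun i hi0 _ hin => by omega
  intro j hj
  rcases Nat.lt_or_ge j (p - 2) with hj' | hj'
  · exact hsmall (1 + j) (by omega) 1 j (by omega) hj rfl
  · obtain rfl : j = p - 2 := by omega
    have hconst : ∀ k, k ≤ p - 3 → c (k + 1) (p - 2 - k) = c 1 (p - 2) := by
      intro k
      induction k with
      | zero => intro; simp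
      | succ k ih =>
        intro hk
        have h := shift_rel c htr (k + 1) (p - 2 - (k + 1)) (by omega) (by omega)
          (fun s t hs ht hst => hsmall (s + t) (by omega) s t hs ht rfl)
        rw [show p - 2 - (k + 1) + 1 = p - 2 - k by omega, ih (by omega)] at h
        have hneg : ((p - 2 - (k + 1) : ℕ) : ZMod p) + 1 = -(((k + 1 : ℕ) : ZMod p) + 1) := by
          have e : ((p - 2 - (k + 1) + 1 + (k + 1 + 1) : ℕ) : ZMod p) = 0 := by
            rw [show p - 2 - (k + 1) + 1 + (k + 1 + 1) = p by omega, ZMod.natCast_self]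
          push_cast at e ⊢
          linear_combination e
        rw [hneg] at h
        have hne : ((k + 1 : ℕ) : ZMod p) + 1 ≠ 0 := fun e => by
          have e' : ((k + 1 + 1 : ℕ) : ZMod p) = 0 := by exact_mod_cast e
          rw [ZMod.natCast_eq_zero_iff] at e'
          have := Nat.le_of_dvd (by omega) e'
          omega
        refine mul_left_cancel₀ hne ?_
        linear_combination -h
    have h := hconst (p - 3) le_rfl
    rw [show p - 3 + 1 = p - 2 by omega, show p - 2 - (p - 3) = 1 by omega] at h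
    have h2 : (2 : ZMod p) * c 1 (p - 2) = 0 := by
      linear_combination -h + (hskew (p - 2) 1)
    refine (mul_eq_zero.mp h2).resolve_left fun e => ?_
    have e' : ((2 : ℕ) : ZMod p) = 0 := by exact_mod_cast e
    rw [ZMod.natCast_eq_zero_iff, Nat.prime_dvd_prime_iff_eq hp Nat.prime_two] at e'
    exact hp2 e'

end Recursion

/-! ### Coordinates -/

theorem exists_half_coordinates {G : Type*} [Group G] [Finite G] {Ω : Type*} [Finite Ω]
    [MulAction G Ω] [FaithfulSMul G Ω] [IsPretransitive G Ω] (hΩ : Nat.card Ω = p)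
    (P : Sylow p G) {m : ℕ}
    (hN : Nat.card (Subgroup.normalizer ((P : Subgroup G) : Set G)) = p * m) :
    ∃ (e : ZMod p ≃ Ω) (σ h : G) (a : ZMod p), (∀ j, σ • e j = e (j + 1)) ∧
      (∀ j, h • e j = e (a * j)) ∧ orderOf a = m := by
  have hp := (Fact.out : p.Prime)
  obtain ⟨hP, hPt, hC, -⟩ := sylow_prime_degree (G := G) hΩ P
  have hcyc : IsCyclic (P : Subgroup G) := isCyclic_of_prime_card hP
  obtain ⟨σ, hσord⟩ := exists_prime_orderOf_dvd_card' (G := (P : Subgroup G)) p (dvd_of_eq hP.symm)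
  have hσ1 : σ ≠ 1 := fun e => hp.ne_one (by rw [← hσord, e, orderOf_one])
  have hgen : ∀ x : (P : Subgroup G), x ∈ Subgroup.zpowers σ :=
    fun x => mem_zpowers_of_prime_card hP hσ1
  let φ := (P : Subgroup G).normalizerMonoidHom
  have hk : Nat.card φ.ker = p := by
    rw [Subgroup.normalizerMonoidHom_ker,
      Nat.card_congr (Subgroup.subgroupOfEquivOfLe (fun c hc =>
        Subgroup.centralizer_le_normalizer _ hc)).toEquiv]
    exact (Nat.card_congr (MulEquiv.subgroupCongr hC).toEquiv).trans hP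
  have hr : Nat.card φ.range = m := by
    have h := φ.ker.index_mul_card
    rw [Subgroup.index_ker, hk, hN, mul_comm p m] at h
    exact Nat.eq_of_mul_eq_mul_right hp.pos h
  have : Fact (Nat.card (P : Subgroup G)).Prime := ⟨hP.symm ▸ hp⟩
  have : IsCyclic (MulAut (P : Subgroup G)) :=
    isCyclic_of_surjective (IsCyclic.mulAutMulEquiv (P : Subgroup G)).symm.toMonoidHom
      (IsCyclic.mulAutMulEquiv (P : Subgroup G)).symm.surjective
  obtain ⟨⟨f, hfr⟩, hf⟩ := IsCyclic.exists_ofOrder_eq_natCard (α := φ.range)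
  rw [hr, Subgroup.orderOf_mk] at hf
  obtain ⟨x, hx⟩ := hfr
  obtain ⟨k, hk' : σ ^ k = f σ⟩ := Submonoid.mem_powers_iff _ _ |>.mp
    (mem_powers_iff_mem_zpowers.mpr (hgen (f σ)))
  have hpow : ∀ n : ℕ, (f ^ n) σ = σ ^ (k ^ n) := fun n => by
    induction n with
    | zero => simp
    | succ n ih => rw [pow_succ', MulAut.mul_apply, ih, map_pow, ← hk', ← pow_mul, pow_succ']
  have hord : orderOf (k : ZMod p) = m := by
    rw [← hf]
    refine orderOf_eq_orderOf_iff.mpr fun n => ?_
    constructor
    · intro h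
      apply MulEquiv.ext
      intro y
      obtain ⟨j, rfl⟩ := Subgroup.mem_zpowers_iff.mp (hgen y)
      rw [MulAut.one_apply, map_zpow, hpow]
      congr 1
      conv_rhs => rw [← pow_one σ]
      rw [pow_eq_pow_iff_modEq, hσord, ← ZMod.natCast_eq_natCast_iff]
      simpa using h
    · intro h
      have h1 := hpow n
      rw [h, MulAut.one_apply] at h1
      conv_lhs at h1 => rw [← pow_one σ]
      rw [pow_eq_pow_iff_modEq, hσord, ← ZMod.natCast_eq_natCast_iff] at h1
      simpa using h1.symm
  have hne : Nonempty Ω := (Nat.card_ne_zero.mp (hΩ ▸ hp.ne_zero)).1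
  obtain ⟨o⟩ := hne
  let s : ZMod p → (P : Subgroup G) := fun i => σ ^ i.val
  have hsn : ∀ n : ℕ, s n = σ ^ n := fun n => by
    simp only [s]
    rw [pow_eq_pow_iff_modEq, hσord, ← ZMod.natCast_eq_natCast_iff]
    simp
  have hsadd : ∀ i j, s (i + j) = s i * s j := fun i j => by
    simp only [s]
    rw [← pow_add, pow_eq_pow_iff_modEq, hσord, ← ZMod.natCast_eq_natCast_iff]
    simp
  have hs1 : s 1 = σ := by rw [← Nat.cast_one, hsn, pow_one]
  have hsbij : Function.Bijective fun i => s i • o := by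
    rw [Nat.bijective_iff_surjective_and_card]
    refine ⟨fun y => ?_, by rw [Nat.card_zmod, hΩ]⟩
    obtain ⟨u, hu⟩ := exists_smul_eq (P : Subgroup G) o y
    obtain ⟨n, hn⟩ := Submonoid.mem_powers_iff _ _ |>.mp
      (mem_powers_iff_mem_zpowers.mpr (hgen u))
    exact ⟨n, by simp only [hsn, hn, hu]⟩
  let e := Equiv.ofBijective _ hsbij
  obtain ⟨b, hb⟩ : ∃ b : ZMod p, (x : G) • o = e b := ⟨_, (e.apply_symm_apply _).symm⟩
  have hconj : ∀ y : (P : Subgroup G), ((f y : (P : Subgroup G)) : G) = (x : G) * y * (x : G)⁻¹ :=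
    fun y => by rw [← hx]; rfl
  refine ⟨e, (σ : G), (s (-b) : G) * x, (k : ZMod p), fun j => ?_, fun j => ?_, hord⟩
  · change σ • (s j • o) = s (j + 1) • o
    rw [← mul_smul, add_comm, hsadd, hs1]
  · change ((s (-b) : G) * x) • ((s j : G) • o) = s ((k : ZMod p) * j) • o
    have h1 : (x : G) * (s j : G) = (f (s j) : G) * x := by rw [hconj]; group
    have h2 : f (s j) = s ((k : ZMod p) * j) := by
      rw [show ((k : ZMod p) * j) = ((k * j.val : ℕ) : ZMod p) by simp, hsn]
      simp only [s]
      rw [map_pow, ← hk', ← pow_mul]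
    rw [← mul_smul, mul_assoc, h1, h2, mul_smul, mul_smul, hb]
    change s (-b) • (s ((k : ZMod p) * j) • (s b • o)) = _
    rw [← mul_smul, ← mul_smul, ← hsadd, ← hsadd]
    congr 2
    ring

/-! ### The kernel -/

omit [DecidableEq α] in
theorem form_smul_mid (g : α → α → α → ZMod p) (r : ZMod p) (u v w : α → ZMod p) :
    form g u (r • v) w = r * form g u v w := by
  simp only [form, Finset.mul_sum, Pi.smul_apply, smul_eq_mul]
  exact Finset.sum_congr rfl fun a _ => Finset.sum_congr rfl fun b _ =>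
    Finset.sum_congr rfl fun c _ => by ring

omit [DecidableEq α] in
theorem form_smul_last (g : α → α → α → ZMod p) (r : ZMod p) (u v w : α → ZMod p) :
    form g u v (r • w) = r * form g u v w := by
  simp only [form, Finset.mul_sum, Pi.smul_apply, smul_eq_mul]
  exact Finset.sum_congr rfl fun a _ => Finset.sum_congr rfl fun b _ =>
    Finset.sum_congr rfl fun c _ => by ring

omit [DecidableEq α] in
theorem form_add_mid (g : α → α → α → ZMod p) (u v v' w : α → ZMod p) :
    form g u (v + v') w = form g u v w + form g u v' w := by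
  simp only [form, ← Finset.sum_add_distrib, Pi.add_apply]
  exact Finset.sum_congr rfl fun a _ => Finset.sum_congr rfl fun b _ =>
    Finset.sum_congr rfl fun c _ => by ring

omit [DecidableEq α] in
theorem form_sum_last {ι : Type*} (S : Finset ι) (g : α → α → α → ZMod p) (u v : α → ZMod p)
    (r : ι → ZMod p) (x : ι → α → ZMod p) :
    form g u v (∑ i ∈ S, r i • x i) = ∑ i ∈ S, r i * form g u v (x i) := by
  classical
  induction S using Finset.induction_on with
  | empty => simp [form]
  | insert i T hi ih =>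
    rw [Finset.sum_insert hi, Finset.sum_insert hi, ← ih]
    simp only [form, Finset.mul_sum, ← Finset.sum_add_distrib, Pi.add_apply, Pi.smul_apply,
      smul_eq_mul]
    exact Finset.sum_congr rfl fun a _ => Finset.sum_congr rfl fun b _ =>
      Finset.sum_congr rfl fun c _ => by ring

/-- The monomial functions in given coordinates. -/
def mono (e : ZMod p ≃ α) (i : ℕ) : α → ZMod p := fun a => (e.symm a) ^ i

omit [Fintype α] [DecidableEq α] in
theorem mono_translate {G : Type*} [Group G] [MulAction G α] (e : ZMod p ≃ α) (σ : G)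
    (hσ : ∀ j, σ • e j = e (j + 1)) (i : ℕ) :
    (fun a => mono e i (σ • a)) =
      ∑ s ∈ Finset.range (i + 1), (i.choose s : ZMod p) • mono e s := by
  funext a
  obtain ⟨j, rfl⟩ := e.surjective a
  simp only [mono, hσ, Equiv.symm_apply_apply, Finset.sum_apply, Pi.smul_apply, smul_eq_mul,
    add_pow, one_pow, mul_one]
  exact Finset.sum_congr rfl fun s _ => mul_comm _ _

omit [DecidableEq α] in
theorem sum_mono (e : ZMod p ≃ α) {i : ℕ} (hi : i < p - 1) : ∑ a, mono e i a = 0 := by
  rw [show ∑ a, mono e i a = ∑ j : ZMod p, j ^ i from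
    Fintype.sum_equiv e.symm _ _ fun a => rfl]
  exact FiniteField.sum_pow_lt_card_sub_one (K := ZMod p) i (by rw [ZMod.card]; exact hi)

omit [DecidableEq α] in
/-- The functions of sum zero are the polynomial functions of degree at most `p - 2`. -/
theorem exists_mono_sum (e : ZMod p ≃ α) (v : α → ZMod p) (hv : ∑ a, v a = 0) :
    ∃ r : ℕ → ZMod p, v = ∑ t ∈ Finset.range (p - 1), r t • mono e t := by
  have hp := (Fact.out : p.Prime)
  have hv' : ∑ b, v (e b) = 0 := (Fintype.sum_equiv e _ v fun b => rfl).trans hv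
  refine ⟨fun t => -((p - 1).choose t : ZMod p) * ∑ b, v (e b) * (-b) ^ (p - 1 - t),
    funext fun a => ?_⟩
  obtain ⟨j, rfl⟩ := e.surjective a
  simp only [mono, Finset.sum_apply, Pi.smul_apply, smul_eq_mul, Equiv.symm_apply_apply]
  have h1 : v (e j) = ∑ b, v (e b) * (1 - (j + -b) ^ (p - 1)) := by
    rw [Finset.sum_eq_single j]
    · rw [add_neg_cancel, zero_pow (by have := hp.two_le; omega), sub_zero, mul_one]
    · intro b _ hb
      rw [ZMod.pow_card_sub_one_eq_one (by rwa [← sub_eq_add_neg, sub_ne_zero, ne_comm]),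
        sub_self, mul_zero]
    · simp
  rw [h1]
  simp only [mul_sub, mul_one, Finset.sum_sub_distrib, hv', zero_sub, add_pow]
  simp only [Finset.sum_range_succ, Nat.sub_self, pow_zero,
    mul_one, Nat.choose_self, Nat.cast_one, mul_add, Finset.sum_add_distrib, Finset.mul_sum]
  rw [← Finset.sum_mul, hv', zero_mul, add_zero, Finset.sum_comm, ← Finset.sum_neg_distrib]
  refine Finset.sum_congr rfl fun t _ => ?_
  simp only [Finset.sum_mul, ← Finset.sum_neg_distrib]
  exact Finset.sum_congr rfl fun b _ => by ring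

/-- An invariant subspace containing the constants and the coordinate contains every function of
sum zero. -/
theorem mem_of_sum_eq_zero (hα : Fintype.card α = p) (G : Subgroup (Equiv.Perm α))
    [IsPretransitive G α] (hG : ¬ Group.IsSolvable G) (e : ZMod p ≃ α) (hp2 : p ≠ 2)
    (S : Submodule (ZMod p) (α → ZMod p))
    (hinv : ∀ (x : G) u, u ∈ S → (fun a => u (x • a)) ∈ S)
    (h1 : (1 : α → ZMod p) ∈ S) (hl : mono e 1 ∈ S) (u : α → ZMod p) (hu : ∑ a, u a = 0) :
    u ∈ S := by
  have hp := (Fact.out : p.Prime)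
  let W : Subrepresentation (Cfsg.permRep (ZMod p) G α) :=
    { toSubmodule :=
        { carrier := {u | ∑ a, u a = 0 ∧ u ∈ S}
          add_mem' := fun {u u'} h h' => ⟨by simp [Finset.sum_add_distrib, h.1, h'.1],
            add_mem h.2 h'.2⟩
          zero_mem' := ⟨by simp, zero_mem S⟩
          smul_mem' := fun r u h => ⟨by simp [← Finset.mul_sum, h.1], S.smul_mem r h.2⟩ }
      apply_mem_toSubmodule := fun x u h =>
        ⟨(Fintype.sum_equiv (MulAction.toPerm x⁻¹) _ u fun a => rfl).trans h.1,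
          hinv x⁻¹ u h.2⟩ }
  have hW := S0674.result hα G hG (K := ZMod p) W (by
      refine (Submodule.span_singleton_le_iff_mem _ _).mpr ⟨?_, h1⟩
      simp [hα])
    (fun u hu => hu.1)
  have hlW : mono e 1 ∈ W.toSubmodule := ⟨sum_mono e (by have := hp.two_le; omega), hl⟩
  have hWS : W = Cfsg.permSumZero (ZMod p) G α := by
    refine hW.resolve_left fun h => ?_
    rw [h] at hlW
    obtain ⟨r, hr⟩ := Submodule.mem_span_singleton.mp hlW
    have h0 := congrFun hr (e 0)
    have h1 := congrFun hr (e 1)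
    simp only [mono, pow_one, Equiv.symm_apply_apply, Pi.smul_apply, smul_eq_mul, mul_one] at h0 h1
    exact zero_ne_one (h0.symm.trans h1)
  have hu' : u ∈ W.toSubmodule := by rw [hWS]; exact hu
  exact hu'.2

/-- An invariant kernel with vanishing partial sums which is killed by one functional is zero. -/
theorem kernel_eq_zero (hα : Fintype.card α = p) (G : Subgroup (Equiv.Perm α))
    [IsPretransitive G α] (hG : ¬ Group.IsSolvable G) (e : ZMod p ≃ α) (σ h : G) (a : ZMod p)
    (hσ : ∀ j, σ • e j = e (j + 1)) (hh : ∀ j, h • e j = e (a * j)) {m : ℕ}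
    (hm : p = 2 * m + 1) (ha : orderOf a = m) (hm0 : 0 < m)
    (g : α → α → α → ZMod p) (hg : ∀ (x : G) a b c, g (x • a) (x • b) (x • c) = g a b c)
    (hnd : ∀ a b c, ¬(a ≠ b ∧ a ≠ c ∧ b ≠ c) → g a b c = 0)
    (hs1 : ∀ b c, ∑ a, g a b c = 0) (hs2 : ∀ a c, ∑ b, g a b c = 0)
    (hs3 : ∀ a b, ∑ c, g a b c = 0)
    (hkey : form g (mono e 1) (mono e m) (mono e (p - 2)) = 0) : ∀ a b c, g a b c = 0 := by
  classical
  have hp := (Fact.out : p.Prime)
  have hp2 : p ≠ 2 := by omega
  have f1 : ∀ v w, form g 1 v w = 0 := fun v w => by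
    simp only [form, Pi.one_apply, mul_one]
    rw [Finset.sum_comm]
    refine Finset.sum_eq_zero fun b _ => ?_
    rw [Finset.sum_comm]
    exact Finset.sum_eq_zero fun c _ => by rw [← Finset.sum_mul, ← Finset.sum_mul, hs1, zero_mul,
      zero_mul]
  have f2 : ∀ u w, form g u 1 w = 0 := fun u w => by
    simp only [form, Pi.one_apply, mul_one]
    refine Finset.sum_eq_zero fun a _ => ?_
    rw [Finset.sum_comm]
    exact Finset.sum_eq_zero fun c _ => by rw [← Finset.sum_mul, ← Finset.sum_mul, hs2, zero_mul,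
      zero_mul]
  have f3 : ∀ u v, form g u v 1 = 0 := fun u v => by
    simp only [form, Pi.one_apply, mul_one]
    exact Finset.sum_eq_zero fun a _ => Finset.sum_eq_zero fun b _ => by
      rw [← Finset.sum_mul, ← Finset.sum_mul, hs3, zero_mul, zero_mul]
  have hm1 : mono e 0 = 1 := funext fun x => by simp [mono]
  have expand : ∀ (u : α → ZMod p), (∀ i, i ≤ p - 2 → ∀ j, j ≤ p - 2 →
      form g u (mono e i) (mono e j) = 0) →
      ∀ v w, ∑ x, v x = 0 → ∑ x, w x = 0 → form g u v w = 0 := fun u hu v w hv hw => by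
    obtain ⟨r, rfl⟩ := exists_mono_sum e v hv
    obtain ⟨r', rfl⟩ := exists_mono_sum e w hw
    rw [form_sum_mid]
    refine Finset.sum_eq_zero fun i hi => ?_
    rw [form_sum_last, Finset.sum_eq_zero fun j hj => ?_, mul_zero]
    rw [Finset.mem_range] at hi hj
    rw [hu i (by omega) j (by omega), mul_zero]
  -- the coefficients of the coordinate
  let c : ℕ → ℕ → ZMod p := fun i j => form g (mono e 1) (mono e i) (mono e j)
  have htr : ∀ i j, c i j = ∑ s ∈ Finset.range (i + 1), ∑ t ∈ Finset.range (j + 1),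
      (i.choose s : ZMod p) * (j.choose t : ZMod p) * c s t := fun i j => by
    simp only [c]
    conv_lhs => rw [form_comp g hg σ, mono_translate e σ hσ, mono_translate e σ hσ,
      mono_translate e σ hσ, form_sum_mid]
    refine Finset.sum_congr rfl fun s _ => ?_
    rw [form_sum_last, Finset.mul_sum]
    refine Finset.sum_congr rfl fun t _ => ?_
    rw [Finset.sum_range_succ, Finset.sum_range_succ, Finset.sum_range_zero, zero_add,
      Nat.choose_self, Nat.choose_zero_right, Nat.cast_one, one_smul, one_smul, form_add, hm1, f1,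
      zero_add, mul_assoc]
  have hscale : ∀ i, (fun x => mono e i (h • x)) = a ^ i • mono e i := fun i => funext fun x => by
    obtain ⟨j, rfl⟩ := e.surjective x
    simp [mono, hh, mul_pow]
  have hw : ∀ i j, c i j = a ^ (1 + i + j) * c i j := fun i j => by
    simp only [c]
    conv_lhs => rw [form_comp g hg h, hscale, hscale, hscale, form_smul, form_smul_mid,
      form_smul_last]
    ring
  have hc := eq_zero_of_weight c (fun i j _ _ => htr i j) (fun j => by simp only [c, hm1, f2]) hm a ha hw hkey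
  -- every function of sum zero is killed
  let S : Submodule (ZMod p) (α → ZMod p) :=
    { carrier := {u | ∀ v w : α → ZMod p, ∑ x, v x = 0 → ∑ x, w x = 0 → form g u v w = 0}
      add_mem' := fun {u u'} hu hu' v w hv hw => by
        rw [form_add, hu v w hv hw, hu' v w hv hw, add_zero]
      zero_mem' := fun v w _ _ => by simp [form]
      smul_mem' := fun r u hu v w hv hw => by rw [form_smul, hu v w hv hw, mul_zero] }
  have hinvsum : ∀ (x : G) (v : α → ZMod p), ∑ y, v y = 0 → ∑ y, v (x • y) = 0 := fun x v hv =>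
    (Fintype.sum_equiv (MulAction.toPerm x) _ v fun y => rfl).trans hv
  have hS : ∀ u, ∑ x, u x = 0 → u ∈ S := by
    refine mem_of_sum_eq_zero hα G hG e hp2 S (fun x u hu v w hv hw => ?_) (fun v w _ _ => f1 v w)
      (expand _ fun i hi j hj => hc i j hi hj)
    rw [form_comp g hg x⁻¹]
    simp only [smul_inv_smul]
    exact hu _ _ (hinvsum _ v hv) (hinvsum _ w hw)
  have hanti : ∀ a b c, g a c b = -g a b c := fun a b c => by
    have h := hS _ (sum_single_sub a c) (Pi.single b 1 - Pi.single c 1)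
      (Pi.single b 1 - Pi.single c 1) (sum_single_sub _ _) (sum_single_sub _ _)
    rw [form_difference, hnd a b b (by simp), hnd a c c (by simp), hnd c b b (by simp),
      hnd c b c (by simp), hnd c c b (by simp), hnd c c c (by simp)] at h
    linear_combination -h
  have hswap : ∀ u v w, form g u v w = -form g u w v := fun u v w => by
    simp only [form, ← Finset.sum_neg_distrib]
    refine Finset.sum_congr rfl fun a _ => ?_
    rw [Finset.sum_comm]
    exact Finset.sum_congr rfl fun c _ => Finset.sum_congr rfl fun b _ => by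
      rw [show g a b c = -g a c b from hanti a c b]; ring
  -- the invariant bilinear form attached to one point
  let B : (α → ZMod p) → (α → ZMod p) → ZMod p := fun v w => form g (Pi.single (e 0) 1) v w
  have hindep : ∀ z v w, ∑ x, v x = 0 → ∑ x, w x = 0 →
      form g (Pi.single z 1) v w = B v w := fun z v w hv hw => by
    have h0 := hS _ (sum_single_sub z (e 0)) v w hv hw
    rw [show (Pi.single z 1 - Pi.single (e 0) 1 : α → ZMod p) =
      Pi.single z 1 + (-1 : ZMod p) • Pi.single (e 0) 1 by rw [neg_one_smul, sub_eq_add_neg],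
      form_add, form_smul] at h0
    simp only [B]
    linear_combination h0
  have hBinv : ∀ (x : G) v w, ∑ y, v y = 0 → ∑ y, w y = 0 →
      B (fun y => v (x • y)) (fun y => w (x • y)) = B v w := fun x v w hv hw => by
    rw [← hindep (x⁻¹ • e 0) _ _ (hinvsum _ v hv) (hinvsum _ w hw)]
    simp only [B]
    conv_rhs => rw [form_comp g hg x]
    congr 1
    funext y
    simp [Pi.single_apply, eq_inv_smul_iff]
  have hd : ∀ j, j ≤ p - 2 → B (mono e 1) (mono e j) = 0 := by
    let B' : ℕ → ℕ → ZMod p := fun i j => B (mono e i) (mono e j)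
    have htr' : ∀ i j, i ≤ p - 2 → j ≤ p - 2 → B' i j = ∑ s ∈ Finset.range (i + 1),
        ∑ t ∈ Finset.range (j + 1), (i.choose s : ZMod p) * (j.choose t : ZMod p) * B' s t :=
      fun i j hi hj => by
        simp only [B']
        rw [← hBinv σ _ _ (sum_mono e (by omega)) (sum_mono e (by omega)),
          mono_translate e σ hσ, mono_translate e σ hσ]
        simp only [B, form_sum_mid, form_sum_last, Finset.mul_sum, mul_assoc]
        rw [Finset.sum_comm]
        exact Finset.sum_congr rfl fun s _ => Finset.sum_congr rfl fun t _ => by ring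
    intro j hj
    exact row_one_of_skew B' htr' (fun j => by simp only [B', B, hm1, f2]) hp2
      (fun i j => hswap _ _ _) j hj
  let T : Submodule (ZMod p) (α → ZMod p) :=
    { carrier := {v | ∑ x, v x = 0 ∧ ∀ w : α → ZMod p, ∑ x, w x = 0 → B v w = 0}
      add_mem' := fun {v v'} hv hv' => ⟨by simp [Finset.sum_add_distrib, hv.1, hv'.1],
        fun w hw => by simp only [B, form_add_mid]; rw [show form g _ v w = 0 from hv.2 w hw,
          show form g _ v' w = 0 from hv'.2 w hw, add_zero]⟩
      zero_mem' := ⟨by simp, fun w _ => by simp [B, form]⟩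
      smul_mem' := fun r v hv => ⟨by simp [← Finset.mul_sum, hv.1],
        fun w hw => by simp only [B, form_smul_mid]; rw [show form g _ v w = 0 from hv.2 w hw,
          mul_zero]⟩ }
  have hone : ∑ x, (1 : α → ZMod p) x = 0 := by simp [hα]
  have hT : ∀ v, ∑ x, v x = 0 → v ∈ T := by
    refine mem_of_sum_eq_zero hα G hG e hp2 T (fun x v hv => ⟨hinvsum _ v hv.1, fun w hw => ?_⟩)
      ⟨hone, fun w _ => f2 _ w⟩ ⟨sum_mono e (by omega), fun w hw => ?_⟩
    · rw [← hBinv x⁻¹ _ w (hinvsum _ v hv.1) hw]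
      simp only [smul_inv_smul]
      exact hv.2 _ (hinvsum _ w hw)
    · obtain ⟨r, rfl⟩ := exists_mono_sum e w hw
      simp only [B]
      rw [form_sum_last]
      refine Finset.sum_eq_zero fun j hj => ?_
      rw [Finset.mem_range] at hj
      rw [show form g _ (mono e 1) (mono e j) = 0 from hd j (by omega), mul_zero]
  intro z b c
  have h0 := (hT _ (sum_single_sub b z)).2 (Pi.single c 1 - Pi.single z 1) (sum_single_sub _ _)
  rw [← hindep z _ _ (sum_single_sub _ _) (sum_single_sub _ _)] at h0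
  simp only [form, Pi.sub_apply, mul_sub, Finset.sum_sub_distrib, Pi.single_apply,
    mul_ite, mul_one, mul_zero, Finset.sum_ite_eq', Finset.mem_univ, if_true] at h0
  rw [hnd z z c (by simp), hnd z b z (by simp), hnd z z z (by simp)] at h0
  simpa using h0

/-! ### Two point stabilisers -/

omit [Fact p.Prime] in
/-- The number of completions of a pair in a given position does not depend on the pair. -/
theorem total_eq (hα : Fintype.card α = p) (G : Subgroup (Equiv.Perm α))
    (h2 : IsMultiplyPretransitive G α 2) (R : α → α → α → Prop) [∀ u v w, Decidable (R u v w)]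
    (hR : ∀ (x : G) u v w, R (x • u) (x • v) (x • w) ↔ R u v w)
    (hRne : ∀ u v w, R u v w → v ≠ w) (v w : α) (hvw : v ≠ w) :
    ∑ u, ∑ v, ∑ w, (if R u v w then 1 else 0) =
      p * (p - 1) * (Finset.univ.filter fun u => R u v w).card := by
  rw [Finset.sum_comm, Finset.sum_congr rfl (g := fun _ =>
    (p - 1) * (Finset.univ.filter fun u => R u v w).card) fun y _ => ?_, Finset.sum_const,
    Finset.card_univ, hα, smul_eq_mul, mul_assoc]
  rw [Finset.sum_comm, ← Finset.sum_erase Finset.univ (a := y) (Finset.sum_eq_zero fun u _ =>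
      if_neg fun h => hRne _ _ _ h rfl),
    Finset.sum_congr rfl (g := fun _ => (Finset.univ.filter fun u => R u v w).card) fun z hz => ?_,
    Finset.sum_const, Finset.card_erase_of_mem (Finset.mem_univ _), Finset.card_univ, hα,
    smul_eq_mul]
  rw [← Finset.card_filter]
  obtain ⟨x, hx1, hx2⟩ :=
    is_two_pretransitive_iff.mp h2 (Finset.ne_of_mem_erase hz).symm hvw
  refine Finset.card_equiv (MulAction.toPerm x) fun u => ?_
  simp only [Finset.mem_filter, Finset.mem_univ, true_and, MulAction.toPerm_apply, ← hx1, ← hx2, hR]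

/-- An invariant relation on distinct triples gives a kernel with vanishing partial sums. -/
theorem balanced (hα : Fintype.card α = p) (G : Subgroup (Equiv.Perm α))
    (h2 : IsMultiplyPretransitive G α 2) {a₀ b₀ : α} (hab : a₀ ≠ b₀) (R : α → α → α → Prop)
    [∀ u v w, Decidable (R u v w)]
    (hR : ∀ (x : G) u v w, R (x • u) (x • v) (x • w) ↔ R u v w)
    (hne : ∀ u v w, R u v w → u ≠ v ∧ u ≠ w ∧ v ≠ w) :
    ∃ (k : ℕ) (f : α → α → α → ZMod p),
      (∀ u v w, f u v w =
        if u ≠ v ∧ u ≠ w ∧ v ≠ w then (if R u v w then 2 else 0) + (k : ZMod p) else 0) ∧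
      (∀ v w, ∑ u, f u v w = 0) ∧ (∀ u w, ∑ v, f u v w = 0) ∧ (∀ u v, ∑ w, f u v w = 0) := by
  have hp := (Fact.out : p.Prime)
  have := hp.two_le
  set k := (Finset.univ.filter fun u => R u a₀ b₀).card
  have hpp : 0 < p * (p - 1) := Nat.mul_pos hp.pos (by omega)
  have e1 := total_eq hα G h2 R hR (fun _ _ _ h => (hne _ _ _ h).2.2) a₀ b₀ hab
  have k1 : ∀ v w, v ≠ w → (Finset.univ.filter fun u => R u v w).card = k := fun v w h =>
    Nat.eq_of_mul_eq_mul_left hpp
      ((total_eq hα G h2 R hR (fun _ _ _ h => (hne _ _ _ h).2.2) v w h).symm.trans e1)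
  have k2 : ∀ u w, u ≠ w → (Finset.univ.filter fun v => R u v w).card = k := fun u w h => by
    refine Nat.eq_of_mul_eq_mul_left hpp ?_
    rw [← e1, ← total_eq hα G h2 (fun v u w => R u v w) (fun x u v w => hR x v u w)
      (fun _ _ _ h => (hne _ _ _ h).2.1) u w h]
    exact Finset.sum_comm
  have k3 : ∀ u v, u ≠ v → (Finset.univ.filter fun w => R u v w).card = k := fun u v h => by
    refine Nat.eq_of_mul_eq_mul_left hpp ?_
    rw [← e1, ← total_eq hα G h2 (fun w u v => R u v w) (fun x u v w => hR x v w u)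
      (fun _ _ _ h => (hne _ _ _ h).1) u v h]
    rw [Finset.sum_comm]
    exact Finset.sum_congr rfl fun _ _ => Finset.sum_comm
  have line : ∀ (Q S : α → Prop) [DecidablePred Q] [DecidablePred S] (v w : α), v ≠ w →
      (∀ u, S u ↔ u ≠ v ∧ u ≠ w) → (∀ u, Q u → S u) → (Finset.univ.filter Q).card = k →
      ∑ u, (if S u then (if Q u then 2 else 0) + (k : ZMod p) else 0) = 0 := by
    intro Q S _ _ v w hvw hS hQS hQ
    rw [← Finset.sum_filter, Finset.sum_add_distrib, ← Finset.sum_filter, Finset.sum_const,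
      Finset.sum_const, Finset.filter_filter,
      show (Finset.univ.filter fun u => S u ∧ Q u) = Finset.univ.filter Q from
        Finset.filter_congr fun u _ => ⟨fun h => h.2, fun h => ⟨hQS u h, h⟩⟩, hQ,
      show (Finset.univ.filter S) = ({v, w} : Finset α)ᶜ from
        Finset.ext fun u => by simp [hS], Finset.card_compl, Finset.card_pair hvw, hα,
      nsmul_eq_mul, nsmul_eq_mul, Nat.cast_sub hp.two_le, ZMod.natCast_self]
    push_cast
    ring
  refine ⟨k, fun u v w =>
    if u ≠ v ∧ u ≠ w ∧ v ≠ w then (if R u v w then 2 else 0) + (k : ZMod p) else 0,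
    fun u v w => rfl, fun v w => ?_, fun u w => ?_, fun u v => ?_⟩
  · by_cases h : v = w
    · simp [h]
    · exact line (fun u => R u v w) _ v w h
        (fun u => ⟨fun h' => ⟨h'.1, h'.2.1⟩, fun h' => ⟨h'.1, h'.2, h⟩⟩)
        (fun u h' => hne _ _ _ h') (k1 v w h)
  · by_cases h : u = w
    · simp [h]
    · exact line (fun v => R u v w) _ u w h
        (fun v => ⟨fun h' => ⟨h'.1.symm, h'.2.2⟩, fun h' => ⟨h'.1.symm, h, h'.2⟩⟩)
        (fun v h' => hne _ _ _ h') (k2 u w h)
  · by_cases h : u = v
    · simp [h]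
    · exact line (fun w => R u v w) _ u v h
        (fun w => ⟨fun h' => ⟨h'.2.1.symm, h'.2.2.symm⟩, fun h' => ⟨h, h'.1.symm, h'.2.symm⟩⟩)
        (fun w h' => hne _ _ _ h') (k3 u v h)

/-- Among any three further points, two are conjugate under the stabiliser of two given points. -/
theorem two_point_orbits (hα : Fintype.card α = p) (G : Subgroup (Equiv.Perm α))
    [IsPretransitive G α] (hG : ¬ Group.IsSolvable G) (e : ZMod p ≃ α) (σ h : G) (a : ZMod p)
    (hσ : ∀ j, σ • e j = e (j + 1)) (hh : ∀ j, h • e j = e (a * j)) {m : ℕ}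
    (hm : p = 2 * m + 1) (ha : orderOf a = m) (hm0 : 0 < m)
    {a₀ b₀ c₁ c₂ c₃ : α} (hab : a₀ ≠ b₀) (hc₁ : c₁ ≠ a₀ ∧ c₁ ≠ b₀) (hc₂ : c₂ ≠ a₀ ∧ c₂ ≠ b₀)
    (hc₃ : c₃ ≠ a₀ ∧ c₃ ≠ b₀)
    (h12 : ∀ x : G, x • a₀ = a₀ → x • b₀ = b₀ → x • c₁ ≠ c₂)
    (h13 : ∀ x : G, x • a₀ = a₀ → x • b₀ = b₀ → x • c₁ ≠ c₃)
    (h23 : ∀ x : G, x • a₀ = a₀ → x • b₀ = b₀ → x • c₂ ≠ c₃) : False := by
  classical
  have hp := (Fact.out : p.Prime)
  have hp2 : p ≠ 2 := by omega
  have h20 : (2 : ZMod p) ≠ 0 := by
    intro e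
    have e' : ((2 : ℕ) : ZMod p) = 0 := by exact_mod_cast e
    rw [ZMod.natCast_eq_zero_iff, Nat.prime_dvd_prime_iff_eq hp Nat.prime_two] at e'
    exact hp2 e'
  have h2 : IsMultiplyPretransitive G α 2 := (S0675.result (hα.symm ▸ hp) G).resolve_left hG
  let O : α → α → α → α → Prop := fun c u v w => ∃ x : G, x • a₀ = u ∧ x • b₀ = v ∧ x • c = w
  have hO : ∀ c (x : G) u v w, O c (x • u) (x • v) (x • w) ↔ O c u v w := fun c x u v w => by
    constructor
    · rintro ⟨y, e1, e2, e3⟩
      exact ⟨x⁻¹ * y, by rw [mul_smul, e1, inv_smul_smul], by rw [mul_smul, e2, inv_smul_smul],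
        by rw [mul_smul, e3, inv_smul_smul]⟩
    · rintro ⟨y, e1, e2, e3⟩
      exact ⟨x * y, by rw [mul_smul, e1], by rw [mul_smul, e2], by rw [mul_smul, e3]⟩
  have hkernel : ∀ c, c ≠ a₀ ∧ c ≠ b₀ → ∃ (k : ℕ) (f : α → α → α → ZMod p),
      (∀ u v w, f u v w =
        if u ≠ v ∧ u ≠ w ∧ v ≠ w then (if O c u v w then 2 else 0) + (k : ZMod p) else 0) ∧
      (∀ v w, ∑ u, f u v w = 0) ∧ (∀ u w, ∑ v, f u v w = 0) ∧ (∀ u v, ∑ w, f u v w = 0) :=
    fun c hc => balanced hα G h2 hab (O c) (hO c) fun _ _ _ ⟨x, e1, e2, e3⟩ => by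
      subst e1 e2 e3
      exact ⟨fun h => hab (smul_left_cancel x h), fun h => hc.1 (smul_left_cancel x h).symm,
        fun h => hc.2 (smul_left_cancel x h).symm⟩
  obtain ⟨k1, f1, hf1, s11, s12, s13⟩ := hkernel c₁ hc₁
  obtain ⟨k2, f2, hf2, s21, s22, s23⟩ := hkernel c₂ hc₂
  have finv : ∀ c (k : ℕ) (f : α → α → α → ZMod p),
      (∀ u v w, f u v w =
        if u ≠ v ∧ u ≠ w ∧ v ≠ w then (if O c u v w then 2 else 0) + (k : ZMod p) else 0) →
      ∀ (x : G) u v w, f (x • u) (x • v) (x • w) = f u v w := fun c k f hf x u v w => by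
    simp only [hf, hO, (smul_left_cancel_iff x).not, ne_eq]
  have hfd : ∀ c (k : ℕ) (f : α → α → α → ZMod p),
      (∀ u v w, f u v w =
        if u ≠ v ∧ u ≠ w ∧ v ≠ w then (if O c u v w then 2 else 0) + (k : ZMod p) else 0) →
      ∀ d, d ≠ a₀ ∧ d ≠ b₀ →
        f a₀ b₀ d = (if O c a₀ b₀ d then 2 else 0) + (k : ZMod p) := fun c k f hf d hd => by
    rw [hf, if_pos ⟨hab, hd.1.symm, hd.2.symm⟩]
  let φ : (α → α → α → ZMod p) → ZMod p := fun g => form g (mono e 1) (mono e m) (mono e (p - 2))
  -- a combination killed by the functional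
  have hkill : ∀ r s : ZMod p, r * φ f1 + s * φ f2 = 0 → r = 0 ∧ s = 0 := by
    intro r s hrs
    have hφ : φ (fun u v w => r * f1 u v w + s * f2 u v w) = 0 := by
      simp only [φ, form, add_mul, mul_assoc, Finset.sum_add_distrib, ← Finset.mul_sum]
      simpa [φ, form, mul_assoc] using hrs
    have h0 := kernel_eq_zero hα G hG e σ h a hσ hh hm ha hm0
      (fun u v w => r * f1 u v w + s * f2 u v w)
      (fun x u v w => by simp only [finv c₁ k1 f1 hf1, finv c₂ k2 f2 hf2])
      (fun u v w hn => by simp only [hf1, hf2, if_neg hn, mul_zero, add_zero])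
      (fun v w => by simp only [Finset.sum_add_distrib, ← Finset.mul_sum, s11, s21, mul_zero,
        add_zero])
      (fun u w => by simp only [Finset.sum_add_distrib, ← Finset.mul_sum, s12, s22, mul_zero,
        add_zero])
      (fun u v => by simp only [Finset.sum_add_distrib, ← Finset.mul_sum, s13, s23, mul_zero,
        add_zero]) hφ a₀ b₀
    have self : ∀ c, O c a₀ b₀ c := fun c => ⟨1, one_smul _ _, one_smul _ _, one_smul _ _⟩
    have n12 : ¬ O c₁ a₀ b₀ c₂ := fun ⟨x, e1, e2, e3⟩ => h12 x e1 e2 e3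
    have n13 : ¬ O c₁ a₀ b₀ c₃ := fun ⟨x, e1, e2, e3⟩ => h13 x e1 e2 e3
    have n23 : ¬ O c₂ a₀ b₀ c₃ := fun ⟨x, e1, e2, e3⟩ => h23 x e1 e2 e3
    have n21 : ¬ O c₂ a₀ b₀ c₁ := fun ⟨x, e1, e2, e3⟩ =>
      h12 x⁻¹ (inv_smul_eq_iff.mpr e1.symm) (inv_smul_eq_iff.mpr e2.symm)
        (inv_smul_eq_iff.mpr e3.symm)
    have d1 := h0 c₁
    have d2 := h0 c₂
    have d3 := h0 c₃
    simp only [hfd c₁ k1 f1 hf1, hfd c₂ k2 f2 hf2, hc₁, hc₂, hc₃, ne_eq, not_false_eq_true,
      and_self, self, n12, n13, n23, n21, if_true, if_false] at d1 d2 d3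
    constructor
    · refine (mul_eq_zero.mp ?_).resolve_left h20
      linear_combination d1 - d3
    · refine (mul_eq_zero.mp ?_).resolve_left h20
      linear_combination d2 - d3
  obtain ⟨h1, -⟩ := hkill (φ f2) (-φ f1) (by ring)
  obtain ⟨-, h2'⟩ := hkill 0 1 (by rw [h1]; ring)
  exact one_ne_zero h2'

end Cfsg.Agent.Perm.HalfNorm
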