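/-
Two point stabilisers of groups of prime degree with half Sylow normaliser.

* `related_of_three` : of three further points two are conjugate under the stabiliser of two given points
-/
import Cfsg.Agent.Lib.Perm.HalfNormalizer

set_option autoImplicit false

namespace Cfsg.Agent.Perm.HalfNorm

open MulAction

/-- Among three points other than `u` and `v`, two are conjugate under the stabiliser of `u` and `v`. -/
theorem related_of_three {G Ω : Type*} [Group G] [Finite G] [MulAction G Ω] [FaithfulSMul G Ω]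
    [Finite Ω] [IsPretransitive G Ω] {p : ℕ} [Fact p.Prime] (hΩ : Nat.card Ω = p)
    (hins : ¬ Group.IsSolvable G) (P : Sylow p G) {m : ℕ} (hm : p = 2 * m + 1) (hm0 : 0 < m)
    (hN : Nat.card (Subgroup.normalizer ((P : Subgroup G) : Set G)) = p * m)
    {u v x y z : Ω} (huv : u ≠ v) (hx : x ≠ u ∧ x ≠ v) (hy : y ≠ u ∧ y ≠ v) (hz : z ≠ u ∧ z ≠ v) :
    (∃ g : G, g • u = u ∧ g • v = v ∧ g • x = y) ∨ (∃ g : G, g • u = u ∧ g • v = v ∧ g • x = z) ∨
      ∃ g : G, g • u = u ∧ g • v = v ∧ g • y = z := by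
  classical
  let : Fintype Ω := Fintype.ofFinite Ω
  have hcard : Fintype.card Ω = p := Nat.card_eq_fintype_card.symm.trans hΩ
  obtain ⟨e, σ, h, a, hσ, hh, ha⟩ := exists_half_coordinates (G := G) hΩ P hN
  let G' : Subgroup (Equiv.Perm Ω) := (MulAction.toPermHom G Ω).range
  have : IsPretransitive G' Ω := ⟨fun x y => by
    obtain ⟨g, hg⟩ := MulAction.exists_smul_eq G x y
    exact ⟨⟨_, g, rfl⟩, hg⟩⟩
  have hG' : ¬ Group.IsSolvable G' := fun hs => hins
    (Group.isSolvable_of_isSolvable_injective (f := (MonoidHom.ofInjective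
      (f := MulAction.toPermHom G Ω) MulAction.toPerm_injective).toMonoidHom) (MulEquiv.injective _))
  by_contra hcon
  push Not at hcon
  obtain ⟨n1, n2, n3⟩ := hcon
  exact two_point_orbits hcard G' hG' e ⟨_, σ, rfl⟩ ⟨_, h, rfl⟩ a hσ hh hm ha hm0 huv hx hy hz
    (fun ⟨_, g, hg⟩ e1 e2 e3 => n1 g (by subst hg; exact e1) (by subst hg; exact e2)
      (by subst hg; exact e3))
    (fun ⟨_, g, hg⟩ e1 e2 e3 => n2 g (by subst hg; exact e1) (by subst hg; exact e2)
      (by subst hg; exact e3))
    (fun ⟨_, g, hg⟩ e1 e2 e3 => n3 g (by subst hg; exact e1) (by subst hg; exact e2)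
      (by subst hg; exact e3))

end Cfsg.Agent.Perm.HalfNorm
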