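/-
Groups of even permutations of `p + 1` points properly containing a two-transitive group of the order of
`PSL₂(p)`.

* `sylow_normalizer_card` : the point stabiliser has Sylow normaliser of order `p m` or `p (2 m)`
* `not_full_of_even` : an odd permutation arises from a Sylow normaliser of order `p (p - 1)`
* `exists_regular_dihedral` : the set stabiliser of two points contains a regular dihedral subgroup
* `stabilizer_three_transitive` : the point stabiliser is three-transitive
-/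
import Cfsg.Agent.Lib.Perm.HalfNormRelated
import Cfsg.Agent.S0676
import Cfsg.Agent.S3572
import Mathlib.GroupTheory.SpecificGroups.Dihedral

set_option autoImplicit false

namespace Cfsg.Agent.Perm.ProjLine

open MulAction

variable {X Ω : Type*} [Group X] [Finite X] [MulAction X Ω] [FaithfulSMul X Ω] [Fintype Ω]
  [DecidableEq Ω] {p m : ℕ} [Fact p.Prime]

omit [Finite X] [FaithfulSMul X Ω] in
theorem card_rest (hΩ : Fintype.card Ω = p + 1) (c : Ω) :
    Nat.card (SubMulAction.ofStabilizer X c) = p := by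
  have e : Nat.card {x : Ω // x ≠ c} = p := by
    rw [Nat.card_eq_fintype_card, Fintype.card_subtype_compl, Fintype.card_subtype_eq, hΩ]
    rfl
  rw [← e]
  exact Nat.card_congr (Equiv.subtypeEquivRight fun x => SubMulAction.mem_ofStabilizer_iff X c)

omit [Finite X] [Fintype Ω] [DecidableEq Ω] in
theorem faithful_rest (c : Ω) : FaithfulSMul (stabilizer X c) (SubMulAction.ofStabilizer X c) := by
  refine ⟨fun {g g'} h => Subtype.ext (eq_of_smul_eq_smul (α := Ω) fun x => ?_)⟩
  rcases eq_or_ne x c with rfl | hx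
  · exact (mem_stabilizer_iff.mp g.2).trans (mem_stabilizer_iff.mp g'.2).symm
  · exact congrArg Subtype.val (h ⟨x, hx⟩)

omit [Finite X] [FaithfulSMul X Ω] in
/-- A subgroup of order `p (p² - 1) / 2` transitive on the `p + 1` points. -/
theorem card_stabilizer_sub (hΩ : Fintype.card Ω = p + 1) (L : Subgroup X) [IsPretransitive L Ω]
    (hL : Nat.card L = (p + 1) * (p * m)) (c : Ω) :
    Nat.card (L.subgroupOf (stabilizer X c)) = p * m := by
  have h1 := (stabilizer L c).index_mul_card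
  rw [index_stabilizer_of_transitive L c, Nat.card_eq_fintype_card, hΩ, hL] at h1
  have h2 := Nat.eq_of_mul_eq_mul_left (Nat.succ_pos p) h1
  rw [← h2]
  exact Nat.card_congr
    { toFun := fun g => ⟨⟨(g.1 : X), g.2⟩, g.1.2⟩
      invFun := fun g => ⟨⟨(g.1 : X), g.2⟩, g.1.2⟩
      left_inv := fun g => rfl
      right_inv := fun g => rfl }

/-- A subgroup of order `p m` of a group of prime degree, `m < p`, lies in a Sylow normaliser. -/
theorem sylow_normalizer_card {G α : Type*} [Group G] [Finite G] [MulAction G α] [Finite α]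
    [FaithfulSMul G α] [IsPretransitive G α] (hα : Nat.card α = p) (hm : p = 2 * m + 1) (hm0 : 0 < m)
    (L : Subgroup G) (hL : Nat.card L = p * m) :
    ∃ P : Sylow p G, L ≤ Subgroup.normalizer ((P : Subgroup G) : Set G) ∧
      (Nat.card (Subgroup.normalizer ((P : Subgroup G) : Set G)) = p * m ∨
        Nat.card (Subgroup.normalizer ((P : Subgroup G) : Set G)) = p * (2 * m)) := by
  have hp := (Fact.out : p.Prime)
  obtain ⟨Q⟩ : Nonempty (Sylow p L) := inferInstance
  have h1 : Nat.card (Sylow p L) = 1 := by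
    have hmod : Nat.card (Sylow p L) ≡ 1 [MOD p] := card_sylow_modEq_one p L
    have hcop : (Nat.card (Sylow p L)).Coprime p := by
      rw [Nat.coprime_comm, hp.coprime_iff_not_dvd]
      intro h
      rw [Nat.ModEq, Nat.mod_eq_zero_of_dvd h, Nat.one_mod_eq_one.mpr hp.ne_one] at hmod
      exact absurd hmod (by norm_num)
    have hdvd : Nat.card (Sylow p L) ∣ p * m := by
      rw [← hL, Sylow.card_eq_index_normalizer Q]
      exact Subgroup.index_dvd_card _
    have hle := Nat.le_of_dvd hm0 (hcop.dvd_of_dvd_mul_left hdvd)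
    rw [Nat.ModEq, Nat.mod_eq_of_lt (show Nat.card (Sylow p L) < p by omega),
      Nat.one_mod_eq_one.mpr hp.ne_one] at hmod
    exact hmod
  obtain ⟨P, hP⟩ := (Q.2.map L.subtype).exists_le_sylow
  obtain ⟨hPc, -, -, d, hd, hN⟩ := sylow_prime_degree (G := G) hα P
  have hQc : p ∣ Nat.card (Q : Subgroup L) := by
    refine Sylow.dvd_card_of_dvd_card Q ?_
    rw [hL]; exact dvd_mul_right _ _
  have heq : (Q : Subgroup L).map L.subtype = (P : Subgroup G) := by
    refine Subgroup.eq_of_le_of_card_ge hP ?_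
    rw [hPc, Subgroup.card_subtype]
    exact Nat.le_of_dvd Nat.card_pos hQc
  have hsub : Subsingleton (Sylow p L) := (Nat.card_eq_one_iff_unique.mp h1).1
  have hle : L ≤ Subgroup.normalizer ((P : Subgroup G) : Set G) := by
    intro g hg
    have hn : Subgroup.normalizer ((Q : Subgroup L) : Set L) = ⊤ :=
      Subgroup.index_eq_one.mp ((Sylow.card_eq_index_normalizer Q).symm.trans h1)
    have : (Q : Subgroup L).Normal := Subgroup.normalizer_eq_top_iff.mp hn
    rw [← heq, Subgroup.mem_normalizer_iff]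
    intro x
    constructor
    · rintro ⟨q, hq, rfl⟩
      exact ⟨⟨g, hg⟩ * q * ⟨g, hg⟩⁻¹, this.conj_mem q hq ⟨g, hg⟩, rfl⟩
    · rintro ⟨q, hq, hqx⟩
      refine ⟨⟨g, hg⟩⁻¹ * q * ⟨g, hg⟩, ?_, ?_⟩
      · exact (by simpa using this.conj_mem q hq ⟨g, hg⟩⁻¹ : (⟨g, hg⟩ : L)⁻¹ * q * ⟨g, hg⟩ ∈ (Q : Subgroup L))
      · simp only [map_mul, map_inv, Subgroup.coe_subtype] at hqx ⊢
        rw [hqx]
        group
  refine ⟨P, hle, ?_⟩
  have h2 := Subgroup.card_dvd_of_le hle
  rw [hL, hN, Nat.mul_dvd_mul_iff_left hp.pos] at h2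
  rw [show p - 1 = 2 * m by omega] at hd
  obtain ⟨k, rfl⟩ := h2
  rw [mul_comm 2 m, Nat.mul_dvd_mul_iff_left hm0, Nat.dvd_prime Nat.prime_two] at hd
  rcases hd with rfl | rfl
  · exact Or.inl (by rw [hN, mul_one])
  · exact Or.inr (by rw [hN, mul_comm m 2])

/-- A point stabiliser in a group of even permutations has no full Sylow normaliser. -/
theorem not_full_of_even (hΩ : Fintype.card Ω = p + 1) (hp2 : p ≠ 2)
    (heven : ∀ x : X, Equiv.Perm.sign (MulAction.toPerm x : Equiv.Perm Ω) = 1) (c : Ω)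
    [IsPretransitive (stabilizer X c) (SubMulAction.ofStabilizer X c)]
    (P : Sylow p (stabilizer X c))
    (hN : Nat.card (Subgroup.normalizer ((P : Subgroup (stabilizer X c)) : Set (stabilizer X c))) =
      p * (p - 1)) : False := by
  classical
  have hp := (Fact.out : p.Prime)
  have := hp.two_le
  have := faithful_rest (X := X) (Ω := Ω) c
  obtain ⟨e, -, h, a, -, hh, ha⟩ := HalfNorm.exists_half_coordinates (G := stabilizer X c)
    (card_rest (X := X) hΩ c) P hN
  have hmov : ∀ j, (h : X) • (e j : Ω) = (e (a * j) : Ω) := fun j => congrArg Subtype.val (hh j)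
  have ha0 : a ≠ 0 := fun e0 => by rw [e0, orderOf_zero] at ha; omega
  have ha1 : a ≠ 1 := fun e1 => by rw [e1, orderOf_one] at ha; omega
  have hfix : ∀ x : Ω, (h : X) • x ≠ x ↔ x ≠ c ∧ x ≠ (e 0 : Ω) := by
    intro x
    rcases eq_or_ne x c with rfl | hx
    · simp [mem_stabilizer_iff.mp h.2]
    obtain ⟨j, hj⟩ := e.surjective ⟨x, hx⟩
    obtain rfl : (e j : Ω) = x := congrArg Subtype.val hj
    rw [hmov]
    have : (e j : Ω) ≠ c := hx
    simp only [ne_eq, this, not_false_eq_true, true_and, ← Subtype.ext_iff, e.injective.eq_iff]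
    rcases eq_or_ne j 0 with rfl | hj0
    · simp
    · simp [hj0, ha1]
  have hcyc : (MulAction.toPerm (h : X) : Equiv.Perm Ω).IsCycle := by
    refine ⟨(e 1 : Ω), (hfix _).2 ⟨(e 1).2, fun e' => one_ne_zero (e.injective (Subtype.ext e'))⟩, ?_⟩
    intro y hy
    obtain ⟨hyc, hy0⟩ := (hfix y).1 hy
    obtain ⟨j, hj⟩ := e.surjective ⟨y, hyc⟩
    obtain rfl : (e j : Ω) = y := congrArg Subtype.val hj
    have hj0 : j ≠ 0 := fun e' => hy0 (by rw [e'])
    have hu : orderOf (Units.mk0 a ha0) = Nat.card (ZMod p)ˣ := by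
      rw [← orderOf_units, Units.val_mk0, ha, Nat.card_eq_fintype_card, ZMod.card_units]
    obtain ⟨n, hn : Units.mk0 a ha0 ^ n = Units.mk0 j hj0⟩ := Submonoid.mem_powers_iff _ _ |>.mp
      (mem_powers_iff_mem_zpowers.mpr
        ((Subgroup.eq_top_of_card_eq (Subgroup.zpowers (Units.mk0 a ha0))
          ((Nat.card_zpowers _).trans hu)).symm ▸ Subgroup.mem_top (Units.mk0 j hj0)))
    have hn' : a ^ n = j := by simpa using congrArg Units.val hn
    refine ⟨(n : ℤ), ?_⟩
    have key : ∀ k : ℕ, ((MulAction.toPerm (h : X) : Equiv.Perm Ω) ^ k) (e 1 : Ω) = (e (a ^ k) : Ω) := by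
      intro k
      induction k with
      | zero => simp
      | succ k ih => rw [pow_succ', Equiv.Perm.mul_apply, ih, MulAction.toPerm_apply, hmov, pow_succ']
    rw [zpow_natCast, key, hn']
  have hsupp : (MulAction.toPerm (h : X) : Equiv.Perm Ω).support = {c, (e 0 : Ω)}ᶜ := by
    ext x
    simp only [Equiv.Perm.mem_support, MulAction.toPerm_apply, Finset.mem_compl, Finset.mem_insert,
      Finset.mem_singleton, not_or]
    exact hfix x
  have h1 := hcyc.sign
  rw [heven, hsupp, Finset.card_compl, Finset.card_pair (Ne.symm (e 0).2), hΩ] at h1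
  have hev : Even (p + 1 - 2) := by
    obtain ⟨k, hk⟩ := hp.odd_of_ne_two hp2
    exact ⟨k, by omega⟩
  rw [hev.neg_one_pow] at h1
  exact absurd h1 (by decide)

/-- An element swapping two points and inverting the stabiliser of both in `L`. -/
theorem exists_swap (hΩ : Fintype.card Ω = p + 1) (hm : p = 2 * m + 1) (hodd : Odd m)
    (L : Subgroup X) (hL : Nat.card L = (p + 1) * (p * m)) (hLt : IsMultiplyPretransitive L Ω 2)
    (hcent : ∀ s ∈ L, orderOf s = 2 → ∀ z ∈ L, z * s = s * z → orderOf z ∣ m → z = 1) :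
    ∀ c a₀ : Ω, c ≠ a₀ → ∃ h s : X, h ∈ L ∧ s ∈ L ∧ orderOf h = m ∧ h • c = c ∧ h • a₀ = a₀ ∧
      s • c = a₀ ∧ s • a₀ = c ∧ s * s = 1 ∧ s * h * s = h⁻¹ ∧
      (∀ t ∈ L, t * t = 1 → t ≠ 1 → ∀ x : Ω, t • x ≠ x) ∧
      ∀ i : ℕ, ∀ x : Ω, x ≠ c → x ≠ a₀ → h ^ i • x = x → h ^ i = 1 := by
  classical
  intro c a₀ hne
  have hp := (Fact.out : p.Prime)
  have hm0 : 0 < m := hodd.pos
  have hmove : ∀ a b u v : Ω, a ≠ b → u ≠ v → ∃ g : L, g • a = u ∧ g • b = v :=
    fun _ _ _ _ h1 h2 => is_two_pretransitive_iff.mp hLt h1 h2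
  have : IsPretransitive L Ω := by
    refine ⟨fun x y => ?_⟩
    obtain ⟨u, hu⟩ : ∃ u, u ≠ x := ⟨if x = c then a₀ else c, by split_ifs with h <;> simp_all [ne_comm]⟩
    obtain ⟨v, hv⟩ : ∃ v, v ≠ y := ⟨if y = c then a₀ else c, by split_ifs with h <;> simp_all [ne_comm]⟩
    obtain ⟨g, hg, -⟩ := hmove _ _ _ _ (Ne.symm hu) (Ne.symm hv)
    exact ⟨g, hg⟩
  set Lc : Subgroup (stabilizer X c) := L.subgroupOf (stabilizer X c) with hLc
  have hLcc : Nat.card Lc = p * m := card_stabilizer_sub hΩ L hL c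
  have := faithful_rest (X := X) (Ω := Ω) c
  have : FaithfulSMul Lc (SubMulAction.ofStabilizer X c) :=
    ⟨fun {g g'} h => Subtype.ext (eq_of_smul_eq_smul (α := SubMulAction.ofStabilizer X c) h)⟩
  have : IsPretransitive Lc (SubMulAction.ofStabilizer X c) := by
    refine ⟨fun x y => ?_⟩
    obtain ⟨g, hg1, hg2⟩ := hmove c (x : Ω) c (y : Ω) (Ne.symm x.2) (Ne.symm y.2)
    exact ⟨⟨⟨(g : X), hg1⟩, g.2⟩, Subtype.ext hg2⟩
  obtain ⟨Q⟩ : Nonempty (Sylow p Lc) := inferInstance
  obtain ⟨P', hP', hN⟩ := sylow_normalizer_card (G := Lc) (card_rest (X := X) hΩ c) hm hm0 ⊤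
    (by rw [Subgroup.card_top, hLcc])
  have hN' : Nat.card (Subgroup.normalizer ((P' : Subgroup Lc) : Set Lc)) = p * m := by
    rw [top_le_iff.mp hP', Subgroup.card_top, hLcc]
  obtain ⟨e, σ, h, a, hσ, hh, ha⟩ := HalfNorm.exists_half_coordinates (G := Lc) (card_rest (X := X) hΩ c) P' hN'
  -- move the fixed point of `h` to `a₀`
  obtain ⟨g, hg⟩ := exists_smul_eq Lc (e 0) (⟨a₀, hne.symm⟩ : SubMulAction.ofStabilizer X c)
  let h0 : Lc := g * h * g⁻¹
  have hpow : ∀ i : ℕ, ∀ j, h ^ i • e j = e (a ^ i * j) := by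
    intro i
    induction i with
    | zero => simp
    | succ i ih => intro j; rw [pow_succ', mul_smul, ih, hh, pow_succ', mul_assoc]
  have hord : orderOf h = m := by
    rw [← ha]
    refine orderOf_eq_orderOf_iff.mpr fun n => ⟨fun hn => ?_, fun hn => ?_⟩
    · have := hpow n 1
      rw [hn, one_smul, mul_one] at this
      exact (e.injective this).symm
    · refine eq_of_smul_eq_smul (α := SubMulAction.ofStabilizer X c) fun y => ?_
      obtain ⟨j, rfl⟩ := e.surjective y
      rw [hpow, hn, one_mul, one_smul]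
  have hord0 : orderOf h0 = m := by
    rw [← hord]; exact (MulAut.conj g).orderOf_eq h
  have h0fix : h0 • (⟨a₀, hne.symm⟩ : SubMulAction.ofStabilizer X c) = ⟨a₀, hne.symm⟩ := by
    rw [← hg, mul_smul, mul_smul, inv_smul_smul, hh, mul_zero]
  let hx : X := ((h0 : stabilizer X c) : X)
  have hxord : orderOf hx = m := by
    rw [← hord0]; exact (Subgroup.orderOf_coe _).trans (Subgroup.orderOf_coe _)
  have hxc : hx • c = c := (h0 : stabilizer X c).2
  have hxa : hx • a₀ = a₀ := congrArg Subtype.val h0fix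
  have hxfree : ∀ i : ℕ, ∀ x, x ≠ c → x ≠ a₀ → hx ^ i • x = x → hx ^ i = 1 := by
    intro i x hxc' hxa' he
    obtain ⟨j, hj⟩ := e.surjective (g⁻¹ • (⟨x, hxc'⟩ : SubMulAction.ofStabilizer X c))
    have hj0 : j ≠ 0 := by
      rintro rfl
      rw [eq_inv_smul_iff, hg] at hj
      exact hxa' (congrArg Subtype.val hj).symm
    have he' : h0 ^ i • (⟨x, hxc'⟩ : SubMulAction.ofStabilizer X c) = ⟨x, hxc'⟩ := Subtype.ext (by
      show (((h0 ^ i : Lc) : stabilizer X c) : X) • x = x
      rw [SubmonoidClass.coe_pow, SubmonoidClass.coe_pow]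
      exact he)
    rw [show h0 ^ i = g * h ^ i * g⁻¹ from (conj_pow ..), mul_smul, mul_smul, ← hj, hpow,
      ← eq_inv_smul_iff, ← hj, e.injective.eq_iff, mul_eq_right₀ hj0] at he'
    rw [← orderOf_dvd_iff_pow_eq_one, ha] at he'
    rw [← orderOf_dvd_iff_pow_eq_one, hxord]
    exact he'
  have hxL : hx ∈ L := h0.2
  -- the stabiliser of both points in `L`
  let C : Subgroup L := stabilizer L c ⊓ stabilizer L a₀
  have hCcard : Nat.card C = m := by
    have e1 : Nat.card (stabilizer Lc (⟨a₀, hne.symm⟩ : SubMulAction.ofStabilizer X c)) = m := by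
      have h1 := (stabilizer Lc (⟨a₀, hne.symm⟩ : SubMulAction.ofStabilizer X c)).index_mul_card
      rw [index_stabilizer_of_transitive, card_rest (X := X) hΩ c, hLcc] at h1
      exact Nat.eq_of_mul_eq_mul_left hp.pos h1
    refine Eq.trans ?_ e1
    exact Nat.card_congr
      { toFun := fun g => ⟨⟨⟨(g.1 : X), g.2.1⟩, g.1.2⟩, Subtype.ext g.2.2⟩
        invFun := fun g => ⟨⟨((g.1 : stabilizer X c) : X), g.1.2⟩, (g.1 : stabilizer X c).2,
          congrArg Subtype.val g.2⟩
        left_inv := fun g => rfl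
        right_inv := fun g => rfl }
  have hCmem : (⟨hx, hxL⟩ : L) ∈ C := ⟨hxc, hxa⟩
  have hCgen : Subgroup.zpowers (⟨hx, hxL⟩ : L) = C := by
    refine Subgroup.eq_of_le_of_card_ge (Subgroup.zpowers_le.mpr hCmem) ?_
    rw [hCcard, Nat.card_zpowers, ← Subgroup.orderOf_coe, hxord]
  obtain ⟨w, hw1, hw2⟩ := is_two_pretransitive_iff.mp hLt hne hne.symm
  have hwsq : ∀ k : ℕ, (w * w) ^ k ∈ C := fun k => C.pow_mem
    ⟨show (w * w) • c = c by rw [mul_smul, hw1, hw2],
      show (w * w) • a₀ = a₀ by rw [mul_smul, hw2, hw1]⟩ k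
  obtain ⟨k, hk⟩ := hodd
  let s : L := w * (w * w) ^ k
  have hsc : (s : X) • c = a₀ := by
    show s • c = a₀
    rw [mul_smul, (hwsq k).1, hw1]
  have hsa : (s : X) • a₀ = c := by
    show s • a₀ = c
    rw [mul_smul, (hwsq k).2, hw2]
  have hss : (s : X) * s = 1 := by
    have e1 : s * s = (w * w) ^ m := by
      show w * (w * w) ^ k * (w * (w * w) ^ k) = _
      simp only [hk, ← pow_two, ← pow_mul, ← pow_succ', ← pow_add]
      congr 1
      ring
    have e2 : (w * w) ^ m = 1 := by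
      have e3 : (⟨w * w, by simpa using hwsq 1⟩ : C) ^ Nat.card C = 1 := pow_card_eq_one'
      rw [hCcard] at e3
      exact congrArg Subtype.val e3
    exact congrArg Subtype.val (e1.trans e2)
  have hsord : orderOf (s : X) = 2 := by
    refine orderOf_eq_prime (by rw [pow_two, hss]) fun e1 => hne ?_
    rw [← hsc, e1, one_smul]
  have hsfree : ∀ t ∈ L, t * t = 1 → t ≠ 1 → ∀ x : Ω, t • x ≠ x := by
    intro t ht htt ht1 x hsx
    have hto : orderOf t = 2 := orderOf_eq_prime (by rw [pow_two, htt]) ht1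
    have h1 : orderOf (⟨⟨t, ht⟩, hsx⟩ : stabilizer L x) ∣ Nat.card (stabilizer L x) :=
      orderOf_dvd_natCard _
    have h2 := (stabilizer L x).index_mul_card
    rw [index_stabilizer_of_transitive L x, Nat.card_eq_fintype_card, hΩ, hL] at h2
    rw [Nat.eq_of_mul_eq_mul_left (Nat.succ_pos p) h2, ← Subgroup.orderOf_coe,
      ← Subgroup.orderOf_coe, hto] at h1
    rcases Nat.prime_two.dvd_mul.mp h1 with h3 | h3 <;> omega
  have hconj : s * (⟨hx, hxL⟩ : L) * s ∈ C :=
    ⟨show (s * ⟨hx, hxL⟩ * s) • c = c by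
        rw [mul_smul, mul_smul]; show (s : X) • hx • (s : X) • c = c; rw [hsc, hxa, hsa],
      show (s * ⟨hx, hxL⟩ * s) • a₀ = a₀ by
        rw [mul_smul, mul_smul]; show (s : X) • hx • (s : X) • a₀ = a₀; rw [hsa, hxc, hsc]⟩
  rw [← hCgen] at hconj
  obtain ⟨r, hr⟩ := hconj
  have hr' : hx ^ r = (s : X) * hx * s := congrArg Subtype.val hr
  set y : X := hx * ((s : X) * hx * s) with hy
  have hcomm : Commute hx ((s : X) * hx * s) := hr' ▸ Commute.zpow_right (Commute.refl hx) r
  have hy1 : y = 1 := by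
    refine hcent s s.2 hsord y (L.mul_mem hxL (L.mul_mem (L.mul_mem s.2 hxL) s.2)) ?_ ?_
    · calc y * (s : X) = (s : X) * hx * s * hx * s := by rw [hy, hcomm.eq]
        _ = (s : X) * y := by rw [hy]; simp only [mul_assoc]
    · rw [hy, ← hr', ← zpow_one_add, orderOf_dvd_iff_pow_eq_one, ← zpow_natCast, ← zpow_mul,
        mul_comm, zpow_mul, zpow_natCast, ← hxord, pow_orderOf_eq_one, one_zpow]
  exact ⟨hx, s, hxL, s.2, hxord, hxc, hxa, hsc, hsa, hss, eq_inv_of_mul_eq_one_right hy1, hsfree,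
    hxfree⟩

omit [Fact p.Prime] [Fintype Ω] [DecidableEq Ω] [FaithfulSMul X Ω] in
/-- A subgroup generated by an element and an inverting involution is dihedral. -/
theorem exists_dihedral {m : ℕ} [NeZero m] {h s : X} (ho : orderOf h = m) (hss : s * s = 1)
    (hsh : s * h * s = h⁻¹) (hs : s ∉ Subgroup.zpowers h) :
    ∃ f : DihedralGroup m →* X, Function.Injective f ∧ f (.r 1) = h ∧ f (.sr 0) = s := by
  let q : ZMod m → X := fun i => h ^ i.val
  have hq : ∀ n : ℕ, q n = h ^ n := fun n => by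
    simp only [q, ZMod.val_natCast]
    conv_lhs => rw [← ho]
    exact pow_mod_orderOf h n
  have hadd : ∀ i j, q (i + j) = q i * q j := fun i j => by
    simp only [q, ZMod.val_add, ← pow_add]
    exact (congrArg (fun k => h ^ ((i.val + j.val) % k)) ho.symm).trans (pow_mod_orderOf h _)
  have hq0 : q 0 = 1 := by simp [q]
  have hneg : ∀ i, q (-i) = (q i)⁻¹ := fun i => eq_inv_of_mul_eq_one_right (by
    rw [← hadd, add_neg_cancel, hq0])
  have hsub : ∀ i j, q (i - j) = q i * (q j)⁻¹ := fun i j => by rw [sub_eq_add_neg, hadd, hneg]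
  have hinv : ∀ i, s * q i = (q i)⁻¹ * s := fun i => by
    have hs' : s⁻¹ = s := inv_eq_of_mul_eq_one_right hss
    have h1 : MulAut.conj s h = h⁻¹ := by rw [MulAut.conj_apply, hs', hsh]
    have h2 : MulAut.conj s (q i) = (q i)⁻¹ := by simp only [q, map_pow, h1, inv_pow]
    rw [MulAut.conj_apply] at h2
    exact (mul_inv_eq_iff_eq_mul.mp h2)
  have hcom : ∀ i j, q i * q j = q j * q i := fun i j => by rw [← hadd, ← hadd, add_comm]
  let F : DihedralGroup m → X := fun d => match d with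
    | .r i => q i
    | .sr i => s * q i
  have hF : ∀ a b, F (a * b) = F a * F b := by
    intro a b
    rcases a with i | i <;> rcases b with j | j
    · exact hadd i j
    · show s * q (j - i) = q i * (s * q j)
      have e1 : q i * s = s * (q i)⁻¹ := by
        rw [← hneg, hinv, hneg, inv_inv]
      rw [← mul_assoc, e1, mul_assoc, hsub, ← hneg, hcom]
    · show s * q (i + j) = s * q i * q j
      rw [hadd, mul_assoc]
    · show q (j - i) = s * q i * (s * q j)
      rw [hinv, mul_assoc, ← mul_assoc s s, hss, one_mul, hsub, ← hneg, hcom]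
  refine ⟨MonoidHom.mk' F hF, ?_, ?_, ?_⟩
  · rw [injective_iff_map_eq_one]
    rintro (i | i) hi
    · have h1 : h ^ i.val = 1 := hi
      rw [← orderOf_dvd_iff_pow_eq_one, ho] at h1
      rw [DihedralGroup.one_def]
      congr
      exact (ZMod.val_eq_zero i).mp (Nat.eq_zero_of_dvd_of_lt h1 (ZMod.val_lt i))
    · exfalso
      refine hs ?_
      have h1 : s = (h ^ i.val)⁻¹ := eq_inv_of_mul_eq_one_left hi
      rw [h1]
      exact inv_mem (Subgroup.npow_mem_zpowers h _)
  · show q 1 = h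
    rw [← Nat.cast_one, hq, pow_one]
  · show s * q 0 = s
    rw [hq0, mul_one]

/-- The point stabiliser of a proper overgroup is three-transitive. -/
theorem stabilizer_three_transitive (hΩ : Fintype.card Ω = p + 1) (hm : p = 2 * m + 1) (hm0 : 0 < m)
    (heven : ∀ x : X, Equiv.Perm.sign (MulAction.toPerm x : Equiv.Perm Ω) = 1)
    (L : Subgroup X) (hL : Nat.card L = (p + 1) * (p * m)) (hLt : IsMultiplyPretransitive L Ω 2)
    (hLX : L ≠ ⊤)
    (hcent : Odd m → ∀ s ∈ L, orderOf s = 2 → ∀ z ∈ L, z * s = s * z → orderOf z ∣ m → z = 1)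
    (c : Ω)
    (hprim : ∀ (P : Sylow p (stabilizer X c)),
      2 * Nat.card (Subgroup.normalizer ((P : Subgroup (stabilizer X c)) : Set (stabilizer X c))) =
        p * (p - 1) → ¬ Group.IsSolvable (stabilizer X c) →
      ∀ b : SubMulAction.ofStabilizer X c, IsPreprimitive (stabilizer (stabilizer X c) b)
        (SubMulAction.ofStabilizer (stabilizer X c) b)) :
    IsMultiplyPretransitive (stabilizer X c) (SubMulAction.ofStabilizer X c) 3 := by
  classical
  have hp := (Fact.out : p.Prime)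
  have hp2 : p ≠ 2 := by omega
  have := faithful_rest (X := X) (Ω := Ω) c
  have hmove : ∀ a b u v : Ω, a ≠ b → u ≠ v → ∃ g : L, g • a = u ∧ g • b = v :=
    fun _ _ _ _ h1 h2 => is_two_pretransitive_iff.mp hLt h1 h2
  have : IsPretransitive (stabilizer X c) (SubMulAction.ofStabilizer X c) := by
    refine ⟨fun x y => ?_⟩
    obtain ⟨g, hg1, hg2⟩ := hmove c (x : Ω) c (y : Ω) (Ne.symm x.2) (Ne.symm y.2)
    exact ⟨⟨(g : X), hg1⟩, Subtype.ext hg2⟩
  have hX : IsPretransitive X Ω := by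
    refine ⟨fun x y => ?_⟩
    obtain ⟨u, hu⟩ := Fintype.exists_ne_of_one_lt_card (by omega : 1 < Fintype.card Ω) x
    obtain ⟨v, hv⟩ := Fintype.exists_ne_of_one_lt_card (by omega : 1 < Fintype.card Ω) y
    obtain ⟨g, hg, -⟩ := hmove _ _ _ _ (Ne.symm hu) (Ne.symm hv)
    exact ⟨(g : X), hg⟩
  have : IsPretransitive L Ω := by
    refine ⟨fun x y => ?_⟩
    obtain ⟨u, hu⟩ := Fintype.exists_ne_of_one_lt_card (by omega : 1 < Fintype.card Ω) x
    obtain ⟨v, hv⟩ := Fintype.exists_ne_of_one_lt_card (by omega : 1 < Fintype.card Ω) y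
    obtain ⟨g, hg, -⟩ := hmove _ _ _ _ (Ne.symm hu) (Ne.symm hv)
    exact ⟨g, hg⟩
  obtain ⟨P, -, hN⟩ := sylow_normalizer_card (G := stabilizer X c) (card_rest (X := X) hΩ c) hm hm0
    (L.subgroupOf (stabilizer X c)) (card_stabilizer_sub hΩ L hL c)
  have hNm : Nat.card (Subgroup.normalizer ((P : Subgroup (stabilizer X c)) : Set (stabilizer X c))) = p * m :=
    hN.resolve_right fun h => not_full_of_even hΩ hp2 heven c P (h.trans (by
      rw [show p - 1 = 2 * m by omega]))
  have hins : ¬ Group.IsSolvable (stabilizer X c) := by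
    intro hsol
    refine hLX (Subgroup.eq_top_of_card_eq L ?_)
    have hPn := sylow_normal_of_isSolvable (G := stabilizer X c) (card_rest (X := X) hΩ c) hsol P
    rw [Subgroup.normalizer_eq_top_iff.mpr hPn, Subgroup.card_top] at hNm
    rw [hL, ← (stabilizer X c).index_mul_card, index_stabilizer_of_transitive X c,
      Nat.card_eq_fintype_card, hΩ, hNm]
  -- the image as a permutation group
  let : Fintype (SubMulAction.ofStabilizer X c) := Fintype.ofFinite _
  have hcard : Fintype.card (SubMulAction.ofStabilizer X c) = p :=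
    Nat.card_eq_fintype_card.symm.trans (card_rest (X := X) hΩ c)
  let φ := MulAction.toPermHom (stabilizer X c) (SubMulAction.ofStabilizer X c)
  have : IsPretransitive φ.range (SubMulAction.ofStabilizer X c) := ⟨fun x y => by
    obtain ⟨g, hg⟩ := MulAction.exists_smul_eq (stabilizer X c) x y
    exact ⟨⟨_, g, rfl⟩, hg⟩⟩
  let ψ : stabilizer X c ≃* φ.range := MonoidHom.ofInjective (f := φ) MulAction.toPerm_injective
  have hins' : ¬ Group.IsSolvable φ.range := fun hs => hins
    (Group.isSolvable_of_isSolvable_injective (f := ψ.toMonoidHom) ψ.injective)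
  have back : IsMultiplyPretransitive φ.range (SubMulAction.ofStabilizer X c) 3 →
      IsMultiplyPretransitive (stabilizer X c) (SubMulAction.ofStabilizer X c) 3 := fun h => by
    refine ⟨fun x y => ?_⟩
    obtain ⟨⟨_, g, rfl⟩, hg⟩ := h.exists_smul_eq x y
    exact ⟨g, hg⟩
  rcases Nat.even_or_odd m with hev | hodd
  · refine back (S0676.result hcard φ.range hins'
      (P.mapSurjective (f := ψ.toMonoidHom) ψ.surjective) ?_)
    have e0 : ((P.mapSurjective (f := ψ.toMonoidHom) ψ.surjective : Sylow p φ.range) : Subgroup φ.range) =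
        (P : Subgroup (stabilizer X c)).map ψ.toMonoidHom := rfl
    rw [e0, ← Subgroup.map_equiv_normalizer_eq,
      ← Nat.card_congr (Subgroup.equivMapOfInjective _ ψ.toMonoidHom ψ.injective).toEquiv, hNm]
    exact hev.mul_left p
  -- the odd case
  have hhalf : 2 * Nat.card (Subgroup.normalizer ((P : Subgroup (stabilizer X c)) : Set (stabilizer X c))) =
      p * (p - 1) := by
    rw [hNm, show p - 1 = 2 * m by omega]
    ring
  -- transitivity of the stabiliser of two points
  have htwo : ∀ a₀ y z : Ω, a₀ ≠ c → y ≠ c ∧ y ≠ a₀ → z ≠ c ∧ z ≠ a₀ →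
      ∃ g : X, g • c = c ∧ g • a₀ = a₀ ∧ g • y = z := by
    intro a₀ y z ha hy hz
    have := hprim P hhalf hins ⟨a₀, ha⟩
    obtain ⟨g, hg⟩ := exists_smul_eq (stabilizer (stabilizer X c) (⟨a₀, ha⟩ : SubMulAction.ofStabilizer X c))
      (⟨⟨y, hy.1⟩, fun e => hy.2 (congrArg Subtype.val e)⟩ :
        SubMulAction.ofStabilizer (stabilizer X c) (⟨a₀, ha⟩ : SubMulAction.ofStabilizer X c))
      ⟨⟨z, hz.1⟩, fun e => hz.2 (congrArg Subtype.val e)⟩
    exact ⟨((g : stabilizer X c) : X), (g : stabilizer X c).2, congrArg Subtype.val g.2,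
      congrArg Subtype.val (congrArg Subtype.val hg)⟩
  have hthree : ∀ a₀ x y z : Ω, a₀ ≠ c → x ≠ c ∧ x ≠ a₀ → y ≠ c ∧ y ≠ a₀ ∧ y ≠ x →
      z ≠ c ∧ z ≠ a₀ ∧ z ≠ x →
      ∃ g : X, g • c = c ∧ g • a₀ = a₀ ∧ g • x = x ∧ g • y = z := by
    intro a₀ x y z ha hx hy hz
    let Rel : Ω → Ω → Prop := fun u v => ∃ g : X, g • c = c ∧ g • a₀ = a₀ ∧ g • x = x ∧ g • u = v
    have hsymm : ∀ u v, Rel u v → Rel v u := fun u v ⟨g, e1, e2, e3, e4⟩ =>
      ⟨g⁻¹, inv_smul_eq_iff.mpr e1.symm, inv_smul_eq_iff.mpr e2.symm, inv_smul_eq_iff.mpr e3.symm,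
        inv_smul_eq_iff.mpr e4.symm⟩
    have htrans : ∀ u v w, Rel u v → Rel v w → Rel u w :=
      fun u v w ⟨g, e1, e2, e3, e4⟩ ⟨k, f1, f2, f3, f4⟩ =>
      ⟨k * g, by rw [mul_smul, e1, f1], by rw [mul_smul, e2, f2], by rw [mul_smul, e3, f3],
        by rw [mul_smul, e4, f4]⟩
    have hcover : ∀ w, w ≠ c ∧ w ≠ a₀ ∧ w ≠ x → ¬ Rel y z → Rel y w ∨ Rel z w := by
      intro w hw hn
      rcases HalfNorm.related_of_three (G := stabilizer X c) (card_rest (X := X) hΩ c) hins P hm hm0 hNm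
        (u := ⟨a₀, ha⟩) (v := ⟨x, hx.1⟩) (x := ⟨y, hy.1⟩) (y := ⟨z, hz.1⟩) (z := ⟨w, hw.1⟩)
        (fun e => hx.2 (congrArg Subtype.val e).symm)
        ⟨fun e => hy.2.1 (congrArg Subtype.val e), fun e => hy.2.2 (congrArg Subtype.val e)⟩
        ⟨fun e => hz.2.1 (congrArg Subtype.val e), fun e => hz.2.2 (congrArg Subtype.val e)⟩
        ⟨fun e => hw.2.1 (congrArg Subtype.val e), fun e => hw.2.2 (congrArg Subtype.val e)⟩ with
        ⟨g, e1, e2, e3⟩ | ⟨g, e1, e2, e3⟩ | ⟨g, e1, e2, e3⟩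
      · exact absurd ⟨(g : X), g.2, congrArg Subtype.val e1, congrArg Subtype.val e2,
          congrArg Subtype.val e3⟩ hn
      · exact Or.inl ⟨(g : X), g.2, congrArg Subtype.val e1, congrArg Subtype.val e2,
          congrArg Subtype.val e3⟩
      · exact Or.inr ⟨(g : X), g.2, congrArg Subtype.val e1, congrArg Subtype.val e2,
          congrArg Subtype.val e3⟩
    by_contra hn
    obtain ⟨h, s, hhL, hsL, hord, hc1, ha1, hsc, hsa, hss, hsh, hfreeS, hfreeH⟩ :=
      exists_swap hΩ hm hodd L hL hLt (hcent hodd) c a₀ (Ne.symm ha)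
    -- the set stabiliser of the two points
    let H : Subgroup X :=
      { carrier := {g | (g • c = c ∧ g • a₀ = a₀) ∨ (g • c = a₀ ∧ g • a₀ = c)}
        one_mem' := Or.inl ⟨one_smul _ _, one_smul _ _⟩
        mul_mem' := fun {g k} hg hk => by
          rcases hg with ⟨g1, g2⟩ | ⟨g1, g2⟩ <;> rcases hk with ⟨k1, k2⟩ | ⟨k1, k2⟩ <;>
            simp [mul_smul, g1, g2, k1, k2]
        inv_mem' := fun {g} hg => by
          rcases hg with ⟨g1, g2⟩ | ⟨g1, g2⟩
          · exact Or.inl ⟨inv_smul_eq_iff.mpr g1.symm, inv_smul_eq_iff.mpr g2.symm⟩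
          · exact Or.inr ⟨inv_smul_eq_iff.mpr g2.symm, inv_smul_eq_iff.mpr g1.symm⟩ }
    let T : SubMulAction H Ω :=
      { carrier := {w | w ≠ c ∧ w ≠ a₀}
        smul_mem' := fun g w hw => by
          have hne : ∀ v : Ω, w ≠ v → (g : X) • w ≠ (g : X) • v := fun v hv e =>
            hv (smul_left_cancel _ e)
          rcases g.2 with ⟨g1, g2⟩ | ⟨g1, g2⟩
          · exact ⟨g1 ▸ hne c hw.1, g2 ▸ hne a₀ hw.2⟩
          · exact ⟨g2 ▸ hne a₀ hw.2, g1 ▸ hne c hw.1⟩ }
    have hfaith : FaithfulSMul H T := ⟨fun {g g'} hgg => by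
      have key : ∀ k : H, (∀ w : T, k • w = w) → k = 1 := fun k hk => by
        rcases k.2 with ⟨k1, k2⟩ | ⟨k1, k2⟩
        · refine Subtype.ext (eq_of_smul_eq_smul (α := Ω) fun w => ?_)
          rw [Subgroup.coe_one, one_smul]
          rcases eq_or_ne w c with rfl | hwc
          · exact k1
          rcases eq_or_ne w a₀ with rfl | hwa
          · exact k2
          exact congrArg Subtype.val (hk ⟨w, hwc, hwa⟩)
        · have e : (MulAction.toPerm (k : X) : Equiv.Perm Ω) = Equiv.swap c a₀ := by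
            ext w
            rw [MulAction.toPerm_apply]
            rcases eq_or_ne w c with rfl | hwc
            · rw [Equiv.swap_apply_left]; exact k1
            rcases eq_or_ne w a₀ with rfl | hwa
            · rw [Equiv.swap_apply_right]; exact k2
            rw [Equiv.swap_apply_of_ne_of_ne hwc hwa]
            exact congrArg Subtype.val (hk ⟨w, hwc, hwa⟩)
          have h1 := heven (k : X)
          rw [e, Equiv.Perm.sign_swap (Ne.symm ha)] at h1
          exact absurd h1 (by decide)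
      exact (inv_mul_eq_one.mp (key (g'⁻¹ * g) fun w => by rw [mul_smul, hgg, inv_smul_smul])).symm⟩
    have : NeZero m := ⟨hm0.ne'⟩
    have hsnot : s ∉ Subgroup.zpowers h := by
      intro hmem
      have : Subgroup.zpowers h ≤ stabilizer X c := Subgroup.zpowers_le.mpr hc1
      exact ha ((mem_stabilizer_iff.mp (this hmem)).symm.trans hsc).symm
    obtain ⟨f, hf, hfr, hfs⟩ := exists_dihedral hord hss hsh hsnot
    have hfmem : ∀ d, f d ∈ H ∧ f d ∈ L := by
      have hr : ∀ i : ℕ, f (.r (i : ZMod m)) = h ^ i := fun i => by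
        rw [← DihedralGroup.r_one_pow, map_pow, hfr]
      rintro (i | i)
      · rw [← ZMod.natCast_zmod_val i, hr]
        exact ⟨H.pow_mem (Or.inl ⟨hc1, ha1⟩) _, L.pow_mem hhL _⟩
      · rw [show (DihedralGroup.sr i : DihedralGroup m) = .sr 0 * .r i by simp, map_mul, hfs,
          ← ZMod.natCast_zmod_val i, hr]
        exact ⟨H.mul_mem (Or.inr ⟨hsc, hsa⟩) (H.pow_mem (Or.inl ⟨hc1, ha1⟩) _),
          L.mul_mem hsL (L.pow_mem hhL _)⟩
    let fH : DihedralGroup m →* H := f.codRestrict H fun d => (hfmem d).1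
    have hfH : Function.Injective fH := fun d d' e => hf (congrArg Subtype.val e)
    have hfree : ∀ d, ∀ w : T, fH d • w = w → d = 1 := by
      intro d w hw
      have hw' : f d • (w : Ω) = w := congrArg Subtype.val hw
      rcases d with i | i
      · rw [← ZMod.natCast_zmod_val i] at hw' ⊢
        rw [← DihedralGroup.r_one_pow, map_pow, hfr] at hw'
        refine hf ?_
        rw [map_one, ← DihedralGroup.r_one_pow, map_pow, hfr]
        exact hfreeH _ _ w.2.1 w.2.2 hw'
      · refine absurd hw' (hfreeS _ (hfmem _).2 ?_ ?_ _)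
        · rw [← map_mul, DihedralGroup.sr_mul_self, map_one]
        · intro e
          exact absurd (hf (e.trans (map_one f).symm)) (by rw [DihedralGroup.one_def]; exact fun h => by cases h)
    let e1 : DihedralGroup m ≃* fH.range := MonoidHom.ofInjective hfH
    have hcardT : Nat.card T = 2 * m := by
      rw [Nat.card_congr (Equiv.subtypeEquivRight (q := fun w : Ω => w ∈ ({c, a₀} : Finset Ω)ᶜ)
        fun w => by simp [T, SetLike.mem_coe]; rfl), Nat.card_eq_fintype_card, Fintype.card_coe,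
        Finset.card_compl, Finset.card_pair (Ne.symm ha), hΩ]
      omega
    have hregT : IsPretransitive fH.range T ∧ ∀ w : T, stabilizer fH.range w = ⊥ := by
      have hst : ∀ w : T, stabilizer fH.range w = ⊥ := fun w => by
        rw [Subgroup.eq_bot_iff_forall]
        rintro ⟨_, d, rfl⟩ hd
        refine Subtype.ext ?_
        show fH d = 1
        rw [hfree d w hd, map_one]
      refine ⟨⟨fun u v => ?_⟩, hst⟩
      have hinj : Function.Injective fun d : fH.range => d • u := fun d d' e => by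
        have : d'⁻¹ * d ∈ stabilizer fH.range u := by
          rw [mem_stabilizer_iff, mul_smul]
          exact inv_smul_eq_iff.mpr e
        rw [hst u, Subgroup.mem_bot, inv_mul_eq_one] at this
        exact this.symm
      exact ((Nat.bijective_iff_injective_and_card _).mpr ⟨hinj, by
        rw [hcardT, ← Nat.card_congr e1.toEquiv, DihedralGroup.nat_card]⟩).2 v
    have hprimH : IsPreprimitive H T := by
      have := hprim P hhalf hins ⟨a₀, ha⟩
      let b : SubMulAction.ofStabilizer X c := ⟨a₀, ha⟩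
      let σ : stabilizer (stabilizer X c) b → H := fun g =>
        ⟨((g : stabilizer X c) : X), Or.inl ⟨(g : stabilizer X c).2, congrArg Subtype.val g.2⟩⟩
      let F : SubMulAction.ofStabilizer (stabilizer X c) b →ₑ[σ] T :=
        { toFun := fun w => ⟨((w : SubMulAction.ofStabilizer X c) : Ω),
            (w : SubMulAction.ofStabilizer X c).2, fun e => w.2 (Subtype.ext e)⟩
          map_smul' := fun g w => rfl }
      refine IsPreprimitive.of_surjective (f := F) fun w => ?_
      exact ⟨⟨⟨(w : Ω), w.2.1⟩, fun e => w.2.2 (congrArg Subtype.val e)⟩, rfl⟩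
    have h2H := S3572.result hprimH fH.range m ⟨e1.symm⟩ hregT
    have hmoveH : ∀ a b u v : T, a ≠ b → u ≠ v → ∃ g : H, g • a = u ∧ g • b = v :=
      fun _ _ _ _ h1 h2 => is_two_pretransitive_iff.mp h2H h1 h2
    obtain ⟨g, hgx, hgy⟩ := hmoveH ⟨x, hx⟩ ⟨y, hy.1, hy.2.1⟩ ⟨x, hx⟩ ⟨z, hz.1, hz.2.1⟩
      (fun e => hy.2.2 (congrArg Subtype.val e).symm) (fun e => hz.2.2 (congrArg Subtype.val e).symm)
    have hgx' : (g : X) • x = x := congrArg Subtype.val hgx
    have hgy' : (g : X) • y = z := congrArg Subtype.val hgy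
    have hmap : ∀ k : H, (k : X) • x = x → ∀ u v, Rel u v → Rel ((k : X) • u) ((k : X) • v) := by
      rintro k hk u v ⟨q, e1, e2, e3, e4⟩
      refine ⟨(k : X) * q * (k : X)⁻¹, ?_, ?_, ?_, by rw [mul_smul, mul_smul, inv_smul_smul, e4]⟩
      · rcases k.2 with ⟨k1, k2⟩ | ⟨k1, k2⟩
        · rw [mul_smul, mul_smul, inv_smul_eq_iff.mpr k1.symm, e1, k1]
        · rw [mul_smul, mul_smul, inv_smul_eq_iff.mpr k2.symm, e2, k2]
      · rcases k.2 with ⟨k1, k2⟩ | ⟨k1, k2⟩
        · rw [mul_smul, mul_smul, inv_smul_eq_iff.mpr k2.symm, e2, k2]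
        · rw [mul_smul, mul_smul, inv_smul_eq_iff.mpr k1.symm, e1, k1]
      · rw [mul_smul, mul_smul, inv_smul_eq_iff.mpr hk.symm, e3, hk]
    set S : Finset Ω := ({c, a₀, x} : Finset Ω)ᶜ with hS
    have hSmem : ∀ w, w ∈ S ↔ w ≠ c ∧ w ≠ a₀ ∧ w ≠ x := fun w => by simp [hS]
    have hsplit : (S.filter (Rel y)).card + (S.filter (Rel z)).card = p - 2 := by
      rw [← Finset.card_union_of_disjoint, ← Finset.filter_or, Finset.filter_true_of_mem,
        hS, Finset.card_compl, hΩ, Finset.card_insert_of_notMem, Finset.card_pair (Ne.symm hx.2)]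
      · omega
      · simp [Ne.symm ha, Ne.symm hx.1]
      · exact fun w hw => hcover w ((hSmem w).mp hw) hn
      · exact Finset.disjoint_filter.mpr fun w _ h1 h2 => hn (htrans _ _ _ h1 (hsymm _ _ h2))
    have hstab : ∀ k : H, (k : X) • x = x → ∀ w ∈ S, (k : X) • w ∈ S := by
      intro k hk w hw
      obtain ⟨w1, w2, w3⟩ := (hSmem w).mp hw
      have h1 := (k • (⟨w, w1, w2⟩ : T)).2
      exact (hSmem _).mpr ⟨h1.1, h1.2, fun e => w3 (smul_left_cancel _ (e.trans hk.symm))⟩
    have heq : (S.filter (Rel y)).card = (S.filter (Rel z)).card := by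
      refine le_antisymm (Finset.card_le_card_of_injOn (fun w => (g : X) • w) (fun w hw => ?_)
          (fun _ _ _ _ e => smul_left_cancel _ e))
        (Finset.card_le_card_of_injOn (fun w => ((g⁻¹ : H) : X) • w) (fun w hw => ?_)
          (fun _ _ _ _ e => smul_left_cancel _ e))
      · obtain ⟨h1, h2⟩ := Finset.mem_filter.mp hw
        refine Finset.mem_filter.mpr ⟨hstab g hgx' w h1, ?_⟩
        rw [← hgy']
        exact hmap g hgx' _ _ h2
      · obtain ⟨h1, h2⟩ := Finset.mem_filter.mp hw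
        have hg' : ((g⁻¹ : H) : X) • x = x := inv_smul_eq_iff.mpr hgx'.symm
        refine Finset.mem_filter.mpr ⟨hstab _ hg' w h1, ?_⟩
        rw [← show ((g⁻¹ : H) : X) • z = y from inv_smul_eq_iff.mpr hgy'.symm]
        exact hmap _ hg' _ _ h2
    omega
  refine ⟨fun u v => ?_⟩
  obtain ⟨g0, hg0⟩ := exists_smul_eq (stabilizer X c) (u 0) (v 0)
  have hg0' : (g0 : X) • (u 0 : Ω) = v 0 := congrArg Subtype.val hg0
  have hne : ∀ (w : Fin 3 ↪ SubMulAction.ofStabilizer X c) (i j : Fin 3), i ≠ j →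
      (w i : Ω) ≠ (w j : Ω) := fun w i j hij e => hij (w.injective (Subtype.ext e))
  have hcne : ∀ w : SubMulAction.ofStabilizer X c, (w : Ω) ≠ c := fun w => w.2
  have hmv : ∀ (k : X), k • c = c → ∀ w : Ω, w ≠ c → k • w ≠ c := fun k hk w hw e =>
    hw (smul_left_cancel k (e.trans hk.symm))
  obtain ⟨g1, a1, a2, a3⟩ := htwo (v 0) ((g0 : X) • (u 1 : Ω)) (v 1) (hcne _)
    ⟨hmv _ g0.2 _ (hcne _), fun e => hne u 1 0 (by decide) (smul_left_cancel _ (e.trans hg0'.symm))⟩
    ⟨hcne _, hne v 1 0 (by decide)⟩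
  obtain ⟨g2, b1, b2, b3, b4⟩ := hthree (v 0) (v 1) ((g1 * g0) • (u 2 : Ω)) (v 2) (hcne _)
    ⟨hcne _, hne v 1 0 (by decide)⟩
    ⟨hmv _ (by rw [mul_smul, g0.2, a1]) _ (hcne _),
      fun e => hne u 2 0 (by decide) (smul_left_cancel _ (e.trans (by rw [mul_smul, hg0', a2]))),
      fun e => hne u 2 1 (by decide) (smul_left_cancel _ (e.trans (by rw [mul_smul, a3])))⟩
    ⟨hcne _, hne v 2 0 (by decide), hne v 2 1 (by decide)⟩
  refine ⟨⟨g2 * g1 * g0, ?_⟩, ?_⟩
  · rw [mem_stabilizer_iff, mul_smul, mul_smul, g0.2, a1, b1]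
  ext i
  fin_cases i
  · show (g2 * g1 * g0) • (u 0 : Ω) = v 0
    rw [mul_smul, mul_smul, hg0', a2, b2]
  · show (g2 * g1 * g0) • (u 1 : Ω) = v 1
    rw [mul_smul, mul_smul, a3, b3]
  · show (g2 * g1 * g0) • (u 2 : Ω) = v 2
    rw [mul_assoc, mul_smul, b4]

end Cfsg.Agent.Perm.ProjLine
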