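/-
Subdegrees and the degrees of the constituents of the permutation character.

* `orbMat a b` : the matrix of an orbital; `orbMat_mem`
* `rankEquiv` : suborbits and orbitals; `mult_one`
* `dvd_subdegree` : a common divisor of the non-principal degrees divides the non-trivial subdegrees
* `multFree_of_equal_degree`, `multFree_of_rank_le_five`
-/
import Cfsg.Agent.Lib.Perm.OrbitalAlgebra

namespace Cfsg.Agent.Perm.Orbital

open Cfsg MulAction
open scoped ComplexConjugate

variable {G : Type*} [Group G] {Ω : Type*} [MulAction G Ω] [DecidableEq Ω]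

open Classical in
/-- The matrix of the orbital of `(a, b)`. -/
noncomputable def orbMat (G : Type*) [Group G] [MulAction G Ω] (a b : Ω) : Matrix Ω Ω ℤ :=
  fun x y => if (x, y) ∈ orbit G (a, b) then 1 else 0

theorem orbMat_smul (a b : Ω) (g : G) (x y : Ω) :
    orbMat G a b (g • x) (g • y) = orbMat G a b x y := by
  classical
  refine if_congr ?_ rfl rfl
  rw [show (g • x, g • y) = g • (x, y) from rfl, ← orbit_eq_iff, ← orbit_eq_iff, orbit_smul]

variable [Fintype Ω]

theorem orbMat_mem (a b : Ω) :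
    Matrix.toLin' ((orbMat G a b).map (Int.cast : ℤ → ℂ)) ∈ cAlg G Ω := mem_cAlg_iff.mpr fun g x y => by
  simp only [mat, LinearMap.toMatrix'_toLin', Matrix.map_apply, orbMat_smul]

omit [DecidableEq Ω] [Fintype Ω] in
/-- Suborbits correspond to orbitals. -/
theorem card_suborbits [IsPretransitive G Ω] (a : Ω) :
    Nat.card (orbitRel.Quotient (stabilizer G a) Ω) = Nat.card (orbitRel.Quotient G (Ω × Ω)) := by
  refine Nat.card_eq_of_bijective (Quotient.lift (fun y => ⟦(a, y)⟧) ?_) ⟨?_, ?_⟩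
  · rintro y z h
    obtain ⟨g, rfl⟩ := orbitRel_apply.mp h
    exact Quotient.sound (orbitRel_apply.mpr ⟨(g : G), Prod.ext g.2 rfl⟩)
  · intro p q
    induction p using Quotient.inductionOn with
    | h y => induction q using Quotient.inductionOn with
      | h z =>
        intro h
        obtain ⟨g, hg⟩ := orbitRel_apply.mp (Quotient.exact h)
        exact Quotient.sound (orbitRel_apply.mpr ⟨⟨g, congrArg Prod.fst hg⟩, congrArg Prod.snd hg⟩)
  · intro p
    induction p using Quotient.inductionOn with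
    | h p =>
      obtain ⟨g, hg⟩ := exists_smul_eq G p.1 a
      exact ⟨⟦g • p.2⟧, Quotient.sound (orbitRel_apply.mpr ⟨g, Prod.ext hg rfl⟩)⟩

variable [Fintype G]

omit [DecidableEq Ω] in
theorem mult_one [IsPretransitive G Ω] [Nonempty Ω] : mult G Ω (fun _ => 1) = 1 := by
  have h := classInner_pi (G := G) (Ω := Ω) (Char.isCharacter_one (G := G))
  unfold pi at h
  rw [Char.classInner_fixedPoints_one Ω, Nat.cast_inj] at h
  change mult G Ω (1 : G → ℂ) = 1
  rw [← h, Nat.card_eq_one_iff_unique]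
  refine ⟨(pretransitive_iff_subsingleton_quotient G Ω).mp ‹_›, ?_⟩
  obtain ⟨a⟩ := ‹Nonempty Ω›
  exact ⟨⟦a⟧⟩

/-- The row sums of an orbital matrix are the subdegree. -/
theorem sum_orbMat [IsPretransitive G Ω] (a b x : Ω) :
    ∑ y, orbMat G a b x y = (Nat.card (orbit (stabilizer G a) b) : ℤ) := by
  classical
  obtain ⟨g, rfl⟩ := exists_smul_eq G a x
  rw [← Fintype.sum_equiv (MulAction.toPerm g) _ _ (fun y => rfl)]
  simp only [MulAction.toPerm_apply, orbMat_smul]
  unfold orbMat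
  rw [Finset.sum_boole, ← Fintype.card_subtype, ← Nat.card_eq_fintype_card]
  norm_cast
  refine Nat.card_congr (Equiv.subtypeEquivRight fun y => ?_)
  constructor
  · rintro ⟨h, hh⟩
    exact ⟨⟨h, congrArg Prod.fst hh⟩, congrArg Prod.snd hh⟩
  · rintro ⟨h, rfl⟩
    exact ⟨(h : G), Prod.ext h.2 rfl⟩

theorem trace_orbMat {a b : Ω} (hab : b ≠ a) :
    LinearMap.trace ℂ (Ω → ℂ) (Matrix.toLin' ((orbMat G a b).map (Int.cast : ℤ → ℂ))) = 0 := by
  classical
  rw [Matrix.trace_toLin'_eq, Matrix.trace]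
  refine Finset.sum_eq_zero fun x _ => ?_
  rw [Matrix.diag, Matrix.map_apply, orbMat, if_neg, Int.cast_zero]
  rintro ⟨g, hg⟩
  exact hab (smul_left_cancel g ((congrArg Prod.snd hg).trans (congrArg Prod.fst hg).symm))

omit [DecidableEq Ω] in
theorem card_smul_fibre [IsPretransitive G Ω] [DecidableEq Ω] (x y : Ω) :
    (Finset.univ.filter fun g : G => g • x = y).card * Fintype.card Ω = Nat.card G := by
  classical
  have h1 := (stabilizer G x).index_mul_card
  rw [index_stabilizer_of_transitive G x, Nat.card_eq_fintype_card (α := Ω), mul_comm] at h1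
  rw [← h1]
  congr 1
  obtain ⟨g₀, hg₀⟩ := exists_smul_eq G x y
  rw [← Fintype.card_subtype, ← Nat.card_eq_fintype_card]
  refine Nat.card_congr (((Equiv.mulLeft g₀⁻¹).subtypeEquiv fun g => ?_))
  simp [mul_smul, ← hg₀, inv_smul_eq_iff]

theorem trace_mul_idem_one [IsPretransitive G Ω] [Nonempty Ω] (a b : Ω) :
    LinearMap.trace ℂ (Ω → ℂ)
      (Matrix.toLin' ((orbMat G a b).map (Int.cast : ℤ → ℂ)) * idem (fun _ : G => (1 : ℂ))) =
      (Nat.card (orbit (stabilizer G a) b) : ℂ) := by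
  classical
  rw [LinearMap.trace_eq_matrix_trace ℂ (Pi.basisFun ℂ Ω), LinearMap.toMatrix_eq_toMatrix',
    LinearMap.toMatrix'_mul, LinearMap.toMatrix'_toLin', Matrix.trace]
  have hn : (Fintype.card Ω : ℂ) ≠ 0 := Nat.cast_ne_zero.2 Fintype.card_ne_zero
  have hE : ∀ x y : Ω, mat (idem (Ω := Ω) (fun _ : G => (1 : ℂ))) x y = (Fintype.card Ω : ℂ)⁻¹ := by
    intro x y
    rw [idem, mat_groupSumOp]
    simp only [coef, map_one, mul_one]
    rw [← Finset.sum_filter, Finset.sum_const, nsmul_eq_mul, ← card_smul_fibre y x (G := G),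
      Nat.cast_mul]
    have : ((Finset.univ.filter fun g : G => g • y = x).card : ℂ) ≠ 0 := by
      obtain ⟨g₀, hg₀⟩ := exists_smul_eq G y x
      exact Nat.cast_ne_zero.2 (Finset.card_ne_zero.mpr ⟨g₀, by simp [hg₀]⟩)
    field_simp
  have hrow : ∀ x, ∑ y, ((orbMat G a b).map (Int.cast : ℤ → ℂ)) x y =
      (Nat.card (orbit (stabilizer G a) b) : ℂ) := fun x => by
    simp only [Matrix.map_apply, ← Int.cast_sum, sum_orbMat, Int.cast_natCast]
  simp only [Matrix.diag, Matrix.mul_apply, hE, ← Finset.sum_mul, hrow, Finset.sum_const,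
    Finset.card_univ, nsmul_eq_mul]
  field_simp

/-- A common divisor of the degrees of the non-principal constituents divides every non-trivial
subdegree. -/
theorem dvd_subdegree [IsPretransitive G Ω] (f : ℕ)
    (hf : ∀ χ : G → ℂ, IsIrrCharacter G χ → χ ≠ (fun _ => 1) → classInner (pi G Ω) χ ≠ 0 →
      ∃ m : ℕ, χ 1 = (f : ℂ) * m) (a b : Ω) (hab : b ≠ a) :
    f ∣ Nat.card (orbit (stabilizer G a) b) := by
  classical
  have : Nonempty Ω := ⟨a⟩
  have := Fintype.ofFinite (IrrCharacter G)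
  set d := Nat.card (orbit (stabilizer G a) b) with hd
  set A := Matrix.toLin' ((orbMat G a b).map (Int.cast : ℤ → ℂ)) with hA
  let χ₁ : IrrCharacter G := ⟨fun _ => 1, Char.isIrrCharacter_one⟩
  have hterm : ∀ χ : IrrCharacter G, χ ≠ χ₁ → ∃ z : ℂ, IsIntegral ℤ z ∧
      LinearMap.trace ℂ (Ω → ℂ) (A * idem (χ : G → ℂ)) = (f : ℂ) * z := by
    intro χ hχ
    by_cases h0 : classInner (pi G Ω) (χ : G → ℂ) = 0
    · refine ⟨0, isIntegral_zero, ?_⟩
      rw [(idem_eq_zero_iff χ.2).mpr h0, mul_zero, map_zero, mul_zero]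
    · obtain ⟨m, hm⟩ := hf _ χ.2 (fun e => hχ (Subtype.ext e)) h0
      obtain ⟨z, hz, hz'⟩ := trace_mul_idem χ.2 (orbMat_mem a b)
      refine ⟨m * z, IsIntegral.mul ?_ hz, by rw [hz', hm, mul_assoc]⟩
      simpa using isIntegral_algebraMap (R := ℤ) (A := ℂ) (x := (m : ℤ))
  choose! z hz hz' using hterm
  have hsum : LinearMap.trace ℂ (Ω → ℂ) A =
      (d : ℂ) + ∑ χ ∈ Finset.univ.erase χ₁, (f : ℂ) * z χ := by
    conv_lhs => rw [← mul_one A, ← sum_idem (G := G), Finset.mul_sum, map_sum,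
      ← Finset.add_sum_erase _ _ (Finset.mem_univ χ₁)]
    rw [trace_mul_idem_one, Finset.sum_congr rfl fun χ hχ => hz' χ (Finset.ne_of_mem_erase hχ)]
  rw [trace_orbMat hab, ← Finset.mul_sum] at hsum
  rcases Nat.eq_zero_or_pos f with rfl | hfpos
  · rw [Nat.cast_zero, zero_mul, add_zero, eq_comm, Nat.cast_eq_zero] at hsum
    exact ⟨0, by rw [hsum]⟩
  · refine Char.nat_dvd_of_isIntegral_div hfpos.ne' ?_
    have : (d : ℂ) / f = -∑ χ ∈ Finset.univ.erase χ₁, z χ := by
      rw [div_eq_iff (Nat.cast_ne_zero.2 hfpos.ne')]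
      linear_combination -hsum
    rw [this]
    exact (IsIntegral.sum _ fun χ hχ => hz χ (Finset.ne_of_mem_erase hχ)).neg

/-- Equal non-principal degrees force multiplicity one and equal subdegrees. -/
theorem multFree_of_equal_degree [IsPretransitive G Ω] (a : Ω) (f : ℕ)
    (hf : ∀ χ : G → ℂ, IsIrrCharacter G χ → χ ≠ (fun _ => 1) → classInner (pi G Ω) χ ≠ 0 →
      χ 1 = f) :
    (∀ χ : G → ℂ, IsIrrCharacter G χ → mult G Ω χ ≤ 1) ∧
      ∀ b, b ≠ a → Nat.card (orbit (stabilizer G a) b) = f := by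
  classical
  have : Nonempty Ω := ⟨a⟩
  have := Fintype.ofFinite (IrrCharacter G)
  have := Fintype.ofFinite (orbitRel.Quotient (stabilizer G a) Ω)
  let χ₁ : IrrCharacter G := ⟨fun _ => 1, Char.isIrrCharacter_one⟩
  let q₀ : orbitRel.Quotient (stabilizer G a) Ω := ⟦a⟧
  set M := ∑ χ ∈ Finset.univ.erase χ₁, mult G Ω (χ : G → ℂ) with hM
  set R := ∑ χ ∈ Finset.univ.erase χ₁, mult G Ω (χ : G → ℂ) ^ 2 with hR
  have hn : Fintype.card Ω = 1 + f * M := by
    have h := sum_mult_degree (G := G) (Ω := Ω)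
    rw [← Finset.add_sum_erase _ _ (Finset.mem_univ χ₁), mult_one, Nat.cast_one, one_mul] at h
    have h' : ∀ χ ∈ Finset.univ.erase χ₁, (mult G Ω (χ : G → ℂ) : ℂ) * (χ : G → ℂ) 1 =
        ((f * mult G Ω (χ : G → ℂ) : ℕ) : ℂ) := by
      intro χ hχ
      by_cases h0 : mult G Ω (χ : G → ℂ) = 0
      · simp [h0]
      · rw [hf _ χ.2 (fun e => Finset.ne_of_mem_erase hχ (Subtype.ext e))
          (by rwa [classInner_pi (Char.IsIrrCharacter.isCharacter χ.2), Nat.cast_ne_zero])]
        push_cast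
        ring
    rw [Finset.sum_congr rfl h', ← Nat.cast_sum, ← Finset.mul_sum, ← hM] at h
    change (Fintype.card Ω : ℂ) = 1 + _ at h
    exact_mod_cast h
  have hr : Fintype.card (orbitRel.Quotient (stabilizer G a) Ω) = 1 + R := by
    rw [← Nat.card_eq_fintype_card, card_suborbits, card_orbitals_eq_sum,
      ← Finset.add_sum_erase _ _ (Finset.mem_univ χ₁), mult_one, one_pow]
  let sz : orbitRel.Quotient (stabilizer G a) Ω → ℕ := fun q =>
    Nat.card (orbit (stabilizer G a) (Quotient.out q))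
  have htot : ∑ q, sz q = Fintype.card Ω := by
    rw [← Nat.card_eq_fintype_card (α := Ω), Nat.card_congr (selfEquivSigmaOrbits (stabilizer G a) Ω),
      Nat.card_sigma]
  have hout : ∀ b : Ω, orbit (stabilizer G a) (Quotient.out (⟦b⟧ : orbitRel.Quotient (stabilizer G a) Ω))
      = orbit (stabilizer G a) b := fun b =>
    orbit_eq_iff.mpr (orbitRel_apply.mp (Quotient.mk_out b))
  have horb_a : orbit (stabilizer G a) a = {a} := Set.eq_singleton_iff_unique_mem.mpr
    ⟨mem_orbit_self a, by rintro _ ⟨g, rfl⟩; exact g.2⟩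
  have hq₀ : sz q₀ = 1 := by
    change Nat.card (orbit (stabilizer G a) (Quotient.out q₀)) = 1
    rw [hout a, horb_a, Nat.card_coe_set_eq, Set.ncard_singleton]
  have hq : ∀ q ∈ Finset.univ.erase q₀, f ≤ sz q ∧ 0 < sz q := by
    intro q hq
    have hne : Quotient.out q ≠ a := fun e => Finset.ne_of_mem_erase hq (by
      rw [← Quotient.out_eq q, e])
    have : Nonempty (orbit (stabilizer G a) (Quotient.out q)) := (nonempty_orbit _).to_subtype
    have hpos : 0 < sz q := Nat.card_pos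
    exact ⟨Nat.le_of_dvd hpos (dvd_subdegree f (fun χ h1 h2 h3 => ⟨1, by
      rw [hf χ h1 h2 h3, Nat.cast_one, mul_one]⟩) a _ hne), hpos⟩
  rw [← Finset.add_sum_erase _ _ (Finset.mem_univ q₀), hq₀, hn, Nat.add_left_cancel_iff] at htot
  have hcardq : (Finset.univ.erase q₀).card = R := by
    rw [Finset.card_erase_of_mem (Finset.mem_univ q₀), Finset.card_univ, hr]
    omega
  have hMR : M ≤ R := Finset.sum_le_sum fun χ _ => Nat.le_self_pow (by norm_num) _
  have hlow : R * f ≤ f * M := by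
    rw [← htot, ← hcardq]
    exact (smul_eq_mul (α := ℕ) _ f).symm.trans_le (Finset.card_nsmul_le_sum _ _ _ fun q h => (hq q h).1)
  have hfpos : R = 0 ∨ 0 < f := by
    by_contra hcon
    rw [not_or, Nat.pos_iff_ne_zero, not_ne_iff] at hcon
    obtain ⟨q, hq'⟩ := Finset.card_pos.mp (show 0 < (Finset.univ.erase q₀).card by omega)
    have h1 := Finset.single_le_sum (f := sz) (fun _ _ => Nat.zero_le _) hq'
    have h2 := (hq q hq').2
    rw [htot, hcon.2, zero_mul] at h1
    omega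
  have hRM : R ≤ M := by
    rcases hfpos with h | h
    · omega
    · rw [mul_comm R] at hlow
      exact Nat.le_of_mul_le_mul_left hlow h
  constructor
  · intro χ hχ
    by_cases he : (⟨χ, hχ⟩ : IrrCharacter G) = χ₁
    · rw [show χ = fun _ => 1 from congrArg Subtype.val he, mult_one]
    · have hle : ∀ ψ ∈ Finset.univ.erase χ₁,
          mult G Ω (ψ : G → ℂ) ≤ mult G Ω (ψ : G → ℂ) ^ 2 := fun ψ _ => Nat.le_self_pow (by norm_num) _
      have := (Finset.sum_eq_sum_iff_of_le hle).mp (le_antisymm hMR hRM) ⟨χ, hχ⟩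
        (Finset.mem_erase.mpr ⟨he, Finset.mem_univ _⟩)
      rcases Nat.eq_zero_or_pos (mult G Ω χ) with h | h
      · omega
      · have h2 : mult G Ω χ * 1 = mult G Ω χ * mult G Ω χ := by rw [mul_one, ← pow_two]; exact this
        exact (Nat.eq_of_mul_eq_mul_left h h2).ge
  · intro b hb
    have hqb : (⟦b⟧ : orbitRel.Quotient (stabilizer G a) Ω) ∈ Finset.univ.erase q₀ := by
      refine Finset.mem_erase.mpr ⟨fun e => hb ?_, Finset.mem_univ _⟩
      obtain ⟨g, hg⟩ := orbitRel_apply.mp (Quotient.exact e)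
      exact hg.symm.trans g.2
    have hle : ∀ q ∈ Finset.univ.erase q₀, f ≤ sz q := fun q h => (hq q h).1
    have heq : ∑ _q ∈ Finset.univ.erase q₀, f = ∑ q ∈ Finset.univ.erase q₀, sz q := by
      rw [Finset.sum_const, hcardq, htot, le_antisymm hRM hMR, smul_eq_mul, mul_comm]
    have := (Finset.sum_eq_sum_iff_of_le hle).mp heq _ hqb
    rw [this]
    exact congrArg (fun s : Set Ω => Nat.card s) (hout b).symm

/-- Rank at most five gives a multiplicity free character. -/
theorem multFree_of_rank_le_five [IsPretransitive G Ω] (a : Ω)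
    (hr : Nat.card (orbitRel.Quotient (stabilizer G a) Ω) ≤ 5) :
    ∀ χ : G → ℂ, IsIrrCharacter G χ → mult G Ω χ ≤ 1 := by
  classical
  have : Nonempty Ω := ⟨a⟩
  have := Fintype.ofFinite (IrrCharacter G)
  intro χ hχ
  by_contra hlt
  obtain ⟨k, hk⟩ : ∃ k : ℕ, χ 1 = k :=
    (Char.IsIrrCharacter.exists_degree hχ).imp fun _ h => h.2
  let χ₁ : IrrCharacter G := ⟨fun _ => 1, Char.isIrrCharacter_one⟩
  rw [card_suborbits, card_orbitals_eq_sum, ← Finset.add_sum_erase _ _ (Finset.mem_univ χ₁),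
    mult_one, one_pow] at hr
  have hne : (⟨χ, hχ⟩ : IrrCharacter G) ≠ χ₁ := fun e => by
    rw [show χ = fun _ => 1 from congrArg Subtype.val e, mult_one] at hlt
    exact hlt le_rfl
  rw [← Finset.add_sum_erase _ _ (Finset.mem_erase.mpr ⟨hne, Finset.mem_univ _⟩)] at hr
  change 1 + (mult G Ω χ ^ 2 + _) ≤ 5 at hr
  have h4 : 4 ≤ mult G Ω χ ^ 2 := by
    calc 4 = 2 ^ 2 := by norm_num
      _ ≤ _ := Nat.pow_le_pow_left (by omega) 2
  refine hlt ((multFree_of_equal_degree a k fun ψ hψ hψ1 hψm => ?_).1 χ hχ)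
  by_cases hψχ : ψ = χ
  · rw [hψχ, hk]
  · exfalso
    have hmem : (⟨ψ, hψ⟩ : IrrCharacter G) ∈
        (Finset.univ.erase χ₁).erase ⟨χ, hχ⟩ := Finset.mem_erase.mpr
      ⟨fun e => hψχ (congrArg Subtype.val e), Finset.mem_erase.mpr
        ⟨fun e => hψ1 (congrArg Subtype.val e), Finset.mem_univ _⟩⟩
    have h1 := Finset.single_le_sum (f := fun φ : IrrCharacter G => mult G Ω (φ : G → ℂ) ^ 2)
      (fun _ _ => Nat.zero_le _) hmem
    have h2 : 0 < mult G Ω ψ := Nat.pos_of_ne_zero fun e => hψm (by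
      rw [classInner_pi (Char.IsIrrCharacter.isCharacter hψ), e, Nat.cast_zero])
    have h3 : 0 < mult G Ω ψ ^ 2 := pow_pos h2 2
    have h5 := hr
    simp only at h1 h5
    have h6 : mult G Ω χ ^ 2 + mult G Ω ψ ^ 2 ≤ 4 := by linarith
    omega

end Cfsg.Agent.Perm.Orbital
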