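/-
Sharply multiply transitive groups.

* `sharply_four_transitive_bound` : Tits' argument
* `card_sharply_transitive` : the order of a sharply k-transitive group
-/
import Cfsg.Agent.Lib.Perm.Sharp

namespace Cfsg.Agent.Perm

open MulAction

variable {G : Type*} [Group G] {X : Type*} [MulAction G X]

/-- A 4-tuple as an embedding. -/
theorem exists_embedding_four {a b c d : X} (h : ([a, b, c, d] : List X).Nodup) :
    ∃ e : Fin 4 ↪ X, e 0 = a ∧ e 1 = b ∧ e 2 = c ∧ e 3 = d :=
  ⟨⟨([a, b, c, d] : List X).get, List.nodup_iff_injective_get.mp h⟩, rfl, rfl, rfl, rfl⟩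

/-- Tits' argument on sharply 4-transitive groups. -/
theorem sharply_four_transitive_bound (h4 : IsMultiplyPretransitive G X 4)
    (hsharp : ∀ x : Fin 4 ↪ X, stabilizer G x = ⊥) (hne : Nonempty (Fin 4 ↪ X)) :
    Finite X ∧ ((Even (Nat.card X) ∧ (Nat.card X = 4 ∨ Nat.card X = 5 ∨ Nat.card X = 6)) ∨
      (Odd (Nat.card X) ∧ (Nat.card X = 5 ∨ Nat.card X = 7 ∨ Nat.card X = 11))) := by
  classical
  obtain ⟨e⟩ := hne
  have hne' : ∀ {i j : Fin 4}, i ≠ j → e i ≠ e j := fun h => e.injective.ne h
  -- the involution swapping the first two points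
  obtain ⟨e', he0, he1, he2, he3⟩ := exists_embedding_four (a := e 1) (b := e 0) (c := e 2) (d := e 3)
    (by simp [hne' (show (1 : Fin 4) ≠ 0 by decide), hne' (show (1 : Fin 4) ≠ 2 by decide),
      hne' (show (1 : Fin 4) ≠ 3 by decide), hne' (show (0 : Fin 4) ≠ 2 by decide),
      hne' (show (0 : Fin 4) ≠ 3 by decide), hne' (show (2 : Fin 4) ≠ 3 by decide)])
  obtain ⟨t, ht⟩ := h4.exists_smul_eq e e'
  have ht' : ∀ i, t • e i = e' i := fun i => congrArg (fun f : Fin 4 ↪ X => f i) ht
  have htt : t * t = 1 := by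
    have hmem : t * t ∈ stabilizer G e := by
      rw [mem_stabilizer_iff]
      ext i
      rw [Function.Embedding.smul_apply, mul_smul]
      fin_cases i
      · exact (congrArg (t • ·) ((ht' 0).trans he0)).trans ((ht' 1).trans he1)
      · exact (congrArg (t • ·) ((ht' 1).trans he1)).trans ((ht' 0).trans he0)
      · exact (congrArg (t • ·) ((ht' 2).trans he2)).trans ((ht' 2).trans he2)
      · exact (congrArg (t • ·) ((ht' 3).trans he3)).trans ((ht' 3).trans he3)
    rwa [hsharp, Subgroup.mem_bot] at hmem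
  set p₁ := e 0
  set p₂ := e 1
  have hp12 : p₁ ≠ p₂ := hne' (by decide)
  have ht1 : t • p₁ = p₂ := (ht' 0).trans he0
  have ht2 : t • p₂ = p₁ := (ht' 1).trans he1
  have ht0 : t ≠ 1 := fun h => hp12 (by rw [← ht1, h, one_smul])
  let F : Set X := {x | t • x = x}
  have hFfin : F.Finite ∧ F.ncard ≤ 3 := by
    have h : ∀ s : Finset X, (↑s : Set X) ⊆ F → s.card ≤ 3 := by
      intro s hs
      by_contra hlt
      obtain ⟨u, hu, hu4⟩ := Finset.exists_subset_card_eq (show 4 ≤ s.card by omega)
      exact ht0 (eq_one_of_sharp_finset hsharp u hu4 fun x hx => hs (hu hx))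
    have hfin : F.Finite := by
      by_contra hinf
      obtain ⟨s, hs, hs4⟩ := Set.Infinite.exists_subset_card_eq hinf 4
      have := h s hs
      omega
    exact ⟨hfin, by rw [Set.ncard_eq_toFinset_card _ hfin]; exact h _ (by simp)⟩
  have hF2 : 2 ≤ F.ncard := by
    refine le_trans (le_of_eq (Set.ncard_pair (hne' (show (2 : Fin 4) ≠ 3 by decide))).symm)
      (Set.ncard_le_ncard ?_ hFfin.1)
    rintro x (rfl | rfl)
    · exact (ht' 2).trans he2
    · exact (ht' 3).trans he3
  have : Finite F := hFfin.1.to_subtype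
  -- the centraliser of `t` fixing `p₁` acts faithfully on `F`
  let C := Subgroup.centralizer ({t} : Set G) ⊓ stabilizer G p₁
  have hCc : ∀ g ∈ C, ∀ x : X, t • g • x = g • t • x := fun g hg x => by
    rw [← mul_smul, ← mul_smul, Subgroup.mem_centralizer_iff.mp hg.1 t rfl]
  have hC2 : ∀ g ∈ C, g • p₂ = p₂ := fun g hg => by
    rw [← ht1, ← hCc g hg, mem_stabilizer_iff.mp hg.2]
  let U : SubMulAction C X :=
    { carrier := F
      smul_mem' := fun g x hx => by
        show t • (g : G) • x = (g : G) • x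
        rw [hCc g g.2, hx] }
  let ρ := MulAction.toPermHom C U
  have hρ : Function.Injective ρ := by
    rw [injective_iff_map_eq_one]
    intro g hg
    have hgF : ∀ x ∈ F, (g : G) • x = x := fun x hx =>
      congrArg Subtype.val (congrArg (fun σ : Equiv.Perm U => σ ⟨x, hx⟩) hg)
    refine Subtype.ext (eq_one_of_sharp_finset hsharp {p₁, p₂, e 2, e 3} ?_ fun x hx => ?_)
    · rw [Finset.card_insert_of_notMem, Finset.card_insert_of_notMem,
        Finset.card_pair (hne' (by decide))]
      · simp [p₂, hne' (show (1 : Fin 4) ≠ 2 by decide), hne' (show (1 : Fin 4) ≠ 3 by decide)]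
      · simp [p₁, p₂, hne' (show (0 : Fin 4) ≠ 1 by decide), hne' (show (0 : Fin 4) ≠ 2 by decide),
          hne' (show (0 : Fin 4) ≠ 3 by decide)]
    · simp only [Finset.mem_insert, Finset.mem_singleton] at hx
      rcases hx with rfl | rfl | rfl | rfl
      · exact g.2.2
      · exact hC2 g g.2
      · exact hgF _ ((ht' 2).trans he2)
      · exact hgF _ ((ht' 3).trans he3)
  have hUfin : Finite U := inferInstanceAs (Finite F)
  have hCfin : Finite C := Finite.of_injective ρ hρ
  have hCdvd : Nat.card C ∣ F.ncard.factorial := by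
    rw [← Nat.card_coe_set_eq, ← Nat.card_perm]
    exact Subgroup.card_dvd_of_injective ρ hρ
  -- `C` is regular on the other points
  let R : Set X := {x | x ≠ p₁ ∧ x ≠ p₂ ∧ x ∉ F}
  have hRt : ∀ x ∈ R, t • x ∈ R ∧ t • x ≠ x := by
    intro x ⟨h1, h2, h3⟩
    refine ⟨⟨?_, ?_, ?_⟩, h3⟩
    · intro h; exact h2 (MulAction.injective t (h.trans ht2.symm))
    · intro h; exact h1 (MulAction.injective t (h.trans ht1.symm))
    · intro h; exact h3 (MulAction.injective t h)
  have hreg : ∀ x ∈ R, ∀ y ∈ R, ∃ g ∈ C, g • x = y := by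
    intro x hx y hy
    have hnd : ∀ z ∈ R, ([p₁, p₂, z, t • z] : List X).Nodup := fun z hz => by
      simp [hp12, hz.1.symm, hz.2.1.symm, ((hRt z hz).1).1.symm, ((hRt z hz).1).2.1.symm,
        (hRt z hz).2.symm]
    obtain ⟨u, hu0, hu1, hu2, hu3⟩ := exists_embedding_four (hnd x hx)
    obtain ⟨v, hv0, hv1, hv2, hv3⟩ := exists_embedding_four (hnd y hy)
    obtain ⟨g, hg⟩ := h4.exists_smul_eq u v
    have hg' : ∀ i, g • u i = v i := fun i => congrArg (fun f : Fin 4 ↪ X => f i) hg
    have g0 : g • p₁ = p₁ := (congrArg (g • ·) hu0.symm).trans ((hg' 0).trans hv0)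
    have g1 : g • p₂ = p₂ := (congrArg (g • ·) hu1.symm).trans ((hg' 1).trans hv1)
    have g2 : g • x = y := (congrArg (g • ·) hu2.symm).trans ((hg' 2).trans hv2)
    have g3 : g • t • x = t • y := (congrArg (g • ·) hu3.symm).trans ((hg' 3).trans hv3)
    have httx : ∀ z : X, t • t • z = z := fun z => by rw [← mul_smul, htt, one_smul]
    refine ⟨g, ⟨Subgroup.mem_centralizer_iff.mpr fun w hw => ?_, g0⟩, g2⟩
    rw [Set.mem_singleton_iff.mp hw]
    have hfix : ∀ z : X, g • t • z = t • g • z → (g⁻¹ * t * g * t) • z = z := fun z hz => by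
      rw [mul_smul, mul_smul, mul_smul, hz, httx, inv_smul_smul]
    have hmem : g⁻¹ * t * g * t ∈ stabilizer G u := by
      rw [mem_stabilizer_iff]
      ext i
      rw [Function.Embedding.smul_apply]
      apply hfix
      fin_cases i
      · show g • t • u 0 = t • g • u 0
        rw [hu0, g0, ht1, g1]
      · show g • t • u 1 = t • g • u 1
        rw [hu1, g1, ht2, g0]
      · show g • t • u 2 = t • g • u 2
        rw [hu2, g2, g3]
      · show g • t • u 3 = t • g • u 3
        rw [hu3, g3, httx, httx, g2]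
    rw [hsharp, Subgroup.mem_bot] at hmem
    have h2 := congrArg (fun w => g * w * t) hmem
    simp only [mul_assoc, htt, mul_one, mul_inv_cancel_left] at h2
    exact h2
  have hsemi : ∀ g ∈ C, ∀ x ∈ R, g • x = x → g = 1 := by
    intro g hg x hx hgx
    refine eq_one_of_sharp_finset hsharp {p₁, p₂, x, t • x} ?_ fun y hy => ?_
    · rw [Finset.card_insert_of_notMem, Finset.card_insert_of_notMem,
        Finset.card_pair (hRt x hx).2.symm]
      · simp [hx.2.1.symm, (hRt x hx).1.2.1.symm]
      · simp [hp12, hx.1.symm, (hRt x hx).1.1.symm]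
    · simp only [Finset.mem_insert, Finset.mem_singleton] at hy
      rcases hy with rfl | rfl | rfl | rfl
      · exact hg.2
      · exact hC2 g hg
      · exact hgx
      · rw [← hCc g hg, hgx]
  have hR : R.Finite ∧ (R.ncard = 0 ∨ R.ncard ∣ F.ncard.factorial) := by
    rcases R.eq_empty_or_nonempty with h | ⟨x0, hx0⟩
    · rw [h]; exact ⟨Set.finite_empty, Or.inl (Set.ncard_empty _)⟩
    have himg : R = Set.range fun g : C => (g : G) • x0 := by
      ext y
      constructor
      · intro hy
        obtain ⟨g, hg, rfl⟩ := hreg x0 hx0 y hy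
        exact ⟨⟨g, hg⟩, rfl⟩
      · rintro ⟨g, rfl⟩
        refine ⟨fun h => hx0.1 ?_, fun h => hx0.2.1 ?_, fun h => hx0.2.2 ?_⟩
        · exact MulAction.injective (g : G) (h.trans (mem_stabilizer_iff.mp g.2.2).symm)
        · exact MulAction.injective (g : G) (h.trans (hC2 g g.2).symm)
        · exact MulAction.injective (g : G) ((hCc g g.2 x0).symm.trans h)
    refine ⟨himg ▸ Set.finite_range _, Or.inr ?_⟩
    rw [himg, ← Nat.card_coe_set_eq, Nat.card_range_of_injective]
    · exact hCdvd
    · intro g h e'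
      have := hsemi _ (mul_mem (inv_mem h.2) g.2) x0 hx0 (by
        simp only at e'
        rw [mul_smul, e', inv_smul_smul])
      exact Subtype.ext (inv_mul_eq_one.mp this).symm
  have huniv : (Set.univ : Set X) = ({p₁, p₂} ∪ F) ∪ R := by
    ext x
    simp only [R, Set.mem_univ, Set.mem_union, Set.mem_insert_iff, Set.mem_singleton_iff,
      Set.mem_ofPred_eq, true_iff]
    tauto
  have hXfin : Finite X := Set.finite_univ_iff.mp
    (huniv ▸ (((Set.toFinite _).union hFfin.1).union hR.1))
  refine ⟨hXfin, ?_⟩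
  have hcard : Nat.card X = 2 + F.ncard + R.ncard := by
    rw [← Set.ncard_univ, huniv, Set.ncard_union_eq, Set.ncard_union_eq, Set.ncard_pair hp12]
    · rw [Set.disjoint_left]
      rintro x (rfl | rfl) hx
      · exact hp12 (hx.symm.trans ht1)
      · exact hp12 (ht2.symm.trans hx)
    · rw [Set.disjoint_left]
      rintro x ((rfl | rfl) | hx) hxR
      · exact hxR.1 rfl
      · exact hxR.2.1 rfl
      · exact hxR.2.2 hx
  -- parity
  have hpar : Nat.card X % 2 = F.ncard % 2 := by
    have : Fact (Nat.Prime 2) := ⟨Nat.prime_two⟩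
    have hP : IsPGroup 2 (Subgroup.zpowers t) := IsPGroup.of_card (n := 1) (by
      rw [pow_one, Nat.card_zpowers, orderOf_eq_prime (p := 2) (by rw [pow_two]; exact htt) ht0])
    have hm := hP.card_modEq_card_fixedPoints X
    have heq : fixedPoints (Subgroup.zpowers t) X = F := by
      ext x
      exact ⟨fun h => h ⟨t, Subgroup.mem_zpowers t⟩, fun h ⟨k, hk⟩ =>
        (Subgroup.zpowers_le.mpr (mem_stabilizer_iff.mpr h) hk : k ∈ stabilizer G x)⟩
    rw [heq, Nat.card_coe_set_eq] at hm
    exact hm
  rcases (show F.ncard = 2 ∨ F.ncard = 3 by have := hFfin.2; omega) with hf | hf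
  · left
    rw [hf] at hR hcard hpar
    refine ⟨Nat.even_iff.mpr hpar, ?_⟩
    rcases hR.2 with h | h
    · omega
    · have := Nat.le_of_dvd (by decide) h
      rw [Nat.factorial_two] at this
      omega
  · right
    rw [hf] at hR hcard hpar
    refine ⟨Nat.odd_iff.mpr hpar, ?_⟩
    rcases hR.2 with h | h
    · omega
    · have hle : R.ncard ≤ 6 := Nat.le_of_dvd (by norm_num) (by simpa [Nat.factorial] using h)
      have h' : R.ncard ∣ 6 := by simpa [Nat.factorial] using h
      interval_cases hr : R.ncard <;> omega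

theorem card_sharply_transitive [Finite X] {k : ℕ} (hk : k ≤ Nat.card X)
    (h : IsMultiplyPretransitive G X k) (hsharp : ∀ x : Fin k ↪ X, stabilizer G x = ⊥) :
    Nat.card G * (Nat.card X - k).factorial = (Nat.card X).factorial := by
  obtain ⟨s, -, hs⟩ := Set.exists_subset_card_eq (s := (Set.univ : Set X)) (n := k)
    (by rwa [Set.ncard_univ])
  have hbot : fixingSubgroup G s = ⊥ := by
    rw [Subgroup.eq_bot_iff_forall]
    intro g hg
    refine eq_one_of_sharp_finset hsharp s.toFinite.toFinset ?_ fun x hx => ?_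
    · rw [← Set.ncard_eq_toFinset_card, hs]
    · exact (mem_fixingSubgroup_iff G).mp hg x ((Set.Finite.mem_toFinset _).mp hx)
  have := h.index_of_fixingSubgroup_mul hs
  rwa [hbot, Subgroup.index_bot] at this

end Cfsg.Agent.Perm
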