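/-
Degrees of sharply k-transitive groups, k ≥ 4 (Jordan).

* `faithfulSMul_of_sharp`, `sharp_stabilizer`
* `sharply_four_degree`, `sharply_five_degree`, `sharply_large_degree`
-/
import Cfsg.Agent.Lib.Perm.SharpFour
import Cfsg.Agent.Lib.Perm.PrimeSylow
import Cfsg.Agent.Lib.Perm.NormalSubgroups

namespace Cfsg.Agent.Perm

open MulAction

variable {G : Type*} [Group G] {X : Type*} [MulAction G X]

theorem faithfulSMul_of_sharp [Finite X] {k : ℕ} (hk : k ≤ Nat.card X)
    (hsharp : ∀ x : Fin k ↪ X, stabilizer G x = ⊥) : FaithfulSMul G X := by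
  refine ⟨fun {g h} e => ?_⟩
  obtain ⟨s, -, hs⟩ := Set.exists_subset_card_eq (s := (Set.univ : Set X)) (n := k)
    (by rwa [Set.ncard_univ])
  have := eq_one_of_sharp_finset hsharp (g := h⁻¹ * g) s.toFinite.toFinset
    (by rw [← Set.ncard_eq_toFinset_card, hs]) fun x _ => by rw [mul_smul, e x, inv_smul_smul]
  exact (inv_mul_eq_one.mp this).symm

theorem sharp_stabilizer {k : ℕ} (hsharp : ∀ x : Fin (k + 1) ↪ X, stabilizer G x = ⊥) (a : X) :
    ∀ x : Fin k ↪ SubMulAction.ofStabilizer G a, stabilizer (stabilizer G a) x = ⊥ := by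
  classical
  intro x
  rw [Subgroup.eq_bot_iff_forall]
  intro g hg
  have hx : ∀ i, (g : G) • (x i : X) = x i := fun i => by
    have := congrArg (fun f : Fin k ↪ SubMulAction.ofStabilizer G a => f i) hg
    exact congrArg Subtype.val this
  apply Subtype.ext
  refine eq_one_of_sharp_finset hsharp (insert a (Finset.univ.image fun i => (x i : X))) ?_ ?_
  · rw [Finset.card_insert_of_notMem, Finset.card_image_of_injective _
      (fun i j e => x.injective (Subtype.ext e)), Finset.card_univ, Fintype.card_fin]
    intro h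
    obtain ⟨i, -, hi⟩ := Finset.mem_image.mp h
    exact (x i).2 hi
  · intro y hy
    rcases Finset.mem_insert.mp hy with rfl | h
    · exact g.2
    · obtain ⟨i, -, rfl⟩ := Finset.mem_image.mp h
      exact hx i

/-- The Sylow count for the impossible degrees 7 and 13. -/
theorem exists_sylow_normalizer_card [Finite G] [Finite X] [FaithfulSMul G X] [IsPretransitive G X]
    {p m : ℕ} [Fact p.Prime] (hX : Nat.card X = p) (hG : Nat.card G = p * m) :
    ∃ (P : Sylow p G) (d n : ℕ), d ∣ p - 1 ∧ n * d = m ∧ n % p = 1 ∧
      Nat.card (Subgroup.normalizer ((P : Subgroup G) : Set G)) = p * d := by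
  have hp := (Fact.out : p.Prime)
  obtain ⟨P⟩ : Nonempty (Sylow p G) := inferInstance
  obtain ⟨-, -, -, d, hd, hN⟩ := sylow_prime_degree hX P
  refine ⟨P, d, (Subgroup.normalizer ((P : Subgroup G) : Set G)).index, hd, ?_, ?_, hN⟩
  · have h := (Subgroup.normalizer ((P : Subgroup G) : Set G)).index_mul_card
    rw [hN, hG, ← mul_assoc, mul_comm _ p, mul_assoc] at h
    exact Nat.eq_of_mul_eq_mul_left hp.pos h
  · have h := card_sylow_modEq_one p G
    rw [Sylow.card_eq_index_normalizer P, Nat.ModEq, Nat.mod_eq_of_lt hp.one_lt] at h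
    exact h

theorem sharply_four_degree [Finite X] (h4 : IsMultiplyPretransitive G X 4)
    (hsharp : ∀ x : Fin 4 ↪ X, stabilizer G x = ⊥) (hX : 4 ≤ Nat.card X) :
    Nat.card X = 4 ∨ Nat.card X = 5 ∨ Nat.card X = 6 ∨ Nat.card X = 11 := by
  have hne : Nonempty (Fin 4 ↪ X) := by
    obtain ⟨e⟩ : Nonempty (Fin (Nat.card X) ≃ X) := ⟨(Finite.equivFin X).symm⟩
    exact ⟨(Fin.castLEEmb hX).trans e.toEmbedding⟩
  have h7 : Nat.card X ≠ 7 := by
    intro h7
    have := faithfulSMul_of_sharp hX hsharp
    have : Finite G := finite_of_faithful G X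
    have h2 : IsMultiplyPretransitive G X 2 :=
      isMultiplyPretransitive_of_le (n := 4) (by omega) hX
    have := isPreprimitive_of_is_two_pretransitive h2
    have : IsPretransitive G X := isPretransitive_of_is_two_pretransitive
    have hG := card_sharply_transitive hX h4 hsharp
    rw [h7] at hG
    have hG' : Nat.card G = 7 * 120 := by
      norm_num [Nat.factorial] at hG
      omega
    have : Fact (Nat.Prime 7) := ⟨by norm_num⟩
    obtain ⟨P, d, n, hd, hnd, hn, hN⟩ := exists_sylow_normalizer_card h7 hG'
    have hd6 : d ≤ 6 := Nat.le_of_dvd (by norm_num) hd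
    obtain rfl : d = 1 := by interval_cases d <;> omega
    obtain ⟨hPcard, -, hC, -⟩ := sylow_prime_degree h7 P
    have hNP : (P : Subgroup G) = Subgroup.normalizer ((P : Subgroup G) : Set G) :=
      Subgroup.eq_of_le_of_card_ge Subgroup.le_normalizer (by rw [hN, hPcard, mul_one])
    have hNC : Subgroup.normalizer ((P : Subgroup G) : Set G) ≤
        Subgroup.centralizer ((P : Subgroup G) : Set G) := by rw [hC, ← hNP]
    set M := (MonoidHom.transferSylow P hNC).ker
    have hcompl := MonoidHom.ker_transferSylow_isComplement' P hNC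
    have hMcard : Nat.card M = 120 := by
      have := hcompl.card_mul_card
      rw [hPcard, hG'] at this
      have h' : Nat.card M * 7 = 7 * 120 := this
      omega
    have hMne : M ≠ ⊥ := fun h => by rw [h, Subgroup.card_bot] at hMcard; omega
    have hMt := isPretransitive_of_normal_ne_bot (X := X) hMne
    obtain ⟨a⟩ : Nonempty X := (Nat.card_ne_zero.mp (by omega)).1
    have hdvd : 7 ∣ Nat.card M := by
      rw [← h7, ← index_stabilizer_of_transitive M a]
      exact (stabilizer M a).index_dvd_card
    omega
  obtain ⟨-, h | h⟩ := sharply_four_transitive_bound h4 hsharp hne <;> omega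

theorem sharply_five_degree [Finite X] (h5 : IsMultiplyPretransitive G X 5)
    (hsharp : ∀ x : Fin 5 ↪ X, stabilizer G x = ⊥) (hX : 5 ≤ Nat.card X) :
    Nat.card X = 5 ∨ Nat.card X = 6 ∨ Nat.card X = 7 ∨ Nat.card X = 12 := by
  obtain ⟨a⟩ : Nonempty X := (Nat.card_ne_zero.mp (by omega)).1
  have : IsPretransitive G X :=
    is_one_pretransitive_iff.mp (isMultiplyPretransitive_of_le (n := 5) (by omega) hX)
  have hc := SubMulAction.nat_card_ofStabilizer_eq G a
  have := sharply_four_degree (SubMulAction.ofStabilizer.isMultiplyPretransitive (a := a).mp h5)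
    (sharp_stabilizer hsharp a) (by omega)
  omega

theorem sharply_large_degree {G X : Type*} [Group G] [MulAction G X] [Finite X] {k : ℕ}
    (hk : 6 ≤ k) (hX : k ≤ Nat.card X) (h : IsMultiplyPretransitive G X k)
    (hsharp : ∀ x : Fin k ↪ X, stabilizer G x = ⊥) :
    Nat.card X = k ∨ Nat.card X = k + 1 ∨ Nat.card X = k + 2 := by
  obtain ⟨m, rfl⟩ : ∃ m, k = m + 6 := ⟨k - 6, by omega⟩
  induction m generalizing G X with
  | zero =>
    obtain ⟨a⟩ : Nonempty X := (Nat.card_ne_zero.mp (by omega)).1
    have : IsPretransitive G X :=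
      is_one_pretransitive_iff.mp (isMultiplyPretransitive_of_le (n := 6) (by omega) hX)
    have hc := SubMulAction.nat_card_ofStabilizer_eq G a
    have h5 := sharply_five_degree (SubMulAction.ofStabilizer.isMultiplyPretransitive (a := a).mp h)
      (sharp_stabilizer hsharp a) (by omega)
    have h13 : Nat.card X ≠ 13 := by
      intro h13
      have := faithfulSMul_of_sharp hX hsharp
      have : Finite G := finite_of_faithful G X
      have hG := card_sharply_transitive hX h hsharp
      rw [h13] at hG
      have hG' : Nat.card G = 13 * 95040 := by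
        norm_num [Nat.factorial] at hG
        omega
      have : Fact (Nat.Prime 13) := ⟨by norm_num⟩
      obtain ⟨P, d, n, hd, hnd, hn, -⟩ := exists_sylow_normalizer_card h13 hG'
      have hd12 : d ≤ 12 := Nat.le_of_dvd (by norm_num) hd
      interval_cases d <;> omega
    omega
  | succ m ih =>
    obtain ⟨a⟩ : Nonempty X := (Nat.card_ne_zero.mp (by omega)).1
    have : IsPretransitive G X :=
      is_one_pretransitive_iff.mp (isMultiplyPretransitive_of_le (n := m + 1 + 6) (by omega) hX)
    have hc := SubMulAction.nat_card_ofStabilizer_eq G a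
    have := ih (G := stabilizer G a) (X := SubMulAction.ofStabilizer G a) (by omega) (by omega)
      (SubMulAction.ofStabilizer.isMultiplyPretransitive (a := a).mp (by
        rw [show m + 1 + 6 = (m + 6).succ by omega] at h; exact h))
      (by
        apply sharp_stabilizer
        rw [show m + 6 + 1 = m + 1 + 6 by omega]
        exact hsharp)
    omega

end Cfsg.Agent.Perm
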