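/-
Burnside's theorem on minimal normal subgroups of 2-transitive groups.

* `burnside_minimal_normal`
-/
import Cfsg.Agent.Lib.Perm.NormalSubgroups

namespace Cfsg.Agent.Perm

open MulAction

open scoped Pointwise

variable {G : Type*} [Group G] {X : Type*} [MulAction G X]

theorem isBlock_smul_of_normal {N : Subgroup G} [hN : N.Normal] {B : Set X} (hB : IsBlock N B)
    (g : G) : IsBlock N (g • B) := by
  rw [isBlock_iff_smul_eq_or_disjoint] at hB ⊢
  intro n
  have hn : g⁻¹ * (n : G) * g ∈ N := by simpa using hN.conj_mem _ n.2 g⁻¹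
  have heq : n • g • B = g • ((⟨_, hn⟩ : N) • B) := by
    rw [Subgroup.smul_def, Subgroup.smul_def, smul_smul, smul_smul]
    congr 1
    group
  rcases hB ⟨_, hn⟩ with h | h
  · exact Or.inl (by rw [heq, h])
  · exact Or.inr (by rw [heq]; exact Set.disjoint_image_of_injective (MulAction.injective g) h)

/-- In a 2-transitive group, an imprimitive transitive normal subgroup has trivial two-point
stabilisers. -/
theorem two_point_trivial_of_imprimitive [Finite X] [FaithfulSMul G X]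
    (h2 : IsMultiplyPretransitive G X 2) {N : Subgroup G} [N.Normal] (ht : IsPretransitive N X)
    (hnp : ¬ IsPreprimitive N X) :
    ∀ g ∈ N, ∀ x y : X, x ≠ y → g • x = x → g • y = y → g = 1 := by
  obtain ⟨B, hB⟩ : ∃ B : Set X, IsBlock N B ∧ ¬ B.Subsingleton ∧ B ≠ Set.univ := by
    by_contra h
    push Not at h
    exact hnp ⟨fun {B} hB => B.subsingleton_or_nontrivial.imp id (h B hB)⟩
  obtain ⟨B, ⟨hBb, hB1, hB2⟩, hmin⟩ := Set.exists_min_image
    {B : Set X | IsBlock N B ∧ ¬ B.Subsingleton ∧ B ≠ Set.univ} Set.ncard (Set.toFinite _) ⟨B, hB⟩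
  have hblock : ∀ g : G, IsBlock N (g • B) := isBlock_smul_of_normal hBb
  have hcardB : ∀ g : G, (g • B).ncard = B.ncard := fun g =>
    Set.ncard_image_of_injective B (MulAction.injective g)
  have huniv : ∀ g : G, g • B ≠ Set.univ := fun g h => hB2 (by
    rw [← inv_smul_smul g B, h, Set.smul_set_univ])
  have huniq : ∀ g g' : G, ∀ x y : X, x ≠ y → x ∈ g • B → y ∈ g • B → x ∈ g' • B → y ∈ g' • B →
      g • B = g' • B := by
    intro g g' x y hxy h1 h2 h3 h4
    have hnt : ¬ (g • B ∩ g' • B).Subsingleton := fun h => hxy (h ⟨h1, h3⟩ ⟨h2, h4⟩)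
    have hne : g • B ∩ g' • B ≠ Set.univ := fun h =>
      huniv g (Set.eq_univ_of_univ_subset (h ▸ Set.inter_subset_left))
    have hle := hmin (g • B ∩ g' • B) ⟨(hblock g).inter (hblock g'), hnt, hne⟩
    have e1 : g • B ∩ g' • B = g • B :=
      Set.eq_of_subset_of_ncard_le Set.inter_subset_left (by rw [hcardB]; exact hle)
    have e2 : g • B ∩ g' • B = g' • B :=
      Set.eq_of_subset_of_ncard_le Set.inter_subset_right (by rw [hcardB]; exact hle)
    exact e1.symm.trans e2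
  have hline : ∀ x y : X, x ≠ y → ∃ g : G, x ∈ g • B ∧ y ∈ g • B := by
    intro x y hxy
    obtain ⟨u, hu, v, hv, huv⟩ := Set.not_subsingleton_iff.mp hB1
    obtain ⟨g, hgu, hgv⟩ := is_two_pretransitive_iff.mp h2 huv hxy
    exact ⟨g, hgu ▸ Set.smul_mem_smul_set hu, hgv ▸ Set.smul_mem_smul_set hv⟩
  intro g hg x y hxy hgx hgy
  have hinv : ∀ (h : G) (z : X), z ∈ h • B → g • z = z → ∀ w, w ∈ h • B → g • w ∈ h • B := by
    intro h z hz hgz w hw
    have := isBlock_iff_smul_eq_of_mem.mp (hblock h) (g := ⟨g, hg⟩) hz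
      (by rwa [Subgroup.smul_def, hgz])
    rw [← this]
    exact Set.smul_mem_smul_set hw
  obtain ⟨l, hxl, hyl⟩ := hline x y hxy
  have hout : ∀ c, c ∉ l • B → g • c = c := by
    intro c hc
    obtain ⟨m, hxm, hcm⟩ := hline x c (fun e => hc (e ▸ hxl))
    obtain ⟨m', hym, hcm'⟩ := hline y c (fun e => hc (e ▸ hyl))
    by_contra hne
    have e := huniq m m' _ _ hne (hinv m x hxm hgx c hcm) hcm (hinv m' y hym hgy c hcm') hcm'
    exact hc ((huniq l m x y hxy hxl hyl hxm (e ▸ hym)).symm ▸ hcm)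
  apply FaithfulSMul.eq_of_smul_eq_smul (α := X)
  intro d
  rw [one_smul]
  by_cases hd : d ∈ l • B
  · obtain ⟨c, hc⟩ := (Set.ne_univ_iff_exists_notMem _).mp (huniv l)
    obtain ⟨m, hcm, hdm⟩ := hline c d (fun e => hc (e ▸ hd))
    by_contra hne
    exact hc ((huniq l m _ _ hne (hinv l x hxl hgx d hd) hd
      (hinv m c hcm (hout c hc) d hdm) hdm).symm ▸ hcm)
  · exact hout d hd

theorem pow_smul_eq_pow_smul_of_commute {a : X} {c m : G} (hcm : Commute c m)
    (h : c • a = m • a) : ∀ k : ℕ, c ^ k • a = m ^ k • a := by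
  intro k
  induction k with
  | zero => rw [pow_zero, pow_zero]
  | succ k ih =>
    rw [pow_succ', mul_smul, ih, ← mul_smul, (hcm.pow_right k).eq, mul_smul, h, ← mul_smul,
      ← pow_succ]

/-- Burnside: a minimal normal subgroup of a finite 2-transitive group is elementary abelian and
regular, or simple and primitive. -/
theorem burnside_minimal_normal [Finite X] [FaithfulSMul G X]
    (h2 : IsMultiplyPretransitive G X 2) {N : Subgroup G} [N.Normal] (hN : N ≠ ⊥)
    (hmin : ∀ M : Subgroup G, M.Normal → M ≤ N → M = ⊥ ∨ M = N) :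
    (IsMulCommutative N ∧ (∃ p : ℕ, p.Prime ∧ ∀ n : N, n ^ p = 1) ∧
        ∀ a : X, stabilizer N a = ⊥) ∨
      (IsSimpleGroup N ∧ IsPreprimitive N X ∧ ∀ a : X, stabilizer N a ≠ ⊥) := by
  have : Finite G := finite_of_faithful G X
  have := isPreprimitive_of_is_two_pretransitive h2
  have hNt : IsPretransitive N X := isPretransitive_of_normal_ne_bot hN
  have hcard : 2 ≤ Nat.card X := by
    by_contra hlt
    have : Subsingleton X := Finite.card_le_one_iff_subsingleton.mp (by omega)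
    apply hN
    rw [Subgroup.eq_bot_iff_forall]
    exact fun n _ => FaithfulSMul.eq_of_smul_eq_smul (α := X) fun x => Subsingleton.elim _ _
  have hne : Nonempty X := (Nat.card_ne_zero.mp (by omega)).1
  obtain ⟨a⟩ := hne
  have hne : Nonempty X := ⟨a⟩
  by_cases hreg : stabilizer N a = ⊥
  · left
    have hreg' : ∀ x : X, stabilizer N x = ⊥ := fun x => by
      by_contra hx
      exact stabilizer_ne_bot_of_transitive hNt hx hreg
    obtain ⟨hc, hp⟩ := regular_normal_of_two_transitive h2 hNt hreg'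
    exact ⟨hc, hp, hreg'⟩
  right
  have hnr : ∀ x : X, stabilizer N x ≠ ⊥ := fun x => stabilizer_ne_bot_of_transitive hNt hreg
  have hprim : IsPreprimitive N X := by
    by_contra hnp
    obtain ⟨p, j, T, -, -, -, hTN, hTn, -, -, hTt, hTs, -⟩ :=
      exists_regular_of_frobenius_normal hcard h2 hNt (two_point_trivial_of_imprimitive h2 hNt hnp)
    rcases hmin T hTn hTN with h | h
    · have h' := card_eq_of_regular hTt hTs
      rw [h, Subgroup.card_bot] at h'
      omega
    · exact hreg (h ▸ hTs a)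
  refine ⟨?_, hprim, hnr⟩
  have : Nontrivial N := (Subgroup.nontrivial_iff_ne_bot N).mpr hN
  refine ⟨fun H hH => ?_⟩
  by_contra hcon
  push Not at hcon
  obtain ⟨hH1, hH2⟩ := hcon
  let Nn : Subgroup G → Prop := fun M => M ≠ ⊥ ∧ M ≤ N ∧ ∀ n ∈ N, ∀ m ∈ M, n * m * n⁻¹ ∈ M
  let K := H.map N.subtype
  have hK : Nn K ∧ K ≤ K := by
    refine ⟨⟨?_, Subgroup.map_subtype_le H, ?_⟩, le_rfl⟩
    · rw [ne_eq, Subgroup.map_eq_bot_iff_of_injective _ N.subtype_injective]
      exact hH1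
    · rintro n hn _ ⟨m, hm, rfl⟩
      exact ⟨⟨n, hn⟩ * m * ⟨n, hn⟩⁻¹, hH.conj_mem m hm _, rfl⟩
  obtain ⟨M, ⟨⟨hM1, hMN, hMc⟩, hMK⟩, hMmin⟩ := Set.exists_min_image
    {M : Subgroup G | Nn M ∧ M ≤ K} (fun M => Nat.card M) (Set.toFinite _) ⟨K, hK⟩
  have hMne : M ≠ N := by
    intro h
    apply hH2
    rw [eq_top_iff]
    intro n _
    obtain ⟨n', hn', e⟩ := hMK (h ▸ n.2 : (n : G) ∈ M)
    exact (Subtype.ext e : n' = n) ▸ hn'
  have hsub : ∀ L : Subgroup G, L ≤ M → L ≠ ⊥ → (∀ n ∈ N, ∀ m ∈ L, n * m * n⁻¹ ∈ L) → L = M :=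
    fun L hLM h1 h2 => Subgroup.eq_of_le_of_card_ge hLM
      (hMmin L ⟨⟨h1, hLM.trans hMN, h2⟩, hLM.trans hMK⟩)
  have htrans : ∀ L : Subgroup G, L ≠ ⊥ → L ≤ N → (∀ n ∈ N, ∀ m ∈ L, n * m * n⁻¹ ∈ L) →
      IsPretransitive L X := by
    intro L h1 h2 h3
    have : (L.subgroupOf N).Normal :=
      ⟨fun m hm n => Subgroup.mem_subgroupOf.mpr (h3 n n.2 m (Subgroup.mem_subgroupOf.mp hm))⟩
    have ht : IsPretransitive (L.subgroupOf N) X := isPretransitive_of_normal_ne_bot (by
      rw [ne_eq, Subgroup.subgroupOf_eq_bot, disjoint_iff, inf_eq_left.mpr h2]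
      exact h1)
    refine ⟨fun x y => ?_⟩
    obtain ⟨⟨m, hm⟩, h⟩ := exists_smul_eq (L.subgroupOf N) x y
    exact ⟨⟨m, Subgroup.mem_subgroupOf.mp hm⟩, h⟩
  obtain ⟨g₀, m₀, hm₀, hg₀⟩ : ∃ g : G, ∃ m ∈ M, g * m * g⁻¹ ∉ M := by
    by_contra h
    push Not at h
    exact (hmin M ⟨fun m hm g => h g m hm⟩ hMN).elim hM1 hMne
  let C : G → Subgroup G := fun g => M.map (MulAut.conj g).toMonoidHom
  have hCmem : ∀ g m, m ∈ M → g * m * g⁻¹ ∈ C g := fun g m hm => ⟨m, hm, rfl⟩
  have hCne : ∀ g, C g ≠ ⊥ := fun g => by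
    rw [ne_eq, Subgroup.map_eq_bot_iff_of_injective _ (MulEquiv.injective _)]
    exact hM1
  have hCN : ∀ g, C g ≤ N := by
    rintro g _ ⟨m, hm, rfl⟩
    exact Subgroup.Normal.conj_mem inferInstance m (hMN hm) g
  have hCc : ∀ g, ∀ n ∈ N, ∀ m ∈ C g, n * m * n⁻¹ ∈ C g := by
    rintro g n hn _ ⟨m, hm, rfl⟩
    have hn' : g⁻¹ * n * g ∈ N := by
      simpa using Subgroup.Normal.conj_mem inferInstance n hn g⁻¹
    have := hCmem g _ (hMc _ hn' m hm)
    convert this using 1
    simp only [MulEquiv.coe_toMonoidHom, MulAut.conj_apply]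
    group
  have hcomm : ∀ g, C g ≠ M → ∀ m ∈ M, ∀ c ∈ C g, Commute m c := by
    intro g hg m hm c hc
    have hI : M ⊓ C g = ⊥ := by
      by_contra hne'
      have hI := hsub (M ⊓ C g) inf_le_left hne'
        (fun n hn m hm => ⟨hMc n hn m hm.1, hCc g n hn m hm.2⟩)
      have hle : M ≤ C g := inf_eq_left.mp hI
      exact hg (Subgroup.eq_of_le_of_card_ge hle
        (Nat.card_congr (M.equivMapOfInjective _ (MulEquiv.injective _)).toEquiv).ge).symm
    have h1 : m * c * m⁻¹ * c⁻¹ ∈ M ⊓ C g := by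
      refine Subgroup.mem_inf.mpr ⟨?_, (C g).mul_mem (hCc g m (hMN hm) c hc) ((C g).inv_mem hc)⟩
      rw [show m * c * m⁻¹ * c⁻¹ = m * (c * m⁻¹ * c⁻¹) by group]
      exact mul_mem hm (hMc c (hCN g hc) _ (inv_mem hm))
    rw [hI, Subgroup.mem_bot] at h1
    have h2 := mul_inv_eq_one.mp h1
    exact (mul_inv_eq_iff_eq_mul.mp h2)
  have hg₀' : C g₀ ≠ M := fun h => hg₀ (h ▸ hCmem g₀ m₀ hm₀)
  have hMt := htrans M hM1 hMN hMc
  have hCt := htrans (C g₀) (hCne g₀) (hCN g₀) (hCc g₀)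
  have hMs : ∀ x : X, stabilizer M x = ⊥ :=
    stabilizer_eq_bot_of_commute_of_transitive hCt fun c hc m hm => (hcomm g₀ hg₀' m hm c hc).symm
  -- all non-identity elements of `M` have the same order
  have hord : ∀ m m' : M, m ≠ 1 → m' ≠ 1 → orderOf (m : G) = orderOf (m' : G) := by
    intro m m' hm hm'
    have hne' : ∀ k : M, k ≠ 1 → a ≠ (k : G) • a := fun k hk e => hk
      (eq_of_smul_eq_of_regular hMs (a := a) (by rw [one_smul]; exact e.symm))
    obtain ⟨g, hga, hgm⟩ := is_two_pretransitive_iff.mp h2 (hne' m hm) (hne' m' hm')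
    have e : (g * m * g⁻¹) • a = (m' : G) • a := by rw [conj_smul_of_fix _ hga, hgm]
    have ho : orderOf (g * m * g⁻¹) = orderOf (m : G) := (MulAut.conj g).orderOf_eq (m : G)
    rw [← ho]
    by_cases hg : C g = M
    · have hmem : g * m * g⁻¹ ∈ M := (SetLike.ext_iff.mp hg _).mp (hCmem g m m.2)
      have h' := eq_of_smul_eq_of_regular hMs (a := a)
        (show (⟨_, hmem⟩ : M) • a = m' • a from e)
      rw [show g * m * g⁻¹ = (m' : G) from congrArg Subtype.val h']
    · have hc := hCmem g m m.2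
      set c := g * (m : G) * g⁻¹
      have hcm : Commute c (m' : G) := (hcomm g hg m' m'.2 c hc).symm
      apply Nat.dvd_antisymm
      · apply orderOf_dvd_of_pow_eq_one
        -- `c ^ o` commutes with the transitive group `M` and fixes `a`
        apply FaithfulSMul.eq_of_smul_eq_smul (α := X)
        intro x
        obtain ⟨⟨k, hk⟩, rfl⟩ := exists_smul_eq M a x
        rw [one_smul, Subgroup.smul_def, ← mul_smul]
        simp only
        rw [← ((hcomm g hg k hk c hc).pow_right _).eq, mul_smul,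
          pow_smul_eq_pow_smul_of_commute hcm e, pow_orderOf_eq_one, one_smul]
      · apply orderOf_dvd_of_pow_eq_one
        have h1 : (m' ^ orderOf c) • a = (1 : M) • a := by
          rw [one_smul, Subgroup.smul_def, Subgroup.coe_pow,
            ← pow_smul_eq_pow_smul_of_commute hcm e, pow_orderOf_eq_one, one_smul]
        exact congrArg Subtype.val (eq_of_smul_eq_of_regular hMs h1)
  have : Nontrivial M := (Subgroup.nontrivial_iff_ne_bot M).mpr hM1
  obtain ⟨p, hp, hdvd⟩ := Nat.exists_prime_and_dvd (Nat.ne_of_gt (Finite.one_lt_card (α := M)))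
  have : Fact p.Prime := ⟨hp⟩
  obtain ⟨x, hx⟩ := exists_prime_orderOf_dvd_card' p hdvd
  have hx1 : x ≠ 1 := fun e => by
    rw [e, orderOf_one] at hx
    exact hp.one_lt.ne hx
  have hpg : IsPGroup p M := fun m => ⟨1, by
    by_cases hm : m = 1
    · rw [hm, one_pow]
    · rw [pow_one, ← hx, ← Subgroup.orderOf_coe x, hord x m hx1 hm, Subgroup.orderOf_coe,
        pow_orderOf_eq_one]⟩
  have := hpg.center_nontrivial
  obtain ⟨z, hz⟩ := exists_ne (1 : Subgroup.center M)
  let Z := M ⊓ Subgroup.centralizer (M : Set G)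
  have hZ : Z = M := by
    refine hsub Z inf_le_left ?_ ?_
    · intro h
      have hzZ : ((z : M) : G) ∈ Z := ⟨(z : M).2, Subgroup.mem_centralizer_iff.mpr fun k hk =>
        congrArg Subtype.val (Subgroup.mem_center_iff.mp z.2 ⟨k, hk⟩)⟩
      rw [h, Subgroup.mem_bot] at hzZ
      exact hz (Subtype.ext (Subtype.ext hzZ))
    · intro n hn k hk
      refine ⟨hMc n hn k hk.1, Subgroup.mem_centralizer_iff.mpr fun l hl => ?_⟩
      have hl' : n⁻¹ * l * n ∈ M := by simpa using hMc n⁻¹ (inv_mem hn) l hl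
      have := Subgroup.mem_centralizer_iff.mp hk.2 _ hl'
      calc l * (n * k * n⁻¹) = n * (n⁻¹ * l * n * k) * n⁻¹ := by group
        _ = n * (k * (n⁻¹ * l * n)) * n⁻¹ := by rw [this]
        _ = n * k * n⁻¹ * l := by group
  -- `C g₀` is contained in the abelian regular group `M`
  apply hg₀
  obtain ⟨k, hk⟩ := exists_smul_eq M a ((g₀ * m₀ * g₀⁻¹) • a)
  have hckey : g₀ * m₀ * g₀⁻¹ = (k : G) := by
    have hc := hCmem g₀ m₀ hm₀
    set c := g₀ * m₀ * g₀⁻¹
    apply FaithfulSMul.eq_of_smul_eq_smul (α := X)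
    intro y
    obtain ⟨⟨l, hl⟩, rfl⟩ := exists_smul_eq M a y
    rw [Subgroup.smul_def]
    simp only
    rw [← mul_smul]
    rw [← (hcomm g₀ hg₀' l hl c hc).eq, mul_smul, ← hk, Subgroup.smul_def, ← mul_smul,
      ← mul_smul]
    have := Subgroup.mem_centralizer_iff.mp (hZ.ge k.2).2 l hl
    rw [this]
  exact hckey ▸ k.2

end Cfsg.Agent.Perm
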