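/-
Generously `k`-transitive permutation groups.

* `generous_exists_agree` : any permutation is induced on any `k`-set
* `generous_fixing_orbit` : setwise and pointwise stabilisers of a `k`-set have the same orbits
-/
import Cfsg.Agent.Lib.Perm.Basic

namespace Cfsg.Agent.Perm

open MulAction

open scoped Pointwise

variable {α : Type*} [Fintype α] [DecidableEq α] {G : Subgroup (Equiv.Perm α)} {k : ℕ}

theorem generous_exists_agree_of_card_le (hk : k < Fintype.card α)
    (hgen : ∀ s : Finset α, s.card = k + 1 → ∀ σ : Equiv.Perm ↥s,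
      ∃ g ∈ G, ∀ x : ↥s, g (x : α) = σ x)
    (S : Finset α) (hS : S.card ≤ k + 1) (τ : Equiv.Perm α) (hτ : ∀ x, x ∉ S → τ x = x) :
    ∃ g ∈ G, ∀ x ∈ S, g x = τ x := by
  obtain ⟨T, hST, -, hT⟩ := Finset.exists_subsuperset_card_eq (n := k + 1) (Finset.subset_univ S) hS
    (by rw [Finset.card_univ]; omega)
  have hinv : ∀ x, τ x ∈ T ↔ x ∈ T := by
    intro x
    by_cases hx : x ∈ S
    · refine iff_of_true (hST ?_) (hST hx)
      by_contra h
      exact h (by rw [τ.injective (hτ _ h)]; exact hx)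
    · rw [hτ x hx]
  obtain ⟨g, hg, hgT⟩ := hgen T hT (τ.subtypePerm hinv)
  exact ⟨g, hg, fun x hx => hgT ⟨x, hST hx⟩⟩

theorem generous_exists_agree (hk : k < Fintype.card α)
    (hgen : ∀ s : Finset α, s.card = k + 1 → ∀ σ : Equiv.Perm ↥s,
      ∃ g ∈ G, ∀ x : ↥s, g (x : α) = σ x)
    (τ : Equiv.Perm α) (s : Finset α) (hs : s.card ≤ k) : ∃ g ∈ G, ∀ x ∈ s, g x = τ x := by
  induction τ using Equiv.Perm.swap_induction_on generalizing s with
  | one => exact ⟨1, G.one_mem, fun x _ => rfl⟩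
  | swap_mul f a b hab ih =>
    obtain ⟨g, hg, hgs⟩ := ih s hs
    by_cases hab' : a ∉ s.image f ∧ b ∉ s.image f
    · refine ⟨g, hg, fun x hx => ?_⟩
      have hfx : f x ∈ s.image f := Finset.mem_image_of_mem f hx
      rw [Equiv.Perm.mul_apply, hgs x hx, Equiv.swap_apply_of_ne_of_ne]
      · rintro rfl; exact hab'.1 hfx
      · rintro rfl; exact hab'.2 hfx
    have hcard : (s.image f ∪ {a, b}).card ≤ k + 1 := by
      have him : (s.image f).card ≤ k := Finset.card_image_le.trans hs
      have h1 : ∀ c ∈ s.image f, ∀ d, (s.image f ∪ {c, d}).card ≤ k + 1 := by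
        intro c hc d
        refine (Finset.card_le_card (t := insert d (s.image f)) ?_).trans
          ((Finset.card_insert_le _ _).trans (by omega))
        intro x hx
        simp only [Finset.mem_union, Finset.mem_insert, Finset.mem_singleton] at hx ⊢
        rcases hx with h | rfl | rfl
        · exact Or.inr h
        · exact Or.inr hc
        · exact Or.inl rfl
      rw [not_and_or, not_not, not_not] at hab'
      rcases hab' with h | h
      · exact h1 a h b
      · rw [Finset.pair_comm]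
        exact h1 b h a
    obtain ⟨h, hh, hhS⟩ := generous_exists_agree_of_card_le hk hgen _ hcard (Equiv.swap a b)
      (fun x hx => by
        simp only [Finset.mem_union, Finset.mem_insert, Finset.mem_singleton, not_or] at hx
        exact Equiv.swap_apply_of_ne_of_ne hx.2.1 hx.2.2)
    refine ⟨h * g, G.mul_mem hh hg, fun x hx => ?_⟩
    rw [Equiv.Perm.mul_apply, Equiv.Perm.mul_apply, hgs x hx,
      hhS _ (Finset.mem_union_left _ (Finset.mem_image_of_mem f hx))]

theorem generous_isMultiplyPretransitive (hk : k < Fintype.card α)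
    (hgen : ∀ s : Finset α, s.card = k + 1 → ∀ σ : Equiv.Perm ↥s,
      ∃ g ∈ G, ∀ x : ↥s, g (x : α) = σ x) :
    IsMultiplyPretransitive G α k := by
  refine ⟨fun u v => ?_⟩
  obtain ⟨τ, hτ⟩ := Equiv.Perm.exists_smul_eq_embedding u v
  obtain ⟨g, hg, hgs⟩ := generous_exists_agree hk hgen τ (Finset.univ.image u)
    (Finset.card_image_le.trans (by simp))
  refine ⟨⟨g, hg⟩, ?_⟩
  rw [← hτ]
  ext i
  exact hgs _ (Finset.mem_image_of_mem u (Finset.mem_univ i))

theorem generous_fixing_orbit (hk : k < Fintype.card α)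
    (hgen : ∀ s : Finset α, s.card = k + 1 → ∀ σ : Equiv.Perm ↥s,
      ∃ g ∈ G, ∀ x : ↥s, g (x : α) = σ x)
    (s : Finset α) (hs : s.card = k) (a b : α) (ha : a ∉ s) (hb : b ∉ s) (g : Equiv.Perm α)
    (hg : g ∈ G) (hgs : g • s = s) (hgab : g a = b) :
    ∃ g ∈ G, (∀ x ∈ s, g x = x) ∧ g a = b := by
  have hinv : ∀ x, g x ∈ s ↔ x ∈ s := by
    intro x
    conv_lhs => rw [← hgs]
    rw [← Equiv.Perm.smul_def, Finset.smul_mem_smul_finset_iff]
  let τ : Equiv.Perm α := Equiv.Perm.ofSubtype (g.subtypePerm hinv)⁻¹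
  have hτout : ∀ x, x ∉ s → τ x = x := fun x hx => Equiv.Perm.ofSubtype_apply_of_not_mem _ hx
  obtain ⟨h, hh, hhS⟩ := generous_exists_agree_of_card_le hk hgen (insert b s)
    (by rw [Finset.card_insert_of_notMem hb, hs]) τ
    (fun x hx => hτout x fun h => hx (Finset.mem_insert_of_mem h))
  refine ⟨h * g, G.mul_mem hh hg, fun x hx => ?_, ?_⟩
  · rw [Equiv.Perm.mul_apply, hhS _ (Finset.mem_insert_of_mem ((hinv x).mpr hx))]
    show Equiv.Perm.ofSubtype (g.subtypePerm hinv)⁻¹ (g x) = x
    rw [Equiv.Perm.ofSubtype_apply_of_mem _ ((hinv x).mpr hx)]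
    have : ((g.subtypePerm hinv)⁻¹ ((g.subtypePerm hinv) ⟨x, hx⟩) : α) = x := by
      rw [Equiv.Perm.inv_def, Equiv.symm_apply_apply]
    exact this
  · rw [Equiv.Perm.mul_apply, hgab, hhS b (Finset.mem_insert_self b s), hτout b hb]

end Cfsg.Agent.Perm
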