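/-
Lines on `ZMod p` invariant under the affine maps with square multiplier, `p = 2 m + 1`, `m` odd.

* `line_unique_third` : such a line has exactly three points, the third one a non-square
-/
import Cfsg.Agent.EqLemmas

namespace Cfsg.Agent.Perm.HalfNorm

theorem line_unique_third {p : ℕ} [Fact p.Prime] {m : ℕ} (hm : p = 2 * m + 1) (hodd : Odd m)
    (C : ZMod p → ZMod p → ZMod p → Prop)
    (hs1 : ∀ u v w, C u v w → C v u w) (hs2 : ∀ u v w, C u v w → C u w v)
    (hne : ∀ u v w, C u v w → u ≠ v ∧ u ≠ w ∧ v ≠ w)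
    (htr : ∀ u v x y, C u v x → C u v y → x ≠ y → C u x y)
    (hshift : ∀ d u v w, C u v w → C (u + d) (v + d) (w + d))
    (hmul : ∀ q u v w, q ^ m = 1 → C u v w → C (q * u) (q * v) (q * w))
    (hex : ∃ x, C 0 1 x) (hnot : ∃ y, y ≠ 0 ∧ y ≠ 1 ∧ ¬ C 0 1 y) :
    ∃ c : ZMod p, c ^ m = -1 ∧ ∀ x, C 0 1 x ↔ x = c := by
  classical
  have hp := (Fact.out : p.Prime)
  have hm0 : 0 < m := hodd.pos
  have h20 : (2 : ZMod p) ≠ 0 := by
    intro e
    have e' : ((2 : ℕ) : ZMod p) = 0 := by exact_mod_cast e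
    rw [ZMod.natCast_eq_zero_iff, Nat.prime_dvd_prime_iff_eq hp Nat.prime_two] at e'
    omega
  have h11 : (1 : ZMod p) ≠ -1 := fun e => h20 (by linear_combination e)
  have dich : ∀ x : ZMod p, x ≠ 0 → x ^ m = 1 ∨ x ^ m = -1 := fun x hx => by
    refine mul_self_eq_one_iff.mp ?_
    rw [← pow_add, show m + m = p - 1 by omega, ZMod.pow_card_sub_one_eq_one hx]
  have hneg : ∀ x : ZMod p, (-x) ^ m = -x ^ m := fun x => hodd.neg_pow x
  have x0 : ∀ x, C 0 1 x → x ≠ 0 := fun x hx => (hne _ _ _ hx).2.1.symm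
  have x1 : ∀ x, C 0 1 x → x ≠ 1 := fun x hx => (hne _ _ _ hx).2.2.symm
  -- some third point is a non-square
  obtain ⟨c, hc, hcm⟩ : ∃ c, C 0 1 c ∧ c ^ m = -1 := by
    by_contra hcon
    push Not at hcon
    have hQN : ∀ u v : ZMod p, u ^ m = 1 → v ^ m = -1 → ¬ C 0 u v := fun u v hu hv h => by
      have hu0 : u ≠ 0 := (hne _ _ _ h).1.symm
      have h' := hmul u⁻¹ _ _ _ (by rw [inv_pow, hu, inv_one]) h
      rw [mul_zero, inv_mul_cancel₀ hu0] at h'
      exact hcon _ h' (by rw [mul_pow, inv_pow, hu, hv, inv_one, one_mul])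
    obtain ⟨x, hx⟩ := hex
    have hxQ : x ^ m = 1 := (dich x (x0 x hx)).resolve_right (hcon x hx)
    have n1 : (-1 : ZMod p) ^ m = -1 := hodd.neg_one_pow
    have a1 : (x - 1) ^ m = -1 := (dich _ (sub_ne_zero.mpr (x1 x hx))).resolve_left fun e => by
      refine hQN _ _ e n1 ?_
      have h := hs2 _ _ _ (hs1 _ _ _ (hshift (-1) _ _ _ hx))
      simpa [sub_eq_add_neg] using h
    have a2 : (1 - x) ^ m = -1 := (dich _ (sub_ne_zero.mpr (x1 x hx).symm)).resolve_left fun e => by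
      refine hQN (1 - x) (-x) e (by rw [hneg, hxQ]) ?_
      have h := hs2 _ _ _ (hs1 _ _ _ (hs2 _ _ _ (hshift (-x) _ _ _ hx)))
      simpa [sub_eq_add_neg] using h
    rw [show 1 - x = -(x - 1) by ring, hneg, a1, neg_neg] at a2
    exact h11 a2
  have hc0 := x0 c hc
  set μ : ZMod p := -c⁻¹ with hμ
  have hμm : μ ^ m = 1 := by rw [hμ, hneg, inv_pow, hcm, inv_neg, inv_one, neg_neg]
  have hμc : μ * c = -1 := by rw [hμ, neg_mul, inv_mul_cancel₀ hc0]
  have hφ : ∀ w, C 0 1 w → w ≠ c → C 0 1 (μ * w + 1) := fun w hw hwc => by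
    have h := hshift 1 _ _ _ (hmul μ _ _ _ hμm (htr _ _ _ _ hc hw (Ne.symm hwc)))
    rw [hμc, mul_zero, zero_add, neg_add_cancel] at h
    exact hs1 _ _ _ h
  -- no third point is a square
  have hQ : ∀ x, C 0 1 x → x ^ m ≠ 1 := by
    intro x hx hxm
    let L : Finset (ZMod p) := Finset.univ.filter fun z => z = 0 ∨ z = 1 ∨ C 0 1 z
    have memL : ∀ z, z ∈ L ↔ z = 0 ∨ z = 1 ∨ C 0 1 z := fun z => by simp [L]
    have hψ : ∀ z ∈ L, x * z ∈ L := by
      intro z hz
      rw [memL] at hz ⊢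
      rcases hz with rfl | rfl | hz
      · simp
      · rw [mul_one]; exact Or.inr (Or.inr hx)
      · have h := hmul x _ _ _ hxm hz
        rw [mul_zero, mul_one] at h
        rcases eq_or_ne (x * z) 1 with e | e
        · exact Or.inr (Or.inl e)
        · exact Or.inr (Or.inr (htr _ _ _ _ (hs2 _ _ _ hx) h e.symm))
    have hφL : ∀ z ∈ L, μ * z + 1 ∈ L := by
      intro z hz
      rw [memL] at hz ⊢
      rcases hz with rfl | rfl | hz
      · simp
      · have h := hshift 1 _ _ _ (hmul μ _ _ _ hμm hc)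
        rw [mul_zero, zero_add, hμc, neg_add_cancel] at h
        exact Or.inr (Or.inr (hs1 _ _ _ (hs2 _ _ _ h)))
      · rcases eq_or_ne z c with rfl | e
        · rw [hμc, neg_add_cancel]; simp
        · exact Or.inr (Or.inr (hφ z hz e))
    have hμ0 : μ ≠ 0 := fun e => by rw [e, zero_pow hm0.ne'] at hμm; exact zero_ne_one hμm
    have sψ : L.image (fun z => x * z) = L := Finset.eq_of_subset_of_card_le
      (fun y hy => by obtain ⟨z, hz, rfl⟩ := Finset.mem_image.mp hy; exact hψ z hz)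
      (le_of_eq (Finset.card_image_of_injective _ (mul_right_injective₀ (x0 x hx))).symm)
    have sφ : L.image (fun z => μ * z + 1) = L := Finset.eq_of_subset_of_card_le
      (fun y hy => by obtain ⟨z, hz, rfl⟩ := Finset.mem_image.mp hy; exact hφL z hz)
      (le_of_eq (Finset.card_image_of_injective _ (fun u v e => mul_left_cancel₀ hμ0
        (add_right_cancel e))).symm)
    have hstep : ∀ w ∈ L, w + (x - 1) ∈ L := by
      intro w hw
      rw [← sφ] at hw
      obtain ⟨z, hz, rfl⟩ := Finset.mem_image.mp hw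
      rw [← sψ] at hz
      obtain ⟨y, hy, rfl⟩ := Finset.mem_image.mp hz
      have := hψ _ (hφL y hy)
      rwa [show μ * (x * y) + 1 + (x - 1) = x * (μ * y + 1) by ring]
    have hn : ∀ n : ℕ, (n : ZMod p) * (x - 1) ∈ L := fun n => by
      induction n with
      | zero => simp [memL]
      | succ n ih => rw [Nat.cast_succ, add_one_mul]; exact hstep _ ih
    obtain ⟨y, y0, y1, hy⟩ := hnot
    have h := hn (y * (x - 1)⁻¹).val
    rw [ZMod.natCast_zmod_val, mul_assoc, inv_mul_cancel₀ (sub_ne_zero.mpr (x1 x hx)), mul_one,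
      memL] at h
    tauto
  have hN : ∀ x, C 0 1 x → x ^ m = -1 := fun x hx => (dich x (x0 x hx)).resolve_left (hQ x hx)
  refine ⟨c, hcm, fun w => ⟨fun hw => ?_, fun e => e ▸ hc⟩⟩
  by_contra hwc
  have hw0 := x0 w hw
  have e1 := hN _ (hφ w hw hwc)
  have hν : (-w⁻¹) ^ m = 1 := by rw [hneg, inv_pow, hN w hw, inv_neg, inv_one, neg_neg]
  have h' := hshift 1 _ _ _ (hmul (-w⁻¹) _ _ _ hν (htr _ _ _ _ hw hc hwc))
  rw [neg_mul, neg_mul, mul_zero, inv_mul_cancel₀ hw0, neg_zero, zero_add, neg_add_cancel] at h'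
  have e2 := hN _ (hs1 _ _ _ h')
  have e : -w⁻¹ * c + 1 = -(w⁻¹ * c) * (μ * w + 1) := by
    rw [hμ, show -(w⁻¹ * c) * (-c⁻¹ * w + 1) = w⁻¹ * w * (c * c⁻¹) - w⁻¹ * c by ring,
      inv_mul_cancel₀ hw0, mul_inv_cancel₀ hc0]
    ring
  rw [e, mul_pow, e1, hneg, mul_pow, inv_pow, hN w hw, hcm, inv_neg, inv_one] at e2
  apply h11
  linear_combination e2

end Cfsg.Agent.Perm.HalfNorm
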