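/-
Triple systems with a group transitive on the points off each line.

* `pasch_or_three_dvd` : the three involutions attached to the points of a line multiply as a four
  group, or `3` divides the number of points off the line
-/
import Cfsg.Agent.EqLemmas

namespace Cfsg.Agent.Perm.HalfNorm

open MulAction

theorem pasch_or_three_dvd {G Ω : Type*} [Group G] [Finite G] [MulAction G Ω] [Finite Ω]
    (t : Ω → Ω → Ω) (hidem : ∀ x, t x x = x) (hcomm : ∀ x y, t x y = t y x)
    (hinv : ∀ x y, t x (t x y) = y) (hequiv : ∀ (g : G) x y, g • t x y = t (g • x) (g • y))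
    (a b : Ω) (hab : a ≠ b)
    (htr : ∀ x y, x ≠ a ∧ x ≠ b ∧ x ≠ t a b → y ≠ a ∧ y ≠ b ∧ y ≠ t a b →
      ∃ g : G, g • a = a ∧ g • b = b ∧ g • x = y) :
    (∀ x, x ≠ a ∧ x ≠ b ∧ x ≠ t a b → t a (t b x) = t (t a b) x) ∨
      3 ∣ Nat.card {x // x ≠ a ∧ x ≠ b ∧ x ≠ t a b} := by
  classical
  set c := t a b with hc
  have hinj : ∀ u x y, t u x = t u y → x = y := fun u x y h => by
    rw [← hinv u x, h, hinv]
  have hinj' : ∀ u v x, t u x = t v x → u = v := fun u v x h => by
    rw [hcomm u, hcomm v] at h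
    exact hinj x u v h
  have hfixed : ∀ u x, t u x = x → u = x := fun u x h => hinj' u x x (h.trans (hidem x).symm)
  have hac : a ≠ c := fun e => hab (by
    have := hinv a b
    rw [← hc, ← e, hidem] at this
    exact this)
  have hbc : b ≠ c := fun e => hab (hfixed a b (hc.symm.trans e.symm))
  have tab : t a b = c := rfl
  have tac : t a c = b := hinv a b
  have tbc : t b c = a := by rw [hc, hcomm a b, hinv]
  let R : Ω → Prop := fun x => x ≠ a ∧ x ≠ b ∧ x ≠ c
  -- the three involutions preserve the points off the line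
  have hR : ∀ w, w = a ∨ w = b ∨ w = c → ∀ x, R x → R (t w x) := by
    intro w hw x hx
    refine ⟨fun e => ?_, fun e => ?_, fun e => ?_⟩ <;> have e' := hinv w x <;> rw [e] at e' <;>
      rcases hw with rfl | rfl | rfl
    · exact hx.1 (e'.symm.trans (hidem _))
    · exact hx.2.2 (e'.symm.trans ((hcomm _ _).trans tab))
    · exact hx.2.1 (e'.symm.trans ((hcomm _ _).trans tac))
    · exact hx.2.2 (e'.symm.trans tab)
    · exact hx.2.1 (e'.symm.trans (hidem _))
    · exact hx.1 (e'.symm.trans ((hcomm _ _).trans tbc))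
    · exact hx.2.1 (e'.symm.trans tac)
    · exact hx.1 (e'.symm.trans tbc)
    · exact hx.2.2 (e'.symm.trans (hidem _))
  have hneR : ∀ w, w = a ∨ w = b ∨ w = c → ∀ x, R x → t w x ≠ x := by
    intro w hw x hx e
    rcases hw with rfl | rfl | rfl
    · exact hx.1 (hfixed _ _ e).symm
    · exact hx.2.1 (hfixed _ _ e).symm
    · exact hx.2.2 (hfixed _ _ e).symm
  let Com : (Ω → Ω) → Prop := fun f => ∀ g : G, g • a = a → g • b = b → ∀ x, g • f x = f (g • x)
  have hgc : ∀ g : G, g • a = a → g • b = b → g • c = c := fun g h1 h2 => by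
    rw [hc, hequiv, h1, h2]
  have hcom : ∀ w, w = a ∨ w = b ∨ w = c → Com (t w) := by
    intro w hw g h1 h2 x
    rw [hequiv]
    rcases hw with rfl | rfl | rfl <;> simp only [h1, h2, hgc g h1 h2]
  let K : Subgroup G := stabilizer G a ⊓ stabilizer G b
  -- a commuting involution is induced by an element of the pointwise stabiliser
  have key : ∀ f h : Ω → Ω, Com f → Com h → (∀ x, R x → R (f x)) →
      (∀ x, R x → R (h x)) → Function.Injective h → (∀ x, R x → f (f x) = x) →
      (∀ x, R x → f x ≠ x) →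
      ∀ d, R d → ∃ w, (w = a ∨ w = b ∨ w = c) ∧ ∀ x, R x → h (f x) = t w (h x) := by
    intro f h hf hh hfR hhR hhi hff hfne d hd
    obtain ⟨u, hua, hub, hud⟩ := htr d (f d) hd (hfR d hd)
    have hud2 : u • f d = d := by rw [hf u hua hub, hud, hff d hd]
    set w := t (h d) (h (f d)) with hw
    have huw : u • w = w := by
      rw [hw, hequiv, hh u hua hub, hh u hua hub, hud, hud2, hcomm]
    have hgw : ∀ g : G, g • a = a → g • b = b → g • d = d → g • w = w := fun g h1 h2 h3 => by
      rw [hw, hequiv, hh g h1 h2, hh g h1 h2, hf g h1 h2, h3]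
    have hwL : w = a ∨ w = b ∨ w = c := by
      by_contra hcon
      push Not at hcon
      have hcard : ∀ z, R z → Nat.card (stabilizer K z) * Nat.card {x // R x} = Nat.card K := by
        intro z hz
        have horb : orbit K z = {x | R x} := by
          ext y
          constructor
          · rintro ⟨⟨g, hg⟩, rfl⟩
            obtain ⟨hga, hgb⟩ := Subgroup.mem_inf.mp hg
            exact ⟨fun e => hz.1 (smul_left_cancel g (e.trans hga.symm)),
              fun e => hz.2.1 (smul_left_cancel g (e.trans hgb.symm)),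
              fun e => hz.2.2 (smul_left_cancel g (e.trans (hgc g hga hgb).symm))⟩
          · intro hy
            obtain ⟨g, h1, h2, h3⟩ := htr z y hz hy
            exact ⟨⟨g, Subgroup.mem_inf.mpr ⟨h1, h2⟩⟩, h3⟩
        rw [← (stabilizer K z).card_mul_index, index_stabilizer, horb, ← Nat.card_coe_set_eq]
        rfl
      have hle : stabilizer K d ≤ stabilizer K w := fun g hg =>
        hgw g (Subgroup.mem_inf.mp g.2).1 (Subgroup.mem_inf.mp g.2).2 hg
      have : Nonempty {x // R x} := ⟨⟨d, hd⟩⟩
      have heq := Subgroup.eq_of_le_of_card_ge hle (le_of_eq (Nat.eq_of_mul_eq_mul_right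
        Nat.card_pos ((hcard w hcon).trans (hcard d hd).symm)))
      have hu : (⟨u, Subgroup.mem_inf.mpr ⟨hua, hub⟩⟩ : K) ∈ stabilizer K w := huw
      rw [← heq] at hu
      exact hfne d hd (hud.symm.trans hu)
    refine ⟨w, hwL, fun x hx => ?_⟩
    obtain ⟨g, h1, h2, rfl⟩ := htr d x hd hx
    rw [← hf g h1 h2, ← hh g h1 h2, ← hh g h1 h2, ← hcom w hwL g h1 h2, hw, hcomm _ (h d), hinv]
  rcases isEmpty_or_nonempty {x // R x} with hemp | ⟨⟨d, hd⟩⟩
  · exact Or.inl fun x hx => (hemp.false ⟨x, hx⟩).elim
  have la : a = a ∨ a = b ∨ a = c := Or.inl rfl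
  have lb : b = a ∨ b = b ∨ b = c := Or.inr (Or.inl rfl)
  have lc : c = a ∨ c = b ∨ c = c := Or.inr (Or.inr rfl)
  have basic : ∀ u v, (u = a ∨ u = b ∨ u = c) → (v = a ∨ v = b ∨ v = c) → u ≠ v →
      ∃ w, (w = a ∨ w = b ∨ w = c) ∧ w ≠ v ∧ ∀ x, R x → t v (t u x) = t w (t v x) := by
    intro u v hu hv huv
    obtain ⟨w, hw, h⟩ := key (t u) (t v) (hcom u hu) (hcom v hv) (hR u hu) (hR v hv)
      (fun x y e => hinj v x y e) (fun x _ => hinv u x) (hneR u hu) d hd
    refine ⟨w, hw, fun e => ?_, h⟩
    have h' := h d hd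
    rw [e, hinv] at h'
    have h'' := congrArg (t v) h'
    rw [hinv] at h''
    exact huv (hinj' u v d h'')
  obtain ⟨w₁, hw₁, hw₁b, e₁⟩ := basic a b la lb hab
  obtain ⟨w₂, hw₂, hw₂a, e₂⟩ := basic b a lb la hab.symm
  by_cases hcm : ∀ x, R x → t a (t b x) = t b (t a x)
  · left
    obtain ⟨w, hw, h⟩ := key (fun x => t a (t b x)) id
      (fun g h1 h2 x => by rw [hcom a la g h1 h2, hcom b lb g h1 h2]) (fun g _ _ x => rfl)
      (fun x hx => hR a la _ (hR b lb x hx)) (fun x hx => hx) Function.injective_id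
      (fun x hx => by
        change t a (t b (t a (t b x))) = x
        rw [← hcm _ (hR b lb x hx), hinv, hinv])
      (fun x hx e => hab (hinj' b a x (by
        have e' := congrArg (t a) e
        rwa [hinv] at e')).symm) d hd
    simp only [id] at h
    intro x hx
    rcases hw with rfl | rfl | rfl
    · exact absurd (hinj _ _ _ (h d hd)) (hneR b lb d hd)
    · exact absurd ((h d hd)) (fun e => hneR a la _ (hR _ lb d hd) e)
    · exact h x hx
  · right
    have hw₁c : w₁ = c := by
      rcases hw₁ with rfl | rfl | rfl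
      · exact absurd (fun x hx => (e₁ x hx).symm) hcm
      · exact absurd rfl hw₁b
      · rfl
    have hw₂c : w₂ = c := by
      rcases hw₂ with rfl | rfl | rfl
      · exact absurd rfl hw₂a
      · exact absurd e₂ hcm
      · rfl
    rw [hw₁c] at e₁
    rw [hw₂c] at e₂
    -- the product of two of the involutions has order three and no fixed point
    let π : Equiv.Perm {x // R x} :=
      { toFun := fun x => ⟨t a (t b x), hR a la _ (hR b lb _ x.2)⟩
        invFun := fun x => ⟨t b (t a x), hR b lb _ (hR a la _ x.2)⟩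
        left_inv := fun x => Subtype.ext (by simp [hinv])
        right_inv := fun x => Subtype.ext (by simp [hinv]) }
    have h3 : π ^ 3 = 1 := Equiv.ext fun x => Subtype.ext (by
      change t a (t b (t a (t b (t a (t b (x : Ω)))))) = x
      have x1 : R (t b (x : Ω)) := hR b lb _ x.2
      have y1 : R (t a (t b (x : Ω))) := hR a la _ x1
      rw [e₁ _ (hR b lb _ y1 : R (t b (t a (t b (x : Ω)))))]
      rw [hinv b (t a (t b (x : Ω))), e₂ _ x.2, hinv, hinv])
    let : Fintype {x // R x} := Fintype.ofFinite _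
    have h0 : π.supportᶜ = ∅ := Finset.eq_empty_of_forall_notMem fun x hx => by
      rw [Finset.mem_compl, Equiv.Perm.notMem_support] at hx
      have e : t a (t b (x : Ω)) = x := congrArg Subtype.val hx
      have e' := congrArg (t a) e
      rw [hinv] at e'
      exact hab (hinj' b a x e').symm
    have hfact : Fact (Nat.Prime 3) := ⟨Nat.prime_three⟩
    have h := Equiv.Perm.card_compl_support_modEq (p := 3) (n := 1) (σ := π) (by rw [pow_one]; exact h3)
    rw [show π.supportᶜ = (∅ : Finset _) by convert h0, Finset.card_empty] at h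
    rw [Nat.card_eq_fintype_card]
    exact Nat.modEq_zero_iff_dvd.mp h.symm

end Cfsg.Agent.Perm.HalfNorm
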