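/-
Point stabilisers in prime degree `p ≡ 3 (mod 4)` with Sylow normaliser of order `p (p - 1) / 2`.

* `primitive_stabilizer` : for `p > 7` a point stabiliser is primitive on the other points
-/
import Cfsg.Agent.Lib.Perm.HalfNormLine
import Cfsg.Agent.Lib.Perm.HalfNormTriple

namespace Cfsg.Agent.Perm.HalfNorm

open MulAction

theorem primitive_stabilizer {G Ω : Type*} [Group G] [Finite G] [MulAction G Ω] [Finite Ω]
    {p : ℕ} [Fact p.Prime] (hΩ : Nat.card Ω = p)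
    (move : ∀ u v u' v' : Ω, u ≠ v → u' ≠ v' → ∃ g : G, g • u = u' ∧ g • v = v')
    (core : ∀ u v x y z : Ω, u ≠ v → x ≠ u ∧ x ≠ v → y ≠ u ∧ y ≠ v → z ≠ u ∧ z ≠ v →
      (∃ g : G, g • u = u ∧ g • v = v ∧ g • x = y) ∨ (∃ g : G, g • u = u ∧ g • v = v ∧ g • x = z) ∨
        ∃ g : G, g • u = u ∧ g • v = v ∧ g • y = z)
    (e : ZMod p ≃ Ω) (σ h : G) (a : ZMod p) (hσ : ∀ j, σ • e j = e (j + 1))
    (hh : ∀ j, h • e j = e (a * j)) {m : ℕ} (hm : p = 2 * m + 1) (hodd : Odd m)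
    (ha : orderOf a = m) (hp7 : 7 < p) (α : Ω) :
    IsPreprimitive (stabilizer G α) (SubMulAction.ofStabilizer G α) := by
  classical
  have hp := (Fact.out : p.Prime)
  let : Fintype Ω := Fintype.ofFinite Ω
  have : IsPretransitive (stabilizer G α) (SubMulAction.ofStabilizer G α) := ⟨fun x y => by
    obtain ⟨g, hg1, hg2⟩ := move α x α y (Ne.symm x.2) (Ne.symm y.2)
    exact ⟨⟨g, hg1⟩, Subtype.ext hg2⟩⟩
  refine ⟨fun {B} hB => ?_⟩
  by_contra htriv
  simp only [IsTrivialBlock, not_or, Set.not_subsingleton_iff] at htriv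
  obtain ⟨⟨⟨β, hβα⟩, hβB, ⟨γ, hγα⟩, hγB, hβγ⟩, hBu⟩ := htriv
  obtain ⟨⟨δ, hδα⟩, hδB⟩ := (Set.ne_univ_iff_exists_notMem B).mp hBu
  replace hβα : β ≠ α := hβα
  replace hγα : γ ≠ α := hγα
  replace hδα : δ ≠ α := hδα
  let inB : Ω → Prop := fun x => ∃ hx : x ≠ α, (⟨x, hx⟩ : SubMulAction.ofStabilizer G α) ∈ B
  have blk : ∀ g : G, g • α = α → ∀ x y, inB x → inB (g • x) → inB y → inB (g • y) := by
    rintro g hg x y ⟨hx, hxB⟩ ⟨hgx, hgxB⟩ ⟨hy, hyB⟩
    have hgB := hB.smul_eq_of_mem (g := (⟨g, hg⟩ : stabilizer G α)) hxB hgxB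
    refine ⟨fun e => hy (smul_left_cancel g (e.trans hg.symm)), ?_⟩
    rw [← hgB]
    exact ⟨_, hyB, rfl⟩
  have hBβ : inB β := ⟨hβα, hβB⟩
  let O1 : Ω → Prop := fun x => inB x ∧ x ≠ β
  let O2 : Ω → Prop := fun x => ¬ inB x ∧ x ≠ α
  have hO1γ : O1 γ := ⟨⟨hγα, hγB⟩, fun e => hβγ (Subtype.ext e.symm)⟩
  have hO2δ : O2 δ := ⟨fun ⟨_, hd⟩ => hδB hd, hδα⟩
  have o1ne : ∀ x, O1 x → x ≠ α ∧ x ≠ β := fun x hx => ⟨hx.1.1, hx.2⟩
  have o2ne : ∀ x, O2 x → x ≠ α ∧ x ≠ β := fun x hx => ⟨hx.2, fun e => hx.1 (e ▸ hBβ)⟩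
  have hK1 : ∀ g : G, g • α = α → g • β = β → ∀ x, O1 x → O1 (g • x) := fun g h1 h2 x hx =>
    ⟨blk g h1 β x hBβ (by rwa [h2]) hx.1,
      fun e => hx.2 (smul_left_cancel g (e.trans h2.symm))⟩
  have hfix : ∀ g : G, ∀ x : Ω, g • x = x → g⁻¹ • x = x := fun g x e =>
    inv_smul_eq_iff.mpr e.symm
  have hno : ∀ g : G, g • α = α → g • β = β → ∀ x y, O1 x → g • x = y → ¬ O2 y :=
    fun g h1 h2 x y hx hxy hy => hy.1 (hxy ▸ (hK1 g h1 h2 x hx).1)
  have orb1 : ∀ x y, O1 x → O1 y → ∃ g : G, g • α = α ∧ g • β = β ∧ g • x = y := fun x y hx hy => by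
    rcases core α β x y δ hβα.symm (o1ne x hx) (o1ne y hy) (o2ne δ hO2δ) with
      h' | ⟨g, h1, h2, h3⟩ | ⟨g, h1, h2, h3⟩
    · exact h'
    · exact absurd hO2δ (hno g h1 h2 x δ hx h3)
    · exact absurd hO2δ (hno g h1 h2 y δ hy h3)
  have orb2 : ∀ x y, O2 x → O2 y → ∃ g : G, g • α = α ∧ g • β = β ∧ g • x = y := fun x y hx hy => by
    rcases core α β x y γ hβα.symm (o2ne x hx) (o2ne y hy) (o1ne γ hO1γ) with
      h' | ⟨g, h1, h2, h3⟩ | ⟨g, h1, h2, h3⟩
    · exact h'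
    · exact absurd hx (hno g⁻¹ (hfix g _ h1) (hfix g _ h2) γ x hO1γ (inv_smul_eq_iff.mpr h3.symm))
    · exact absurd hy (hno g⁻¹ (hfix g _ h1) (hfix g _ h2) γ y hO1γ (inv_smul_eq_iff.mpr h3.symm))
  have hcase : ∀ x, x ≠ α → x ≠ β → O1 x ∨ O2 x := fun x h1 h2 => by
    by_cases h : inB x
    · exact Or.inl ⟨h, h2⟩
    · exact Or.inr ⟨h, h1⟩
  -- an element interchanging the two points preserves the block
  have swap : ∀ s : G, s • α = β → s • β = α → ∀ x, O1 x → O1 (s • x) := by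
    intro s hsα hsβ x hx
    have hne : ∀ y, y ≠ α → y ≠ β → s • y ≠ α ∧ s • y ≠ β := fun y h1 h2 =>
      ⟨fun e => h2 (smul_left_cancel s (e.trans hsβ.symm)),
        fun e => h1 (smul_left_cancel s (e.trans hsα.symm))⟩
    by_contra hcon
    have hsx : O2 (s • x) :=
      (hcase _ (hne x (o1ne x hx).1 (o1ne x hx).2).1 (hne x (o1ne x hx).1 (o1ne x hx).2).2).resolve_left hcon
    have s12 : ∀ y, O1 y → O2 (s • y) := fun y hy => by
      refine (hcase _ (hne y (o1ne y hy).1 (o1ne y hy).2).1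
        (hne y (o1ne y hy).1 (o1ne y hy).2).2).resolve_left fun hy' => ?_
      obtain ⟨k, h1, h2, rfl⟩ := orb1 x y hx hy
      refine hno (s * k⁻¹ * s⁻¹) ?_ ?_ (s • k • x) (s • x) hy' ?_ hsx
      · rw [mul_smul, mul_smul, inv_smul_eq_iff.mpr hsβ.symm, hfix k _ h2, hsβ]
      · rw [mul_smul, mul_smul, inv_smul_eq_iff.mpr hsα.symm, hfix k _ h1, hsα]
      · simp [mul_smul]
    have s21 : ∀ z, O2 z → O1 (s • z) := fun z hz => by
      refine (hcase _ (hne z (o2ne z hz).1 (o2ne z hz).2).1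
        (hne z (o2ne z hz).1 (o2ne z hz).2).2).resolve_right fun hz' => ?_
      obtain ⟨k, h1, h2, h3⟩ := orb2 _ _ hsx hz'
      refine hno (s⁻¹ * k * s) ?_ ?_ x z hx ?_ hz
      · rw [mul_smul, mul_smul, hsα, h2, inv_smul_eq_iff, hsα]
      · rw [mul_smul, mul_smul, hsβ, h1, inv_smul_eq_iff, hsβ]
      · rw [mul_smul, mul_smul, h3, inv_smul_smul]
    have l1 : (Finset.univ.filter O1).card ≤ (Finset.univ.filter O2).card :=
      Finset.card_le_card_of_injOn (fun y => s • y) (fun y hy => by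
        simp only [Finset.coe_filter, Finset.mem_univ, true_and, Set.mem_ofPred_eq] at hy ⊢
        exact s12 y hy) (MulAction.injective s).injOn
    have l2 : (Finset.univ.filter O2).card ≤ (Finset.univ.filter O1).card :=
      Finset.card_le_card_of_injOn (fun y => s • y) (fun y hy => by
        simp only [Finset.coe_filter, Finset.mem_univ, true_and, Set.mem_ofPred_eq] at hy ⊢
        exact s21 y hy) (MulAction.injective s).injOn
    have hdisj : Disjoint (Finset.univ.filter O1) (Finset.univ.filter O2) :=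
      Finset.disjoint_filter.mpr fun y _ h1 h2 => h2.1 h1.1
    have hsum : (Finset.univ.filter O1).card + (Finset.univ.filter O2).card = p - 2 := by
      rw [← Finset.card_union_of_disjoint hdisj,
        show Finset.univ.filter O1 ∪ Finset.univ.filter O2 = ({α, β} : Finset Ω)ᶜ from
          Finset.ext fun y => by
            simp only [Finset.mem_union, Finset.mem_filter, Finset.mem_univ, true_and,
              Finset.mem_compl, Finset.mem_insert, Finset.mem_singleton, not_or]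
            exact ⟨fun h => h.elim (o1ne y) (o2ne y), fun h => hcase y h.1 h.2⟩,
        Finset.card_compl, Finset.card_pair hβα.symm, ← Nat.card_eq_fintype_card, hΩ]
    omega
  -- the collinearity relation
  let Col : Ω → Ω → Ω → Prop := fun u v w => ∃ g : G, g • α = u ∧ g • β = v ∧ O1 (g⁻¹ • w)
  have colK : ∀ w, Col α β w → O1 w := fun w ⟨g, h1, h2, h3⟩ => by
    have := hK1 g h1 h2 _ h3
    rwa [smul_inv_smul] at this
  have colK' : ∀ w, O1 w → Col α β w := fun w hw => ⟨1, one_smul _ _, one_smul _ _, by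
    rwa [inv_one, one_smul]⟩
  have colmove : ∀ (k : G) u v w, Col u v w → Col (k • u) (k • v) (k • w) :=
    fun k u v w ⟨g, h1, h2, h3⟩ => ⟨k * g, by rw [mul_smul, h1], by rw [mul_smul, h2], by
      rwa [mul_inv_rev, mul_smul, inv_smul_smul]⟩
  have cs1 : ∀ u v w, Col u v w → Col v u w := fun u v w ⟨g, h1, h2, h3⟩ => by
    obtain ⟨s, hs1, hs2⟩ := move α β β α hβα.symm hβα
    refine ⟨g * s, by rw [mul_smul, hs1, h2], by rw [mul_smul, hs2, h1], ?_⟩
    rw [mul_inv_rev, mul_smul]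
    exact swap s⁻¹ (inv_smul_eq_iff.mpr hs2.symm) (inv_smul_eq_iff.mpr hs1.symm) _ h3
  have hpivot : ∀ x, O1 x → ∃ k : G, k • α = α ∧ k • β = x ∧ O1 (k⁻¹ • β) ∧
      ∀ y, O1 y → y ≠ x → O1 (k⁻¹ • y) := fun x hx => by
    obtain ⟨k, h1, h2⟩ := move α β α x hβα.symm (o1ne x hx).1.symm
    have hk : k⁻¹ • x = β := inv_smul_eq_iff.mpr h2.symm
    refine ⟨k, h1, h2, ⟨blk k⁻¹ (hfix k _ h1) x β hx.1 (hk.symm ▸ hBβ) hBβ, fun e => hx.2 ?_⟩,
      fun y hy hyx => ⟨blk k⁻¹ (hfix k _ h1) x y hx.1 (hk.symm ▸ hBβ) hy.1, fun e => hyx ?_⟩⟩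
    · rw [inv_smul_eq_iff, h2] at e
      exact e.symm
    · rw [inv_smul_eq_iff, h2] at e
      exact e
  have cs2 : ∀ u v w, Col u v w → Col u w v := fun u v w ⟨g, h1, h2, h3⟩ => by
    obtain ⟨k, k1, k2, k3, -⟩ := hpivot _ h3
    refine ⟨g * k, by rw [mul_smul, k1, h1], by rw [mul_smul, k2, smul_inv_smul], ?_⟩
    rwa [mul_inv_rev, mul_smul, inv_smul_eq_iff.mpr h2.symm]
  have cne : ∀ u v w, Col u v w → u ≠ v ∧ u ≠ w ∧ v ≠ w := fun u v w ⟨g, h1, h2, h3⟩ => by
    subst h1 h2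
    exact ⟨fun e => hβα (smul_left_cancel g e).symm,
      fun e => (o1ne _ h3).1 (by rw [← e, inv_smul_smul]),
      fun e => (o1ne _ h3).2 (by rw [← e, inv_smul_smul])⟩
  have ctr : ∀ u v x y, Col u v x → Col u v y → x ≠ y → Col u x y :=
    fun u v x y ⟨g, h1, h2, h3⟩ hy hxy => by
      obtain ⟨k, k1, k2, -, k4⟩ := hpivot _ h3
      have hy' := colmove g⁻¹ _ _ _ hy
      rw [inv_smul_eq_iff.mpr h1.symm, inv_smul_eq_iff.mpr h2.symm] at hy'
      refine ⟨g * k, by rw [mul_smul, k1, h1], by rw [mul_smul, k2, smul_inv_smul], ?_⟩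
      rw [mul_inv_rev, mul_smul]
      exact k4 _ (colK _ hy') fun e => hxy (smul_left_cancel g⁻¹ e).symm
  -- coordinates
  have hshiftn : ∀ (n : ℕ) j, σ ^ n • e j = e (j + n) := fun n => by
    induction n with
    | zero => intro j; simp
    | succ n ih => intro j; rw [pow_succ', mul_smul, ih, hσ, Nat.cast_succ, add_assoc]
  have hscalen : ∀ (n : ℕ) j, h ^ n • e j = e (a ^ n * j) := fun n => by
    induction n with
    | zero => intro j; simp
    | succ n ih => intro j; rw [pow_succ', mul_smul, ih, hh, ← mul_assoc, ← pow_succ']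
  have hm0 : 0 < m := hodd.pos
  have : NeZero m := ⟨hm0.ne'⟩
  have hroot : ∀ q : ZMod p, q ^ m = 1 → ∃ n : ℕ, a ^ n = q := fun q hq => by
    obtain ⟨n, -, hn⟩ := (ha ▸ IsPrimitiveRoot.orderOf a).eq_pow_of_pow_eq_one hq
    exact ⟨n, hn⟩
  obtain ⟨g₀, hg₀α, hg₀β⟩ := move α β (e 0) (e 1) hβα.symm (e.injective.ne zero_ne_one)
  obtain ⟨c, hcm, hc⟩ := line_unique_third hm hodd (fun u v w => Col (e u) (e v) (e w))
    (fun u v w => cs1 _ _ _) (fun u v w => cs2 _ _ _)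
    (fun u v w hC => ⟨fun e' => (cne _ _ _ hC).1 (congrArg e e'),
      fun e' => (cne _ _ _ hC).2.1 (congrArg e e'), fun e' => (cne _ _ _ hC).2.2 (congrArg e e')⟩)
    (fun u v x y h1 h2 hxy => ctr _ _ _ _ h1 h2 (e.injective.ne hxy))
    (fun d u v w hC => by
      have := colmove (σ ^ d.val) _ _ _ hC
      rwa [hshiftn, hshiftn, hshiftn, ZMod.natCast_zmod_val] at this)
    (fun q u v w hq hC => by
      obtain ⟨n, rfl⟩ := hroot q hq
      have := colmove (h ^ n) _ _ _ hC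
      rwa [hscalen, hscalen, hscalen] at this)
    ⟨e.symm (g₀ • γ), by
      have := colmove g₀ _ _ _ (colK' γ hO1γ)
      rwa [hg₀α, hg₀β, ← e.apply_symm_apply (g₀ • γ)] at this⟩
    ⟨e.symm (g₀ • δ), fun e' => hδα (smul_left_cancel g₀ (by
        rw [hg₀α, ← e', e.apply_symm_apply])),
      fun e' => (o2ne δ hO2δ).2 (smul_left_cancel g₀ (by rw [hg₀β, ← e', e.apply_symm_apply])),
      fun hC => by
        rw [e.apply_symm_apply] at hC
        have := colmove g₀⁻¹ _ _ _ hC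
        rw [inv_smul_eq_iff.mpr hg₀α.symm, inv_smul_eq_iff.mpr hg₀β.symm, inv_smul_smul] at this
        exact hO2δ.1 (colK _ this).1⟩
  have huniq : ∀ u v : Ω, u ≠ v → ∃ w, Col u v w ∧ ∀ w', Col u v w' → w' = w := fun u v huv => by
    obtain ⟨g, hg0, hg1⟩ := move (e 0) (e 1) u v (e.injective.ne zero_ne_one) huv
    refine ⟨g • e c, ?_, fun w' hw' => ?_⟩
    · rw [← hg0, ← hg1]
      exact colmove g _ _ _ ((hc c).mpr rfl)
    · have := colmove g⁻¹ _ _ _ hw'
      rw [inv_smul_eq_iff.mpr hg0.symm, inv_smul_eq_iff.mpr hg1.symm,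
        ← e.apply_symm_apply (g⁻¹ • w')] at this
      rw [← inv_smul_eq_iff, ← e.apply_symm_apply (g⁻¹ • w'), (hc _).mp this]
  choose third hthird hthird' using huniq
  let t : Ω → Ω → Ω := fun u v => if huv : u = v then u else third u v huv
  have tcol : ∀ u v, u ≠ v → Col u v (t u v) := fun u v huv => by
    simp only [t, dif_neg huv]
    exact hthird u v huv
  have tuniq : ∀ u v w, Col u v w → t u v = w := fun u v w hw => by
    simp only [t, dif_neg (cne _ _ _ hw).1]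
    exact (hthird' u v _ w hw).symm
  have tidem : ∀ u, t u u = u := fun u => dif_pos rfl
  have tcomm : ∀ u v, t u v = t v u := fun u v => by
    rcases eq_or_ne u v with rfl | huv
    · rfl
    · exact (tuniq _ _ _ (cs1 _ _ _ (tcol u v huv))).symm
  have tinv : ∀ u v, t u (t u v) = v := fun u v => by
    rcases eq_or_ne u v with rfl | huv
    · rw [tidem, tidem]
    · exact tuniq _ _ _ (cs2 _ _ _ (tcol u v huv))
  have tequiv : ∀ (g : G) u v, g • t u v = t (g • u) (g • v) := fun g u v => by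
    rcases eq_or_ne u v with rfl | huv
    · rw [tidem, tidem]
    · exact (tuniq _ _ _ (colmove g _ _ _ (tcol u v huv))).symm
  -- the numbers 9, 16 and 25 are squares
  have hnz : ∀ n : ℕ, 0 < n → n < 8 → (n : ZMod p) ≠ 0 := fun n h1 h2 e' => by
    rw [ZMod.natCast_eq_zero_iff] at e'
    have := Nat.le_of_dvd h1 e'
    omega
  have hsq : ∀ n : ℕ, 0 < n → n < 8 → ((n : ZMod p) * n) ^ m = 1 := fun n h1 h2 => by
    rw [← pow_two, ← pow_mul, show 2 * m = p - 1 by omega, ZMod.pow_card_sub_one_eq_one (hnz n h1 h2)]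
  obtain ⟨k, hkdef⟩ : ∃ k : ZMod p, k = ((3 : ℕ) : ZMod p) * (3 : ℕ) := ⟨_, rfl⟩
  obtain ⟨l, hldef⟩ : ∃ l : ZMod p, l = ((4 : ℕ) : ZMod p) * (4 : ℕ) := ⟨_, rfl⟩
  have hkl : k + l = ((5 : ℕ) : ZMod p) * (5 : ℕ) := by
    subst hkdef hldef
    push_cast
    ring
  have hkne : k ≠ l := fun e' => hnz 7 (by omega) (by omega) (by
    subst hkdef hldef
    push_cast at e' ⊢
    linear_combination -e')
  have hk : k ^ m = 1 := hkdef ▸ hsq 3 (by omega) (by omega)
  have hl : l ^ m = 1 := hldef ▸ hsq 4 (by omega) (by omega)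
  have hkl' : (k + l) ^ m = 1 := hkl ▸ hsq 5 (by omega) (by omega)
  have hsq0 : ∀ q : ZMod p, q ^ m = 1 → q ≠ 0 := fun q hq e' => by
    rw [e', zero_pow hm0.ne'] at hq
    exact zero_ne_one hq
  have h11 : (1 : ZMod p) ≠ -1 := fun e' => hnz 2 (by omega) (by omega) (by
    push_cast
    linear_combination e')
  have hc1 : c ≠ 1 := fun e' => h11 (by rw [← hcm, e', one_pow])
  have thrd : ∀ d q : ZMod p, q ^ m = 1 → t (e d) (e (d + q)) = e (d + c * q) := fun d q hq => by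
    obtain ⟨n, rfl⟩ := hroot q hq
    have h0 := colmove (σ ^ d.val * h ^ n) _ _ _ ((hc c).mpr rfl)
    simp only [mul_smul, hscalen, hshiftn, ZMod.natCast_zmod_val, mul_zero, mul_one] at h0
    rw [zero_add, add_comm _ d, mul_comm _ c, add_comm _ d] at h0
    exact tuniq _ _ _ h0
  -- apply the triple system lemma on the line through `0` and `k + l`
  have hA : e 0 ≠ e (k + l) := e.injective.ne (hsq0 _ hkl').symm
  have hZ : t (e 0) (e (k + l)) = e (c * (k + l)) := by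
    have := thrd 0 _ hkl'
    rwa [zero_add, zero_add] at this
  have hoff : ∀ x y, x ≠ e 0 ∧ x ≠ e (k + l) ∧ x ≠ t (e 0) (e (k + l)) →
      y ≠ e 0 ∧ y ≠ e (k + l) ∧ y ≠ t (e 0) (e (k + l)) →
      ∃ g : G, g • e 0 = e 0 ∧ g • e (k + l) = e (k + l) ∧ g • x = y := by
    intro x y hx hy
    set z := t (e 0) (e (k + l))
    have hz := cne _ _ _ (tcol _ _ hA)
    rcases core (e 0) (e (k + l)) x y z hA ⟨hx.1, hx.2.1⟩ ⟨hy.1, hy.2.1⟩
        ⟨hz.2.1.symm, hz.2.2.symm⟩ with h' | ⟨g, g1, g2, g3⟩ | ⟨g, g1, g2, g3⟩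
    · exact h'
    · exact absurd (smul_left_cancel g (g3.trans (by rw [tequiv, g1, g2]))) hx.2.2
    · exact absurd (smul_left_cancel g (g3.trans (by rw [tequiv, g1, g2]))) hy.2.2
  rcases pasch_or_three_dvd t tidem tcomm tinv tequiv (e 0) (e (k + l)) hA hoff with hP | h3
  · have hX : t (e 0) (e l) = e (c * l) := by
      have := thrd 0 _ hl
      rwa [zero_add, zero_add] at this
    have hY : t (e k) (e (k + l)) = e (k + c * l) := thrd k _ hl
    have hXY : t (e (c * l)) (e (k + c * l)) = e (c * (k + l)) := by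
      rw [add_comm k, thrd _ _ hk, show c * l + c * k = c * (k + l) by ring]
    rw [hZ] at hP
    have y0 : e (k + c * l) ≠ e 0 := fun e' => by
      rw [e', tcomm, ← hX, tinv] at hXY
      have := congrArg (· ^ m) (e.injective hXY)
      simp only [mul_pow, hl, hcm, hkl', mul_one] at this
      exact h11 this
    have y1 : e (k + c * l) ≠ e (k + l) := fun e' =>
      hc1 (mul_right_cancel₀ (hsq0 l hl) ((add_left_cancel (e.injective e')).trans (one_mul l).symm))
    have y2 : e (k + c * l) ≠ e (c * (k + l)) := fun e' => by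
      have e'' := e.injective e'
      rw [mul_add] at e''
      exact hc1 (mul_right_cancel₀ (hsq0 k hk)
        ((add_right_cancel e'').symm.trans (one_mul k).symm))
    have := hP _ ⟨y0, y1, y2⟩
    rw [← hY, tcomm (e k), tinv, tcomm (e (k + l)), hY, ← hXY, tcomm (e (c * l)),
      tcomm (t (e (k + c * l)) (e (c * l))), tinv, ← hX] at this
    have := congrArg (t (e 0)) this
    rw [tinv, tinv] at this
    exact hkne (e.injective this)
  · rw [Nat.card_eq_fintype_card, Fintype.card_subtype,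
      show (Finset.univ.filter fun x => x ≠ e 0 ∧ x ≠ e (k + l) ∧ x ≠ t (e 0) (e (k + l))) =
        ({e 0, e (k + l), t (e 0) (e (k + l))} : Finset Ω)ᶜ from Finset.ext fun x => by simp,
      Finset.card_compl, Finset.card_eq_three.mpr ⟨_, _, _, (cne _ _ _ (tcol _ _ hA)).1,
        (cne _ _ _ (tcol _ _ hA)).2.1, (cne _ _ _ (tcol _ _ hA)).2.2, rfl⟩,
      ← Nat.card_eq_fintype_card, hΩ] at h3
    have : 3 ∣ p := by omega
    rw [Nat.prime_dvd_prime_iff_eq Nat.prime_three hp] at this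
    omega

end Cfsg.Agent.Perm.HalfNorm
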