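/-
Quintuply transitive groups of degree `2 r + 3` or `3 r + 4`, `r` prime.

* `isThreeCycle_of_overlap` : the commutator of two permutations with one common moved point
* `alternating_le_of_small_support` : Jordan's lemma for a small support
* `alternating_le_of_five` : such a group contains the alternating group
-/
import Cfsg.Agent.EqLemmas
import Mathlib.GroupTheory.GroupAction.Jordan
import Mathlib.GroupTheory.Perm.Cycle.Type
import Mathlib.GroupTheory.Sylow

namespace Cfsg.Agent.Perm.HalfNorm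

open MulAction Equiv
open scoped commutatorElement

variable {α : Type*} [Fintype α] [DecidableEq α]

theorem isThreeCycle_of_overlap (u v : Perm α) (a : α) (hu : u a ≠ a) (hv : v a ≠ a)
    (h : ∀ x, u x ≠ x → v x ≠ x → x = a) : Perm.IsThreeCycle ⁅u, v⁆ := by
  have hue : ∀ y, y ≠ a → v y ≠ y → u y = y := fun y h1 h2 => by
    by_contra h3
    exact h1 (h y h3 h2)
  have hua : v (u a) = u a := by
    by_contra h1
    exact hu (h (u a) (fun e => hu (u.injective e)) h1)
  have hva : u (v a) = v a := hue _ hv fun e => hv (v.injective e)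
  have huva : u a ≠ v a := fun e => by
    rw [← e] at hva
    exact hu (u.injective hva)
  have hsub : ⁅u, v⁆.support ⊆ {a, u a, v a} := fun x hx => by
    by_contra hxs
    simp only [Finset.mem_insert, Finset.mem_singleton, not_or] at hxs
    apply Perm.mem_support.mp hx
    obtain ⟨hxa, hxu, hxv⟩ := hxs
    obtain ⟨y, rfl⟩ := v.surjective x
    rw [commutatorElement_def, Perm.mul_apply, Perm.mul_apply, Perm.mul_apply,
      show v⁻¹ (v y) = y from v.symm_apply_apply y]
    by_cases hy : v y = y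
    · rw [hy] at hxa hxu hxv ⊢
      obtain ⟨z, rfl⟩ := u.surjective y
      rw [show u⁻¹ (u z) = z from u.symm_apply_apply z]
      have hza : z ≠ a := fun e => hxu (congrArg u e)
      by_cases hz : v z = z
      · rw [hz]
      · have e := hue z hza hz
        rw [e] at hy
        exact absurd hy hz
    · have hya : y ≠ a := fun e => hxv (congrArg v e)
      rw [show u⁻¹ y = y from (Perm.inv_eq_iff_eq).mpr (hue y hya hy).symm]
      exact hue _ hxa fun e => hy (v.injective e)
  have hne : ⁅u, v⁆ (v a) ≠ v a := by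
    rw [commutatorElement_def, Perm.mul_apply, Perm.mul_apply, Perm.mul_apply,
      show v⁻¹ (v a) = a from v.symm_apply_apply a]
    intro e
    have e1 : v (u⁻¹ a) = v a := u.injective (e.trans hva.symm)
    have e2 : u⁻¹ a = a := v.injective e1
    exact hu ((Perm.inv_eq_iff_eq).mp e2).symm
  rw [← card_support_eq_three_iff]
  have h3 : ⁅u, v⁆.support.card ≤ 3 := (Finset.card_le_card hsub).trans Finset.card_le_three
  have h1 : ⁅u, v⁆ ≠ 1 := fun e => hne (by rw [e, Perm.one_apply])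
  have h2 := Perm.two_le_card_support_of_ne_one h1
  rcases Nat.lt_or_ge ⁅u, v⁆.support.card 3 with hlt | hge
  · exfalso
    have hc2 : ⁅u, v⁆.support.card = 2 := by omega
    have hsw := (Perm.card_support_eq_two.mp hc2).sign_eq
    rw [commutatorElement_def, map_mul, map_mul, map_mul, Perm.sign_inv, Perm.sign_inv,
      mul_right_comm (Perm.sign u), ← pow_two, Int.units_sq, one_mul, ← pow_two, Int.units_sq] at hsw
    exact absurd hsw (by decide)
  · omega

/-- A sufficiently transitive primitive group with an element of small support contains the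
alternating group. -/
theorem alternating_le_of_small_support (G : Subgroup (Perm α)) (hprim : IsPreprimitive G α)
    (w : Perm α) (hwG : w ∈ G) (hw : w ≠ 1) (hk : IsMultiplyPretransitive G α w.support.card)
    (hn : 2 * w.support.card ≤ Fintype.card α + 1) : alternatingGroup α ≤ G := by
  classical
  obtain ⟨a, ha⟩ : w.support.Nonempty := Finset.nonempty_iff_ne_empty.mpr fun e =>
    hw (Perm.support_eq_empty_iff.mp e)
  -- a target set meeting the support only in `a`
  obtain ⟨B, hB, hBcard⟩ := Finset.exists_subset_card_eq (s := w.supportᶜ)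
    (n := w.support.card - 1) (by rw [Finset.card_compl]; omega)
  have haB : a ∉ B := fun h => Finset.mem_compl.mp (hB h) ha
  have hcard : (insert a B).card = w.support.card := by
    rw [Finset.card_insert_of_notMem haB, hBcard]
    have := Finset.card_pos.mpr ⟨a, ha⟩
    omega
  let e1 : Fin w.support.card ≃ w.support := w.support.equivFin.symm
  let e2 : w.support ≃ (insert a B : Finset α) :=
    (w.support.equivFin.trans (finCongr hcard.symm)).trans (insert a B).equivFin.symm
  let e3 : Equiv.Perm (insert a B : Finset α) :=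
    Equiv.swap (e2 ⟨a, ha⟩) ⟨a, Finset.mem_insert_self _ _⟩
  obtain ⟨⟨g, hg⟩, hgx⟩ := hk.exists_smul_eq
    (e1.toEmbedding.trans (Function.Embedding.subtype _))
    ((e1.trans (e2.trans e3)).toEmbedding.trans (Function.Embedding.subtype _))
  have himg : ∀ x (hx : x ∈ w.support), g x = (e3 (e2 ⟨x, hx⟩) : α) := fun x hx => by
    have h := congrArg (fun f => f (e1.symm ⟨x, hx⟩)) hgx
    simp only [Function.Embedding.trans_apply, Equiv.coe_toEmbedding, Equiv.trans_apply,
      Function.Embedding.coe_subtype] at h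
    simpa using h
  have hga : g a = a := by rw [himg a ha]; simp [e3]
  have hconj : g * w * g⁻¹ ∈ G := mul_mem (mul_mem hg hwG) (inv_mem hg)
  refine Equiv.Perm.alternatingGroup_le_of_isPreprimitive_of_isThreeCycle_mem hprim
    (isThreeCycle_of_overlap w (g * w * g⁻¹) a (Perm.mem_support.mp ha) ?_ fun x hx hx' => ?_)
    (mul_mem (mul_mem (mul_mem hwG hconj) (inv_mem hwG)) (inv_mem hconj))
  · rw [Perm.mul_apply, Perm.mul_apply, show g⁻¹ a = a from (Perm.inv_eq_iff_eq).mpr hga.symm]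
    intro e
    exact Perm.mem_support.mp ha (g.injective (e.trans hga.symm))
  · obtain ⟨y, rfl⟩ := g.surjective x
    rw [Perm.mul_apply, Perm.mul_apply, show g⁻¹ (g y) = y from g.symm_apply_apply y] at hx'
    have hy : y ∈ w.support := Perm.mem_support.mpr fun e => hx' (congrArg g e)
    rw [himg y hy] at hx ⊢
    rcases Finset.mem_insert.mp (e3 (e2 ⟨y, hy⟩)).2 with h | h
    · exact h
    · exact absurd (Perm.mem_support.mpr hx) (Finset.mem_compl.mp (hB h))

/-- An element of prime order moving exactly `r` points forces the alternating group. -/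
theorem alternating_le_of_prime_support (G : Subgroup (Perm α)) (hprim : IsPreprimitive G α)
    {r : ℕ} (hr : r.Prime) (u : Perm α) (huG : u ∈ G) (hu : orderOf u = r)
    (hsupp : u.support.card = r) (hn : r + 3 ≤ Fintype.card α) (hn' : 2 * r ≤ Fintype.card α + 1) :
    alternatingGroup α ≤ G := by
  classical
  have hu1 : u ≠ 1 := fun e => hr.ne_one (by rw [← hu, e, orderOf_one])
  have : Fact r.Prime := ⟨hr⟩
  have hcyc : u.IsCycle := Perm.isCycle_of_prime_order (hu.symm ▸ hr) (by rw [hu, hsupp]; have := hr.pos; omega)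
  set s : Set α := ((u.support : Set α))ᶜ with hs
  have htr : IsPretransitive (fixingSubgroup G s) (SubMulAction.ofFixingSubgroup G s) := by
    refine ⟨fun x y => ?_⟩
    have hx : (x : α) ∈ u.support := not_not.mp x.2
    have hy : (y : α) ∈ u.support := not_not.mp y.2
    obtain ⟨i, hi⟩ := hcyc.exists_zpow_eq (Perm.mem_support.mp hx) (Perm.mem_support.mp hy)
    refine ⟨⟨⟨u ^ i, zpow_mem huG i⟩, ?_⟩, Subtype.ext hi⟩
    rw [mem_fixingSubgroup_iff]
    intro z hz
    exact Perm.zpow_apply_eq_self_of_apply_eq_self (Perm.notMem_support.mp hz) i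
  have hprim' : IsPreprimitive (fixingSubgroup G s) (SubMulAction.ofFixingSubgroup G s) := by
    refine IsPreprimitive.of_prime_card ?_
    have e : Nat.card (SubMulAction.ofFixingSubgroup G s) = r := by
      rw [show Nat.card (SubMulAction.ofFixingSubgroup G s) = Nat.card {x : α // x ∈ u.support} from
        Nat.card_congr (Equiv.subtypeEquivRight fun x => not_not), Nat.card_eq_fintype_card,
        Fintype.card_coe, hsupp]
    rw [e]
    exact hr
  have hsn : s.ncard = Fintype.card α - r := by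
    rw [hs, ← Finset.coe_compl, Set.ncard_coe_finset, Finset.card_compl, hsupp]
  obtain ⟨n, hn1⟩ : ∃ n, s.ncard = n + 1 := ⟨Fintype.card α - r - 1, by rw [hsn]; omega⟩
  have hmulti := IsPreprimitive.isMultiplyPreprimitive hprim (s := s) hn1
    (by rw [Nat.card_eq_fintype_card]; have := hr.two_le; omega) hprim'
  have htr' : IsMultiplyPretransitive G α (n + 2) := hmulti.isMultiplyPretransitive
  refine alternating_le_of_small_support G hprim u huG hu1 ?_ (by omega)
  rw [hsupp]
  exact isMultiplyPretransitive_of_le (G := G) (α := α) (m := r) (n := n + 2) (by omega)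
    (by rw [Nat.card_eq_fintype_card]; have := hr.two_le; omega)

omit [Fintype α] [DecidableEq α] in
/-- The powers below a prime `r` of an element of order `r` separate a moved point. -/
theorem pow_apply_injective {r : ℕ} [Fact r.Prime] (y : Perm α) (w : α) (hy : y ^ r = 1)
    (hyw : y w ≠ w) : Function.Injective fun i : Fin r => (y ^ (i : ℕ)) w := by
  have hr := (Fact.out : r.Prime)
  have hy1 : y ≠ 1 := fun e => hyw (by rw [e]; rfl)
  have key : ∀ i j : Fin r, (i : ℕ) < j → (y ^ (i : ℕ)) w ≠ (y ^ (j : ℕ)) w := by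
    intro i j hlt e
    obtain ⟨n, hn⟩ := Nat.exists_eq_add_of_le hlt.le
    rw [hn, pow_add, Perm.mul_apply] at e
    have e' : (y ^ n) w = w := ((y ^ (i : ℕ)).injective e).symm
    have hn0 : 0 < n ∧ n < r := ⟨by omega, by have := j.2; omega⟩
    obtain ⟨a, ha⟩ := exists_pow_eq_self_of_coprime (x := y) (n := n) (by
      rw [orderOf_eq_prime hy hy1]
      exact (hr.coprime_iff_not_dvd.mpr fun h => by
        have := Nat.le_of_dvd hn0.1 h; omega).symm)
    exact hyw (by
      conv_lhs => rw [← ha]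
      exact Perm.pow_apply_eq_self_of_apply_eq_self e' a)
  intro i j e
  by_contra hij
  rcases lt_or_gt_of_ne (Fin.val_ne_of_ne hij) with hlt | hlt
  · exact key i j hlt e
  · exact key j i hlt e.symm

omit [Fintype α] [DecidableEq α] in
/-- A permutation commuting with an element of prime order and moving a point along its orbit has
its `r`-th power fixing that point. -/
theorem pow_prime_fix {r : ℕ} (g z : Perm α) (hg : g ^ r = 1) (hzg : Commute z g) (d : α) (i : ℕ)
    (h : z d = (g ^ i) d) : (z ^ r) d = d := by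
  have key : ∀ n : ℕ, (z ^ n) d = (g ^ (i * n)) d := fun n => by
    induction n with
    | zero => simp
    | succ n ih =>
      rw [pow_succ', Perm.mul_apply, ih, ← Perm.mul_apply, (hzg.pow_right (i * n)).eq,
        Perm.mul_apply, h, ← Perm.mul_apply, ← pow_add, Nat.mul_succ]
  rw [key, mul_comm, pow_mul, hg, one_pow, Perm.one_apply]

theorem exists_noncommuting_fin_four (A : Finset (Perm (Fin 4))) (hA : 8 ≤ A.card) :
    ∃ a ∈ A, ∃ b ∈ A, a * b ≠ b * a := by
  by_contra hcon
  push Not at hcon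
  have key : ∀ a : Perm (Fin 4), 4 < (Finset.univ.filter fun b => a * b = b * a).card →
      a * a = 1 ∧ Perm.sign a = 1 := by decide +kernel
  have h4 : (Finset.univ.filter fun a : Perm (Fin 4) => a * a = 1 ∧ Perm.sign a = 1).card = 4 := by
    decide +kernel
  have hsub : A ⊆ Finset.univ.filter fun a : Perm (Fin 4) => a * a = 1 ∧ Perm.sign a = 1 :=
    fun a ha => Finset.mem_filter.mpr ⟨Finset.mem_univ _, key a (lt_of_lt_of_le (by omega)
      (hA.trans (Finset.card_le_card fun b hb =>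
        Finset.mem_filter.mpr ⟨Finset.mem_univ _, hcon a ha b hb⟩)))⟩
  have := Finset.card_le_card hsub
  omega

/-- In the absence of an element of prime order moving exactly `r` points, some element moves only
points of a given small set. -/
theorem exists_small_element (G : Subgroup (Perm α)) [IsMultiplyPretransitive G α 5]
    {r : ℕ} [Fact r.Prime] (hr5 : 5 ≤ r) {t k : ℕ} (htk : (t = 3 ∧ k = 2) ∨ (t = 4 ∧ k = 3))
    (hcard : Fintype.card α = t + k * r)
    (hno : ∀ u ∈ G, orderOf u = r → u.support.card ≠ r) :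
    ∃ w ∈ G, w ≠ 1 ∧ w.support.card ≤ t := by
  classical
  have hr := (Fact.out : r.Prime)
  have hk : 2 ≤ k ∧ k ≤ 3 := by omega
  have hrr : k * r < r * r := Nat.mul_lt_mul_of_pos_right (by omega) hr.pos
  have h2r : 2 * r ≤ k * r := Nat.mul_le_mul_right r hk.1
  have hn5 : 5 ≤ Fintype.card α := by omega
  have htp : IsMultiplyPretransitive G α t :=
    isMultiplyPretransitive_of_le (G := G) (α := α) (m := t) (n := 5) (by omega)
      (by rw [Nat.card_eq_fintype_card]; exact hn5)
  have htp1 : IsMultiplyPretransitive G α (t + 1) :=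
    isMultiplyPretransitive_of_le (G := G) (α := α) (m := t + 1) (n := 5) (by omega)
      (by rw [Nat.card_eq_fintype_card]; exact hn5)
  obtain ⟨f⟩ : Nonempty (Fin t ↪ α) :=
    Function.Embedding.nonempty_of_card_le (by rw [Fintype.card_fin]; omega)
  -- the stabiliser of the set, acting on it
  let S : Subgroup (Perm α) :=
    { carrier := {x | x ∈ G ∧ (∀ i, ∃ j, x (f i) = f j) ∧ ∀ j, ∃ i, x (f i) = f j}
      one_mem' := ⟨one_mem G, fun i => ⟨i, rfl⟩, fun i => ⟨i, rfl⟩⟩
      mul_mem' := fun {x y} hx hy => ⟨mul_mem hx.1 hy.1, fun i => by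
        obtain ⟨j, hj⟩ := hy.2.1 i
        obtain ⟨l, hl⟩ := hx.2.1 j
        exact ⟨l, by rw [Perm.mul_apply, hj, hl]⟩, fun i => by
        obtain ⟨j, hj⟩ := hx.2.2 i
        obtain ⟨l, hl⟩ := hy.2.2 j
        exact ⟨l, by rw [Perm.mul_apply, hl, hj]⟩⟩
      inv_mem' := fun {x} hx => ⟨inv_mem hx.1, fun i => by
        obtain ⟨j, hj⟩ := hx.2.2 i
        exact ⟨j, by rw [Perm.inv_eq_iff_eq, hj]⟩, fun i => by
        obtain ⟨j, hj⟩ := hx.2.1 i
        exact ⟨j, by rw [Perm.inv_eq_iff_eq, hj]⟩⟩ }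
  choose φf hφf using fun x : S => x.2.2.1
  have φuniq : ∀ (x : S) i j, (x : Perm α) (f i) = f j → φf x i = j := fun x i j h =>
    f.injective ((hφf x i).symm.trans h)
  let φ : S →* Perm (Fin t) :=
    { toFun := fun x =>
        { toFun := φf x
          invFun := φf x⁻¹
          left_inv := fun i => φuniq _ _ _ (by
            rw [Subgroup.coe_inv, Perm.inv_eq_iff_eq, hφf x i])
          right_inv := fun i => φuniq _ _ _ (by
            rw [← hφf x⁻¹ i, Subgroup.coe_inv]; exact (x : Perm α).apply_symm_apply _) }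
      map_one' := Equiv.ext fun i => φuniq _ _ _ rfl
      map_mul' := fun x y => Equiv.ext fun i => φuniq _ _ _ (by
        rw [Subgroup.coe_mul, Perm.mul_apply, hφf y i, hφf x]; rfl) }
  have hφapply : ∀ (x : S) i, (x : Perm α) (f i) = f (φ x i) := fun x i => hφf x i
  obtain ⟨R⟩ : Nonempty (Sylow r φ.ker) := inferInstance
  let R' : Subgroup (Perm α) := ((R : Subgroup φ.ker).map φ.ker.subtype).map S.subtype
  have memR : ∀ y : Perm α, y ∈ R' → y ∈ G ∧ ∀ i, y (f i) = f i := by
    rintro _ ⟨y, ⟨z, -, rfl⟩, rfl⟩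
    exact ⟨(z : S).2.1, fun i => by
      rw [Subgroup.coe_subtype, Subgroup.coe_subtype, hφapply, MonoidHom.mem_ker.mp z.2, Perm.one_apply]⟩
  -- the points outside the set
  let W0 : Finset α := (Finset.univ.map f)ᶜ
  have mW0 : ∀ x, x ∈ W0 ↔ ∀ i, f i ≠ x := fun x => by simp [W0]
  have hW0 : W0.card = k * r := by
    rw [Finset.card_compl, Finset.card_map, Finset.card_univ, Fintype.card_fin, hcard]
    omega
  have hsuppW0 : ∀ y ∈ R', y.support ⊆ W0 := fun y hy x hx => (mW0 x).mpr fun i e =>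
    Perm.mem_support.mp hx (by rw [← e, (memR y hy).2 i])
  have hpgS : IsPGroup r R' := ((R.2).map _).map _
  have hexp : ∀ y ∈ R', y ^ r = 1 := fun y hy => by
    obtain ⟨j, hj⟩ := hpgS ⟨y, hy⟩
    have hj' : y ^ r ^ j = 1 := congrArg Subtype.val hj
    rw [← orderOf_dvd_iff_pow_eq_one, ← Perm.lcm_cycleType, Multiset.lcm_dvd]
    intro c hc
    obtain ⟨i, -, rfl⟩ := (Nat.dvd_prime_pow hr).mp
      ((Perm.dvd_of_mem_cycleType hc).trans (orderOf_dvd_of_pow_eq_one hj'))
    have hle := ((Perm.le_card_support_of_mem_cycleType hc).trans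
      (Finset.card_le_card (hsuppW0 y hy))).trans_lt (hW0 ▸ hrr)
    rw [← pow_two] at hle
    have hi := (Nat.pow_lt_pow_iff_right hr.one_lt).mp hle
    exact (pow_dvd_pow r (show i ≤ 1 by omega)).trans (pow_one r).dvd
  have hdvd : ∀ y ∈ R', r ∣ y.support.card := fun y hy => by
    rw [← Perm.sum_cycleType]
    refine Multiset.dvd_sum fun c hc => ?_
    have h1 := (Perm.dvd_of_mem_cycleType hc).trans (orderOf_dvd_of_pow_eq_one (hexp y hy))
    rcases (Nat.dvd_prime hr).mp h1 with rfl | rfl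
    · exact absurd (Perm.two_le_of_mem_cycleType hc) (by omega)
    · exact dvd_rfl
  -- at least `2 r` points are moved
  have hbig : ∀ y ∈ R', y ≠ 1 → 2 * r ≤ y.support.card := fun y hy hy1 => by
    obtain ⟨c, hc⟩ := hdvd y hy
    have h1 := hno y (memR y hy).1 (orderOf_eq_prime (hexp y hy) hy1)
    have h2 := Perm.two_le_card_support_of_ne_one hy1
    rcases c with _ | _ | c
    · omega
    · omega
    · have : r * 2 ≤ r * (c + 1 + 1) := Nat.mul_le_mul_left r (by omega)
      omega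
  -- orbits
  let Orb : α → Finset α := fun d => Finset.univ.filter fun z => ∃ y ∈ R', y d = z
  have mOrb : ∀ d z, z ∈ Orb d ↔ ∃ y ∈ R', y d = z := fun d z => by simp [Orb]
  have hOrbself : ∀ d, d ∈ Orb d := fun d => (mOrb d d).mpr ⟨1, one_mem _, rfl⟩
  have hOrbeq : ∀ d z, z ∈ Orb d → Orb z = Orb d := fun d z hz => by
    obtain ⟨y, hy, rfl⟩ := (mOrb _ _).mp hz
    ext w
    rw [mOrb, mOrb]
    constructor
    · rintro ⟨v, hv, rfl⟩
      exact ⟨v * y, mul_mem hv hy, rfl⟩
    · rintro ⟨v, hv, rfl⟩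
      exact ⟨v * y⁻¹, mul_mem hv (inv_mem hy), congrArg v (y.symm_apply_apply d)⟩
  have hOrbW0 : ∀ d ∈ W0, Orb d ⊆ W0 := fun d hd z hz => by
    obtain ⟨y, hy, rfl⟩ := (mOrb _ _).mp hz
    exact (mW0 _).mpr fun i e => (mW0 d).mp hd i (y.injective (((memR y hy).2 i).trans e))
  have hmove : ∀ d ∈ W0, ∃ y ∈ R', y d ≠ d := by
    intro d hd
    by_contra hfix
    push Not at hfix
    have htrK : ∀ z ∈ W0, ∃ x : φ.ker, ((x : S) : Perm α) d = z := by
      intro z hz
      obtain ⟨⟨x, hxG⟩, hx⟩ := htp1.exists_smul_eq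
        ⟨Fin.snoc f d, Fin.snoc_injective_iff.mpr ⟨f.injective, by
          rintro ⟨i, hi⟩; exact (mW0 d).mp hd i hi⟩⟩
        ⟨Fin.snoc f z, Fin.snoc_injective_iff.mpr ⟨f.injective, by
          rintro ⟨i, hi⟩; exact (mW0 z).mp hz i hi⟩⟩
      have hxi : ∀ i, x (f i) = f i := fun i => by
        have := congrArg (fun e : Fin (t + 1) ↪ α => e i.castSucc) hx
        simpa [Fin.snoc_castSucc] using this
      refine ⟨⟨⟨x, hxG, fun i => ⟨i, hxi i⟩, fun i => ⟨i, hxi i⟩⟩,
        Equiv.ext fun i => φuniq _ _ _ (hxi i)⟩, ?_⟩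
      have := congrArg (fun e : Fin (t + 1) ↪ α => e (Fin.last t)) hx
      simpa [Fin.snoc_last] using this
    let ψ : φ.ker →* Perm α := S.subtype.comp φ.ker.subtype
    let : MulAction φ.ker α := MulAction.compHom α ψ
    have horb : orbit φ.ker d = (W0 : Set α) := by
      ext z
      constructor
      · rintro ⟨x, rfl⟩
        refine (mW0 _).mpr fun i e => (mW0 d).mp hd i ?_
        apply ((x : S) : Perm α).injective
        rw [hφapply, MonoidHom.mem_ker.mp x.2, Perm.one_apply]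
        exact e
      · exact fun hz => htrK z hz
    have hRle : (R : Subgroup φ.ker) ≤ stabilizer φ.ker d := fun x hx =>
      hfix _ ⟨(x : S), ⟨x, hx, rfl⟩, rfl⟩
    have hidx := Subgroup.index_dvd_of_le hRle
    rw [index_stabilizer, horb, Set.ncard_coe_finset, hW0] at hidx
    exact R.not_dvd_index ((dvd_mul_left r k).trans hidx)
  have hOrbcard : ∀ d ∈ W0, (Orb d).card = r := by
    intro d hd
    have e : orbit R' d = (Orb d : Set α) := by
      ext z
      rw [Finset.mem_coe, mOrb]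
      exact ⟨fun ⟨⟨y, hy⟩, h⟩ => ⟨y, hy, h⟩, fun ⟨y, hy, h⟩ => ⟨⟨y, hy⟩, h⟩⟩
    obtain ⟨i, hi⟩ := hpgS.card_orbit d
    rw [Nat.card_coe_set_eq, e, Set.ncard_coe_finset] at hi
    have hle : r ^ i < r * r := hi ▸ (Finset.card_le_card (hOrbW0 d hd)).trans_lt (hW0 ▸ hrr)
    obtain ⟨y, hy, hyd⟩ := hmove d hd
    have h2 : 1 < (Orb d).card := Finset.one_lt_card.mpr
      ⟨d, hOrbself d, y d, (mOrb _ _).mpr ⟨y, hy, rfl⟩, Ne.symm hyd⟩
    rw [← pow_two] at hle
    have hi2 := (Nat.pow_lt_pow_iff_right hr.one_lt).mp hle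
    rw [hi] at h2 ⊢
    rcases Nat.eq_zero_or_pos i with rfl | hi0
    · simp at h2
    · rw [show i = 1 by omega, pow_one]
  -- the exceptional orbit
  obtain ⟨O3, hO3W0, hO3card, hO3orb⟩ : ∃ O3 : Finset α, O3 ⊆ W0 ∧ O3.card = (k - 2) * r ∧
      ∀ d ∈ O3, Orb d = O3 := by
    rcases htk with ⟨rfl, rfl⟩ | ⟨rfl, rfl⟩
    · exact ⟨∅, Finset.empty_subset _, by simp, by simp⟩
    · obtain ⟨d, hd⟩ : W0.Nonempty := Finset.card_pos.mp (by omega)
      exact ⟨Orb d, hOrbW0 d hd, by rw [hOrbcard d hd]; omega, fun z hz => hOrbeq d z hz⟩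
  let W : Finset α := W0 \ O3
  have hWcard : W.card = 2 * r := by
    rw [Finset.card_sdiff_of_subset hO3W0, hW0, hO3card, ← Nat.sub_mul,
      show k - (k - 2) = 2 by omega]
  let g3 : Subgroup (Perm α) := R' ⊓
    { carrier := {y | ∀ d ∈ O3, y d = d}
      one_mem' := fun d _ => rfl
      mul_mem' := fun {x y} hx hy d hd => by rw [Perm.mul_apply, hy d hd, hx d hd]
      inv_mem' := fun {x} hx d hd => by rw [Perm.inv_eq_iff_eq, hx d hd] }
  -- every element of `R'` fixing the exceptional orbit and a further point is trivial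
  have hsemi : ∀ y ∈ g3, ∀ d ∈ W, y d = d → y = 1 := by
    intro y hy d hd hyd
    by_contra hy1
    have hs : y.support ⊆ W.erase d := fun x hx => Finset.mem_erase.mpr
      ⟨fun e => Perm.mem_support.mp hx (by rw [e, hyd]),
        Finset.mem_sdiff.mpr ⟨hsuppW0 y hy.1 hx, fun h => Perm.mem_support.mp hx (hy.2 x h)⟩⟩
    have := (hbig y hy.1 hy1).trans (Finset.card_le_card hs)
    rw [Finset.card_erase_of_mem hd, hWcard] at this
    omega
  -- a generator moving all the points of `W`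
  obtain ⟨g, hgR, hgr, hgW, hgA, hgB⟩ : ∃ g ∈ R', g ^ r = 1 ∧ (∀ d ∈ W, g d ≠ d) ∧
      (∀ x : Perm α, (∀ y ∈ R', x * y * x⁻¹ ∈ R') → (∀ d ∈ O3, x⁻¹ d ∈ O3) →
        ∃ i : ℕ, x * g * x⁻¹ = g ^ i) ∧
      (∀ z : Perm α, (∀ y ∈ R', z * y * z⁻¹ ∈ R') → Commute z g → (∀ d ∈ O3, z d ∈ O3) →
        (∀ d ∈ W, ∃ i : ℕ, z d = (g ^ i) d) → ∀ d ∈ O3, (z ^ r) d = d) := by
    obtain ⟨d1, hd1⟩ : W.Nonempty := Finset.card_pos.mp (by omega)
    have hd1W0 : d1 ∈ W0 := (Finset.mem_sdiff.mp hd1).1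
    have hcardle : ∀ y ∈ R', y ≠ 1 → Nat.card R' ≤ r →
        ∀ v ∈ R', ∃ i : ℕ, v = y ^ i := by
      intro y hy hy1 hle v hv
      have hz : Subgroup.zpowers y = R' := Subgroup.eq_of_le_of_card_ge (Subgroup.zpowers_le.mpr hy)
        (by rw [Nat.card_zpowers, orderOf_eq_prime (hexp y hy) hy1]; exact hle)
      rw [← hz] at hv
      obtain ⟨i, hi⟩ := Submonoid.mem_powers_iff _ _ |>.mp (mem_powers_iff_mem_zpowers.mpr hv)
      exact ⟨i, hi.symm⟩
    by_cases hle : Nat.card R' ≤ r
    · obtain ⟨g, hg, hgd⟩ := hmove d1 hd1W0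
      have hg1 : g ≠ 1 := fun e => hgd (by rw [e]; rfl)
      have hmoves : ∀ d ∈ W0, g d ≠ d := fun d hd e => by
        obtain ⟨y, hy, hyd⟩ := hmove d hd
        obtain ⟨i, rfl⟩ := hcardle g hg hg1 hle y hy
        exact hyd (Perm.pow_apply_eq_self_of_apply_eq_self e i)
      refine ⟨g, hg, hexp g hg, fun d hd => hmoves d (Finset.mem_sdiff.mp hd).1,
        fun x hx _ => hcardle g hg hg1 hle _ (hx g hg), fun z _ hzg hz3 _ d hd => ?_⟩
      have : z d ∈ Orb d := by rw [hO3orb d hd]; exact hz3 d hd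
      obtain ⟨y, hy, hyd⟩ := (mOrb _ _).mp this
      obtain ⟨i, rfl⟩ := hcardle g hg hg1 hle y hy
      exact pow_prime_fix g z (hexp g hg) hzg d i hyd.symm
    · push Not at hle
      -- stabilisers of points are nontrivial and fix the whole orbit
      have hstab : ∀ d ∈ W0, (∃ y ∈ R', y ≠ 1 ∧ y d = d) ∧
          ∀ y ∈ R', y d = d → ∀ w ∈ Orb d, y w = w := by
        intro d hd
        have e : orbit R' d = (Orb d : Set α) := by
          ext z
          rw [Finset.mem_coe, mOrb]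
          exact ⟨fun ⟨⟨y, hy⟩, h⟩ => ⟨y, hy, h⟩, fun ⟨y, hy, h⟩ => ⟨⟨y, hy⟩, h⟩⟩
        have hidx : (stabilizer R' d).index = r := by
          rw [index_stabilizer, e, Set.ncard_coe_finset, hOrbcard d hd]
        have hne : stabilizer R' d ≠ ⊥ := fun hb => by
          rw [hb, Subgroup.index_bot] at hidx
          omega
        have hminfac : (Nat.card R').minFac = r := by
          obtain ⟨n, hn⟩ := IsPGroup.iff_card.mp hpgS
          rw [hn, Nat.pow_minFac (by rintro rfl; simp only [pow_zero] at hn; omega), hr.minFac_eq]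
        have hnorm : (stabilizer R' d).Normal :=
          Subgroup.normal_of_index_eq_minFac_card (hidx.trans hminfac.symm)
        obtain ⟨y, hy, hy1⟩ := (stabilizer R' d).bot_or_exists_ne_one.resolve_left hne
        refine ⟨⟨y, y.2, fun e => hy1 (Subtype.ext e), hy⟩, fun u hu hud w hw => ?_⟩
        obtain ⟨v, hv, rfl⟩ := (mOrb _ _).mp hw
        have h1 := hnorm.conj_mem ⟨u, hu⟩ hud (⟨v, hv⟩ : R')⁻¹
        have h2 : (v⁻¹ * u * v⁻¹⁻¹) d = d := h1
        rw [inv_inv, Perm.mul_apply, Perm.mul_apply, Perm.inv_eq_iff_eq] at h2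
        exact h2
      have hpt : ∀ d ∈ W0, ∃ y ∈ R', y ≠ 1 ∧ ∀ w ∈ Orb d, y w = w := fun d hd => by
        obtain ⟨⟨y, hy, hy1, hyd⟩, hfix⟩ := hstab d hd
        exact ⟨y, hy, hy1, hfix y hy hyd⟩
      have hk3 : k = 3 := by
        by_contra hk2
        obtain ⟨y, hy, hy1, hyfix⟩ := hpt d1 hd1W0
        exact hy1 (hsemi y ⟨hy, fun d hd => absurd hd (by
          rw [Finset.card_eq_zero.mp (hO3card.trans (by rw [show k - 2 = 0 by omega, zero_mul]))]
          simp)⟩ d1 hd1 (hyfix d1 (hOrbself d1)))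
      obtain ⟨d3, hd3⟩ : O3.Nonempty :=
        Finset.card_pos.mp (by rw [hO3card, hk3]; have := hr.pos; omega)
      obtain ⟨g, hg, hg1, hgfix⟩ := hpt d3 (hO3W0 hd3)
      have hg3 : g ∈ g3 := ⟨hg, fun d hd => hgfix d (by rwa [hO3orb d3 hd3])⟩
      have hmoves : ∀ d ∈ W, g d ≠ d := fun d hd e => hg1 (hsemi g hg3 d hd e)
      have hg3pow : ∀ y ∈ g3, ∃ i : ℕ, y = g ^ i := by
        intro y hy
        have hcardg3 : Nat.card g3 ≤ r := by
          rw [← hOrbcard d1 hd1W0, ← Fintype.card_coe, ← Nat.card_eq_fintype_card]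
          refine Nat.card_le_card_of_injective
            (fun v : g3 => (⟨(v : Perm α) d1, (mOrb _ _).mpr ⟨v, v.2.1, rfl⟩⟩ : Orb d1))
            fun v w e => Subtype.ext ?_
          have e' : (v : Perm α) d1 = (w : Perm α) d1 := congrArg Subtype.val e
          refine (inv_mul_eq_one.mp (hsemi _ (mul_mem (inv_mem w.2) v.2) d1 hd1 ?_)).symm
          rw [Perm.mul_apply, e', Perm.inv_eq_iff_eq]
        have hz : Subgroup.zpowers g = g3 := Subgroup.eq_of_le_of_card_ge
          (Subgroup.zpowers_le.mpr hg3)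
          (by rw [Nat.card_zpowers, orderOf_eq_prime (hexp g hg) hg1]; exact hcardg3)
        rw [← hz] at hy
        obtain ⟨i, hi⟩ := Submonoid.mem_powers_iff _ _ |>.mp (mem_powers_iff_mem_zpowers.mpr hy)
        exact ⟨i, hi.symm⟩
      refine ⟨g, hg, hexp g hg, hmoves, fun x hx hx3 => hg3pow _ ⟨hx g hg, fun d hd => ?_⟩,
        fun z hz hzg hz3 hzW d hd => ?_⟩
      · rw [Perm.mul_apply, Perm.mul_apply, hg3.2 _ (hx3 d hd)]
        exact x.apply_symm_apply d
      -- a second element, fixing the orbit of `d1`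
      obtain ⟨h, hh, hh1, hhfix⟩ := hpt d1 hd1W0
      have hcycle : ∀ y ∈ R', ∀ w ∈ W0, y w ≠ w → ∀ v ∈ Orb w, ∃ i : ℕ, v = (y ^ i) w := by
        intro y hy w hw hyw v hv
        have hy1 : y ≠ 1 := fun e => hyw (by rw [e]; rfl)
        have hinj := pow_apply_injective y w (hexp y hy) hyw
        have himg : Finset.univ.image (fun i : Fin r => (y ^ (i : ℕ)) w) = Orb w :=
          Finset.eq_of_subset_of_card_le (fun x hx => by
            obtain ⟨i, -, rfl⟩ := Finset.mem_image.mp hx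
            exact (mOrb _ _).mpr ⟨_, pow_mem hy _, rfl⟩)
            (by rw [Finset.card_image_of_injective _ hinj, Finset.card_univ, Fintype.card_fin,
              hOrbcard w hw])
        rw [← himg] at hv
        obtain ⟨i, -, rfl⟩ := Finset.mem_image.mp hv
        exact ⟨i, rfl⟩
      have hsmall : ∀ y ∈ R', (∀ w ∈ O3, y w = w) → (∀ w ∈ Orb d1, y w = w) → y = 1 :=
        fun y hy h3 h1 => hsemi y ⟨hy, h3⟩ d1 hd1 (h1 d1 (hOrbself d1))
      have hpres : ∀ y ∈ R', ∀ d w, w ∈ Orb d → y w ∈ Orb d := fun y hy d w hw => by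
        rw [← hOrbeq d w hw]
        exact (mOrb _ _).mpr ⟨y, hy, rfl⟩
      have hgh : Commute g h := by
        refine inv_mul_eq_one.mp (?_ : (h * g)⁻¹ * (g * h) = 1) |>.symm
        refine hsmall _ (mul_mem (inv_mem (mul_mem hh hg)) (mul_mem hg hh)) (fun w hw => ?_)
          (fun w hw => ?_)
        · rw [Perm.mul_apply, Perm.inv_eq_iff_eq, Perm.mul_apply, Perm.mul_apply, hg3.2 w hw,
            hg3.2 _ (by rw [← hO3orb w hw]; exact (mOrb _ _).mpr ⟨h, hh, rfl⟩)]
        · rw [Perm.mul_apply, Perm.inv_eq_iff_eq, Perm.mul_apply, Perm.mul_apply, hhfix w hw,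
            hhfix _ (hpres g hg d1 w hw)]
      have hcW : ∀ w ∈ W, h (z w) = z (h w) := by
        intro w hw
        obtain ⟨i, hi⟩ := hzW w hw
        obtain ⟨j, hj⟩ := hcycle g hg w (Finset.mem_sdiff.mp hw).1 (hmoves w hw) (h w)
          ((mOrb _ _).mpr ⟨h, hh, rfl⟩)
        rw [hi, hj]
        change (h * g ^ i) w = (z * g ^ j) w
        rw [(hgh.pow_left i).symm.eq, (hzg.pow_right j).eq, Perm.mul_apply, Perm.mul_apply, hi, hj,
          ← Perm.mul_apply, ← Perm.mul_apply, ← pow_add, ← pow_add, add_comm]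
      have hzWW : ∀ w ∈ W, z w ∈ W := by
        intro w hw
        obtain ⟨i, hi⟩ := hzW w hw
        rw [hi]
        obtain ⟨hw0, hw3⟩ := Finset.mem_sdiff.mp hw
        refine Finset.mem_sdiff.mpr ⟨hOrbW0 w hw0 ((mOrb _ _).mpr ⟨_, pow_mem hg _, rfl⟩),
          fun h' => hw3 ?_⟩
        have e : (g ^ i) ((g ^ i) w) = (g ^ i) w := (pow_mem hg3 i).2 _ h'
        rw [(g ^ i).injective e] at h'
        exact h'
      have hzimg : W.image z = W := Finset.eq_of_subset_of_card_le
        (fun x hx => by obtain ⟨w, hw, rfl⟩ := Finset.mem_image.mp hx; exact hzWW w hw)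
        (by rw [Finset.card_image_of_injective _ z.injective])
      have hzh : Commute z h := by
        have hmem : h⁻¹ * (z * h * z⁻¹) ∈ R' := mul_mem (inv_mem hh) (hz h hh)
        by_contra hzh
        have hne : h⁻¹ * (z * h * z⁻¹) ≠ 1 := fun e =>
          hzh (mul_inv_eq_iff_eq_mul.mp (inv_mul_eq_one.mp e).symm)
        have hsub : (h⁻¹ * (z * h * z⁻¹)).support ⊆ O3 := fun x hx => by
          by_contra hx3
          have hxW : x ∈ W := Finset.mem_sdiff.mpr ⟨hsuppW0 _ hmem hx, hx3⟩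
          rw [← hzimg] at hxW
          obtain ⟨w, hw, rfl⟩ := Finset.mem_image.mp hxW
          apply Perm.mem_support.mp hx
          rw [Perm.mul_apply, Perm.inv_eq_iff_eq, Perm.mul_apply, Perm.mul_apply,
            show z⁻¹ (z w) = w from z.symm_apply_apply w, hcW w hw]
        have := (hbig _ hmem hne).trans (Finset.card_le_card hsub)
        rw [hO3card, hk3] at this
        omega
      have hhd : h d ≠ d := fun e => hh1 (hsmall h hh
        (fun w hw => (hstab d (hO3W0 hd)).2 h hh e w (by rwa [hO3orb d hd])) hhfix)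
      obtain ⟨i, hi⟩ := hcycle h hh d (hO3W0 hd) hhd (z d) (by rw [hO3orb d hd]; exact hz3 d hd)
      exact pow_prime_fix h z (hexp h hh) hzh d i hi
  -- the normaliser of the Sylow subgroup induces every permutation of the set
  let Nm : Subgroup S := Subgroup.normalizer (((R : Subgroup φ.ker).map φ.ker.subtype : Subgroup S) : Set S)
  have hlift : ∀ π : Perm (Fin t), ∃ n ∈ Nm, φ n = π := by
    intro π
    obtain ⟨⟨x, hxG⟩, hx⟩ := htp.exists_smul_eq f (π.toEmbedding.trans f)
    have hxi : ∀ i, x (f i) = f (π i) := fun i => congrArg (fun e : Fin t ↪ α => e i) hx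
    let xS : S := ⟨x, hxG, fun i => ⟨π i, hxi i⟩, fun j => ⟨π.symm j, by
      rw [hxi, Equiv.apply_symm_apply]⟩⟩
    have hmem : xS ∈ Nm ⊔ φ.ker := by
      rw [Sylow.normalizer_sup_eq_top R]; exact Subgroup.mem_top _
    obtain ⟨n, hn, c, hc, hnc⟩ := Subgroup.mem_sup_of_normal_right.mp hmem
    refine ⟨n, hn, ?_⟩
    have : φ xS = π := Equiv.ext fun i => φuniq _ _ _ (hxi i)
    rw [← this, ← hnc, map_mul, MonoidHom.mem_ker.mp hc, mul_one]
  have hconj : ∀ n : S, n ∈ Nm → ∀ y ∈ R', (n : Perm α) * y * (n : Perm α)⁻¹ ∈ R' := by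
    rintro n hn _ ⟨y, hy, rfl⟩
    exact ⟨n * y * n⁻¹, (Subgroup.mem_normalizer_iff.mp hn y).mp hy, rfl⟩
  have hOrbim : ∀ n : S, n ∈ Nm → ∀ d w, w ∈ Orb d → (n : Perm α) w ∈ Orb ((n : Perm α) d) := by
    intro n hn d w hw
    obtain ⟨y, hy, rfl⟩ := (mOrb _ _).mp hw
    refine (mOrb _ _).mpr ⟨_, hconj n hn y hy, ?_⟩
    rw [Perm.mul_apply, Perm.mul_apply]
    exact congrArg (fun u => (n : Perm α) (y u)) ((n : Perm α).symm_apply_apply d)
  have hSW0 : ∀ n : S, ∀ d ∈ W0, (n : Perm α) d ∈ W0 := fun n d hd => (mW0 _).mpr fun i e => by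
    obtain ⟨j, hj⟩ := n.2.2.2 i
    exact (mW0 d).mp hd j ((n : Perm α).injective (hj.trans e))
  -- two non-commuting elements preserving the exceptional orbit
  obtain ⟨a, ha, haO, b, hb, hbO, hab⟩ : ∃ a ∈ Nm, (∀ d ∈ O3, (a : Perm α) d ∈ O3) ∧ ∃ b ∈ Nm,
      (∀ d ∈ O3, (b : Perm α) d ∈ O3) ∧ φ a * φ b ≠ φ b * φ a := by
    choose nπ hnπ hφπ using hlift
    rcases htk with ⟨rfl, rfl⟩ | ⟨rfl, rfl⟩
    · have hO3 : O3 = ∅ := Finset.card_eq_zero.mp (by rw [hO3card]; omega)
      refine ⟨nπ (Equiv.swap 0 1), hnπ _, by simp [hO3], nπ (Equiv.swap 1 2), hnπ _, by simp [hO3],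
        ?_⟩
      rw [hφπ, hφπ]
      decide
    · obtain ⟨d3, hd3⟩ : O3.Nonempty := Finset.card_pos.mp (by rw [hO3card]; omega)
      have hmaps : ∀ π ∈ (Finset.univ : Finset (Perm (Fin 4))),
          Orb ((nπ π : Perm α) d3) ∈ W0.image Orb :=
        fun π _ => Finset.mem_image_of_mem _ (hSW0 _ d3 (hO3W0 hd3))
      have hcl : (W0.image Orb).card * 8 ≤ (Finset.univ : Finset (Perm (Fin 4))).card := by
        rw [Finset.card_univ, Fintype.card_perm, Fintype.card_fin, show Nat.factorial 4 = 3 * 8 from rfl]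
        refine Nat.mul_le_mul_right 8 ?_
        have h := Finset.card_eq_sum_card_image Orb W0
        rw [Finset.sum_congr rfl (g := fun _ => r) fun O hO => by
          obtain ⟨d, hd, rfl⟩ := Finset.mem_image.mp hO
          rw [show W0.filter (fun w => Orb w = Orb d) = Orb d from Finset.ext fun w => by
            rw [Finset.mem_filter]
            exact ⟨fun h => h.2 ▸ hOrbself w, fun h => ⟨hOrbW0 d hd h, hOrbeq d w h⟩⟩,
            hOrbcard d hd], Finset.sum_const, smul_eq_mul, hW0] at h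
        exact le_of_eq (Nat.eq_of_mul_eq_mul_right hr.pos h).symm
      obtain ⟨O, -, hO⟩ := Finset.exists_le_card_fiber_of_mul_le_card_of_maps_to hmaps
        (Finset.image_nonempty.mpr ⟨d3, hO3W0 hd3⟩) hcl
      obtain ⟨π0, hπ0⟩ := Finset.card_pos.mp (lt_of_lt_of_le (by omega : 0 < 8) hO)
      set Fib := (Finset.univ : Finset (Perm (Fin 4))).filter fun π => Orb ((nπ π : Perm α) d3) = O
      obtain ⟨_, ha, _, hb, hab⟩ := exists_noncommuting_fin_four (Fib.image fun π => π0⁻¹ * π)
        (by rw [Finset.card_image_of_injective _ (mul_right_injective _)]; exact hO)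
      obtain ⟨π, hπ, rfl⟩ := Finset.mem_image.mp ha
      obtain ⟨π', hπ', rfl⟩ := Finset.mem_image.mp hb
      have hpres : ∀ π ∈ Fib, ∀ d ∈ O3, (((nπ π0)⁻¹ * nπ π : S) : Perm α) d ∈ O3 := by
        intro π hπ d hd
        rw [← hO3orb d3 hd3] at hd
        have h1 := hOrbim _ (hnπ π) d3 d hd
        rw [(Finset.mem_filter.mp hπ).2, ← (Finset.mem_filter.mp hπ0).2] at h1
        have h2 := hOrbim _ (inv_mem (hnπ π0)) _ _ h1
        rw [Subgroup.coe_inv, show (nπ π0 : Perm α)⁻¹ ((nπ π0 : Perm α) d3) = d3 from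
          (nπ π0 : Perm α).symm_apply_apply d3, hO3orb d3 hd3] at h2
        exact h2
      refine ⟨_, mul_mem (inv_mem (hnπ π0)) (hnπ π), hpres π hπ, _,
        mul_mem (inv_mem (hnπ π0)) (hnπ π'), hpres π' hπ', ?_⟩
      rwa [map_mul, map_mul, map_inv, hφπ, hφπ, hφπ]
  -- the elements preserving the exceptional orbit act on the two other orbits
  have hinvO : ∀ x : Perm α, (∀ d ∈ O3, x d ∈ O3) → ∀ d ∈ O3, x⁻¹ d ∈ O3 := fun x hx d hd => by
    have himg : O3.image x = O3 := Finset.eq_of_subset_of_card_le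
      (fun y hy => by obtain ⟨w, hw, rfl⟩ := Finset.mem_image.mp hy; exact hx w hw)
      (by rw [Finset.card_image_of_injective _ x.injective])
    rw [← himg] at hd
    obtain ⟨w, hw, rfl⟩ := Finset.mem_image.mp hd
    rwa [show x⁻¹ (x w) = w from x.symm_apply_apply w]
  let E : α → α → Prop := fun d e => ∃ i : ℕ, e = (g ^ i) d
  have Etrans : ∀ d e u, E d e → E e u → E d u := by
    rintro d _ _ ⟨i, rfl⟩ ⟨j, rfl⟩
    exact ⟨j + i, by rw [pow_add, Perm.mul_apply]⟩
  have Esymm : ∀ d e, E d e → E e d := by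
    rintro d _ ⟨i, rfl⟩
    refine ⟨i * (r - 1), ?_⟩
    rw [← Perm.mul_apply, ← pow_add,
      show i * (r - 1) + i = r * i by
        rw [← Nat.mul_add_one, Nat.sub_add_cancel hr.one_le, mul_comm],
      pow_mul, hgr, one_pow, Perm.one_apply]
  have hWmap : ∀ n : S, n ∈ Nm → (∀ d ∈ O3, (n : Perm α) d ∈ O3) → ∀ d ∈ W, (n : Perm α) d ∈ W :=
    fun n _ hn d hd => by
      obtain ⟨hd0, hd3⟩ := Finset.mem_sdiff.mp hd
      refine Finset.mem_sdiff.mpr ⟨hSW0 n d hd0, fun h' => hd3 ?_⟩
      have := hinvO _ hn _ h'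
      rwa [show (n : Perm α)⁻¹ ((n : Perm α) d) = d from (n : Perm α).symm_apply_apply d] at this
  have hgpow : ∀ n : S, n ∈ Nm → (∀ d ∈ O3, (n : Perm α) d ∈ O3) →
      ∃ i : ℕ, (n : Perm α) * g * (n : Perm α)⁻¹ = g ^ i :=
    fun n hn hnO => hgA _ (hconj n hn) (hinvO _ hnO)
  have Eresp : ∀ n : S, n ∈ Nm → (∀ d ∈ O3, (n : Perm α) d ∈ O3) → ∀ d e,
      E d e → E ((n : Perm α) d) ((n : Perm α) e) := by
    rintro n hn hnO d _ ⟨j, rfl⟩
    obtain ⟨i, hi⟩ := hgpow n hn hnO
    refine ⟨i * j, ?_⟩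
    rw [pow_mul, ← hi, conj_pow, Perm.mul_apply, Perm.mul_apply]
    exact congrArg (fun u => (n : Perm α) ((g ^ j) u)) ((n : Perm α).symm_apply_apply d).symm
  have Eresp' : ∀ n : S, n ∈ Nm → (∀ d ∈ O3, (n : Perm α) d ∈ O3) → ∀ d e,
      E ((n : Perm α) d) ((n : Perm α) e) → E d e := fun n hn hnO d e h => by
    have := Eresp n⁻¹ (inv_mem hn) (hinvO _ hnO) _ _ h
    rwa [Subgroup.coe_inv, show (n : Perm α)⁻¹ ((n : Perm α) d) = d from
      (n : Perm α).symm_apply_apply d, show (n : Perm α)⁻¹ ((n : Perm α) e) = e from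
      (n : Perm α).symm_apply_apply e] at this
  have htwo : ∀ d ∈ W, ∀ e ∈ W, ¬ E d e → ∀ u ∈ W, E d u ∨ E e u := by
    intro d hd e he hde u hu
    let cl : α → Finset α := fun d => Finset.univ.image fun i : Fin r => (g ^ (i : ℕ)) d
    have hclc : ∀ d ∈ W, (cl d).card = r := fun d hd => by
      rw [Finset.card_image_of_injective _ (pow_apply_injective g d hgr (hgW d hd)), Finset.card_univ,
        Fintype.card_fin]
    have hclE : ∀ d x, x ∈ cl d → E d x := fun d x hx => by
      obtain ⟨i, -, rfl⟩ := Finset.mem_image.mp hx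
      exact ⟨i, rfl⟩
    have hclW : ∀ d ∈ W, cl d ⊆ W := fun d hd x hx => by
      obtain ⟨i, -, rfl⟩ := Finset.mem_image.mp hx
      obtain ⟨hd0, hd3⟩ := Finset.mem_sdiff.mp hd
      refine Finset.mem_sdiff.mpr ⟨hOrbW0 d hd0 ((mOrb _ _).mpr ⟨_, pow_mem hgR _, rfl⟩), fun h' => hd3 ?_⟩
      have : d ∈ Orb ((g ^ (i : ℕ)) d) := by
        rw [hOrbeq d _ ((mOrb _ _).mpr ⟨_, pow_mem hgR _, rfl⟩)]; exact hOrbself d
      rwa [hO3orb _ h'] at this
    have hdis : Disjoint (cl d) (cl e) := Finset.disjoint_left.mpr fun x hx hx' =>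
      hde (Etrans _ _ _ (hclE d x hx) (Esymm _ _ (hclE e x hx')))
    have hun : cl d ∪ cl e = W := Finset.eq_of_subset_of_card_le
      (Finset.union_subset (hclW d hd) (hclW e he))
      (by rw [Finset.card_union_of_disjoint hdis, hclc d hd, hclc e he, hWcard]; omega)
    rw [← hun] at hu
    exact (Finset.mem_union.mp hu).imp (hclE d u) (hclE e u)
  set z : Perm α := (a : Perm α) * b * (a : Perm α)⁻¹ * (b : Perm α)⁻¹ with hz
  have hzS : z = ((a * b * a⁻¹ * b⁻¹ : S) : Perm α) := rfl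
  have hzN : a * b * a⁻¹ * b⁻¹ ∈ Nm := mul_mem (mul_mem (mul_mem ha hb) (inv_mem ha)) (inv_mem hb)
  have hzg : Commute z g := by
    obtain ⟨i, hi⟩ := hgpow a ha haO
    obtain ⟨j, hj⟩ := hgpow b hb hbO
    obtain ⟨i', hi'⟩ := hgpow a⁻¹ (inv_mem ha) (hinvO _ haO)
    obtain ⟨j', hj'⟩ := hgpow b⁻¹ (inv_mem hb) (hinvO _ hbO)
    rw [Subgroup.coe_inv, inv_inv] at hi' hj'
    have e1 : (g ^ i') ^ i = g := by
      rw [← pow_mul, mul_comm, pow_mul, ← hi, conj_pow, ← hi']; group
    have e2 : (g ^ j') ^ j = g := by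
      rw [← pow_mul, mul_comm, pow_mul, ← hj, conj_pow, ← hj']; group
    refine mul_inv_eq_iff_eq_mul.mp ?_
    have hp : ∀ (x : Perm α) (k n : ℕ), x * g * x⁻¹ = g ^ k → x * g ^ n * x⁻¹ = g ^ (k * n) :=
      fun x k n h => by rw [← conj_pow, h, ← pow_mul]
    have hp' : ∀ (x : Perm α) (k n : ℕ), x⁻¹ * g * x = g ^ k → x⁻¹ * g ^ n * x = g ^ (k * n) :=
      fun x k n h => by simpa only [inv_inv] using hp x⁻¹ k n (by rw [inv_inv]; exact h)
    calc z * g * z⁻¹ = (a : Perm α) * ((b : Perm α) * ((a : Perm α)⁻¹ *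
          ((b : Perm α)⁻¹ * g * b) * a) * (b : Perm α)⁻¹) * (a : Perm α)⁻¹ := by rw [hz]; group
      _ = g ^ (i * (j * (i' * j'))) := by
        rw [hj', hp' _ i' j' hi', hp _ j _ hj, hp _ i _ hi]
      _ = g := by
        rw [show i * (j * (i' * j')) = i' * i * (j' * j) by ring, pow_mul, pow_mul g i', e1, pow_mul,
          e2]
  have hzO : ∀ d ∈ O3, z d ∈ O3 := fun d hd => by
    rw [hz, Perm.mul_apply, Perm.mul_apply, Perm.mul_apply]
    exact haO _ (hbO _ (hinvO _ haO _ (hinvO _ hbO _ hd)))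
  have hzE : ∀ d ∈ W, E d (z d) := by
    have hcomm : ∀ d ∈ W, E ((b : Perm α) ((a : Perm α) d)) ((a : Perm α) ((b : Perm α) d)) := by
      intro d hd
      have had := hWmap a ha haO d hd
      have hbd := hWmap b hb hbO d hd
      have habd := hWmap a ha haO _ hbd
      have hbad := hWmap b hb hbO _ had
      by_cases hA : E d ((a : Perm α) d) <;> by_cases hB : E d ((b : Perm α) d)
      · exact Etrans _ _ _ (Esymm _ _ (Etrans _ _ _ hB (Eresp b hb hbO _ _ hA)))
          (Etrans _ _ _ hA (Eresp a ha haO _ _ hB))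
      · have h1 : ¬ E d ((a : Perm α) ((b : Perm α) d)) := fun h =>
          hB (Eresp' a ha haO _ _ (Etrans _ _ _ (Esymm _ _ hA) h))
        exact Etrans _ _ _ (Esymm _ _ (Eresp b hb hbO _ _ hA))
          ((htwo d hd _ hbd hB _ habd).resolve_left h1)
      · have h1 : ¬ E d ((b : Perm α) ((a : Perm α) d)) := fun h =>
          hA (Eresp' b hb hbO _ _ (Etrans _ _ _ (Esymm _ _ hB) h))
        exact Etrans _ _ _ (Esymm _ _ ((htwo d hd _ had hA _ hbad).resolve_left h1))
          (Eresp a ha haO _ _ hB)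
      · have h1 : E d ((b : Perm α) ((a : Perm α) d)) :=
          ((htwo d hd _ hbd hB _ hbad).resolve_right fun h => hA (Eresp' b hb hbO _ _ h))
        have h2 : E d ((a : Perm α) ((b : Perm α) d)) :=
          ((htwo d hd _ had hA _ habd).resolve_right fun h => hB (Eresp' a ha haO _ _ h))
        exact Etrans _ _ _ (Esymm _ _ h1) h2
    intro w hw
    obtain ⟨d, hd, rfl⟩ : ∃ d ∈ W, (b : Perm α) ((a : Perm α) d) = w := by
      refine ⟨(a : Perm α)⁻¹ ((b : Perm α)⁻¹ w), hWmap a⁻¹ (inv_mem ha) (hinvO _ haO) _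
        (hWmap b⁻¹ (inv_mem hb) (hinvO _ hbO) _ hw), ?_⟩
      rw [show (a : Perm α) ((a : Perm α)⁻¹ ((b : Perm α)⁻¹ w)) = (b : Perm α)⁻¹ w from
        (a : Perm α).apply_symm_apply _]
      exact (b : Perm α).apply_symm_apply _
    have e : z ((b : Perm α) ((a : Perm α) d)) = (a : Perm α) ((b : Perm α) d) := by
      rw [hz, Perm.mul_apply, Perm.mul_apply, Perm.mul_apply,
        show (b : Perm α)⁻¹ ((b : Perm α) ((a : Perm α) d)) = (a : Perm α) d from
          (b : Perm α).symm_apply_apply _,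
        show (a : Perm α)⁻¹ ((a : Perm α) d) = d from (a : Perm α).symm_apply_apply _]
    rw [e]
    exact hcomm d hd
  have hfix : ∀ x ∈ W0, (z ^ r) x = x := fun x hx => by
    by_cases hx3 : x ∈ O3
    · exact hgB z (hzS ▸ hconj _ hzN) hzg hzO hzE x hx3
    · obtain ⟨i, hi⟩ := hzE x (Finset.mem_sdiff.mpr ⟨hx, hx3⟩)
      exact pow_prime_fix g z hgr hzg x i hi
  refine ⟨z ^ r, pow_mem (hzS ▸ (a * b * a⁻¹ * b⁻¹).2.1) r, fun e => hab ?_, ?_⟩
  · have h1 : φ (a * b * a⁻¹ * b⁻¹) ^ r = 1 := by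
      rw [← map_pow]
      refine Equiv.ext fun i => φuniq _ _ _ ?_
      rw [Subgroup.coe_pow, ← hzS, e]
      rfl
    have h2 : φ (a * b * a⁻¹ * b⁻¹) = 1 := by
      rw [← orderOf_eq_one_iff]
      rcases (Nat.dvd_prime hr).mp (orderOf_dvd_of_pow_eq_one h1) with h | h
      · exact h
      · have h4 := orderOf_dvd_card (x := φ (a * b * a⁻¹ * b⁻¹))
        rw [h, Fintype.card_perm, Fintype.card_fin, hr.dvd_factorial] at h4
        omega
    rw [map_mul, map_mul, map_mul, map_inv, map_inv] at h2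
    exact mul_inv_eq_iff_eq_mul.mp (mul_inv_eq_one.mp h2)
  · refine (Finset.card_le_card (t := Finset.univ.map f) fun x hx => ?_).trans
      (by rw [Finset.card_map, Finset.card_univ, Fintype.card_fin])
    by_contra hxF
    exact Perm.mem_support.mp hx (hfix x (Finset.mem_compl.mpr hxF))

/-- A quintuply transitive group of degree `2 r + 3` or `3 r + 4` contains the alternating group. -/
theorem alternating_le_of_five (G : Subgroup (Perm α)) [IsMultiplyPretransitive G α 5]
    (hprim : IsPreprimitive G α) {r : ℕ} [Fact r.Prime] (hr5 : 5 ≤ r)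
    (hcard : Fintype.card α = 2 * r + 3 ∨ Fintype.card α = 3 * r + 4) : alternatingGroup α ≤ G := by
  classical
  by_cases hcyc : ∃ u ∈ G, orderOf u = r ∧ u.support.card = r
  · obtain ⟨u, hu, hur, hus⟩ := hcyc
    exact alternating_le_of_prime_support G hprim (Fact.out : r.Prime) u hu hur hus (by omega)
      (by omega)
  push Not at hcyc
  obtain ⟨t, k, htk, hc⟩ : ∃ t k, ((t = 3 ∧ k = 2) ∨ (t = 4 ∧ k = 3)) ∧
      Fintype.card α = t + k * r := by
    rcases hcard with h | h
    · exact ⟨3, 2, Or.inl ⟨rfl, rfl⟩, by omega⟩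
    · exact ⟨4, 3, Or.inr ⟨rfl, rfl⟩, by omega⟩
  obtain ⟨w, hwG, hw1, hws⟩ := exists_small_element G hr5 htk hc hcyc
  refine alternating_le_of_small_support G hprim w hwG hw1 ?_ (by omega)
  exact isMultiplyPretransitive_of_le (G := G) (α := α) (n := 5) (by omega)
    (by rw [Nat.card_eq_fintype_card]; omega)

end Cfsg.Agent.Perm.HalfNorm
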