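/-
Transitive groups of prime degree `p = q + 2`, `q` prime, with Sylow normaliser of order
`p (p - 1) / 2`.

* `not_all_perms` : such a group is not the full symmetric group
* `three_points` : it is triply transitive
* `three_transitive_of_index_two` : index two in an insoluble group of prime degree
* `five_points` : it is quintuply transitive
-/
import Cfsg.Agent.Lib.Perm.HalfNormalizer
import Cfsg.Agent.Lib.Perm.HalfNormPrimitive
import Cfsg.Agent.Lib.Perm.PrimeInvolution
import Mathlib.NumberTheory.Wilson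

namespace Cfsg.Agent.Perm.HalfNorm

open MulAction

variable {p : ℕ} [Fact p.Prime]

section

variable {G Ω : Type*} [Group G] [Finite G] [MulAction G Ω] [FaithfulSMul G Ω] [Finite Ω]
  [IsPretransitive G Ω]

theorem not_all_perms (hΩ : Nat.card Ω = p) (P : Sylow p G) {m : ℕ} (hm : p = 2 * m + 1)
    (hN : Nat.card (Subgroup.normalizer ((P : Subgroup G) : Set G)) = p * m) :
    ¬ Function.Surjective (MulAction.toPermHom G Ω) := by
  intro hsur
  have hp := (Fact.out : p.Prime)
  have hcard : Nat.card G = p.factorial := by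
    rw [← hΩ, ← Nat.card_perm]
    exact Nat.card_eq_of_bijective _ ⟨MulAction.toPerm_injective, hsur⟩
  obtain ⟨d, n, -, hd, -, hn, hG⟩ := exists_sylow_data (G := G) hΩ P
  rw [hN] at hd
  have hd' : m = d := Nat.eq_of_mul_eq_mul_left hp.pos hd
  subst hd'
  rw [hcard, ← Nat.mul_factorial_pred hp.ne_zero, mul_assoc] at hG
  have h1 := congrArg (fun k : ℕ => (k : ZMod p)) (Nat.eq_of_mul_eq_mul_left hp.pos hG)
  simp only [ZMod.wilsons_lemma, Nat.cast_mul] at h1
  have h2 : (n : ZMod p) = 1 := by rw [← ZMod.natCast_mod, hn, Nat.cast_one]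
  have h3 : (2 : ZMod p) * m + 1 = 0 := by
    have := congrArg (fun k : ℕ => (k : ZMod p)) hm
    simpa using this.symm
  rw [h2, mul_one] at h1
  have h4 : (1 : ZMod p) = 0 := by linear_combination -h3 - 2 * h1
  exact one_ne_zero h4

omit [Finite G] [FaithfulSMul G Ω] [Finite Ω] in
theorem image_isPretransitive : IsPretransitive (MulAction.toPermHom G Ω).range Ω :=
  ⟨fun x y => by
    obtain ⟨g, hg⟩ := MulAction.exists_smul_eq G x y
    exact ⟨⟨_, g, rfl⟩, hg⟩⟩

omit [Finite G] [Finite Ω] [IsPretransitive G Ω] in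
theorem image_not_isSolvable (hins : ¬ Group.IsSolvable G) :
    ¬ Group.IsSolvable (MulAction.toPermHom G Ω).range := fun _ =>
  hins (Group.isSolvable_of_isSolvable_injective
    (f := (MonoidHom.ofInjective (f := MulAction.toPermHom G Ω)
      MulAction.toPerm_injective).toMonoidHom) (MulEquiv.injective _))

omit [Finite G] in
theorem move_two (hΩ : Nat.card Ω = p) (hins : ¬ Group.IsSolvable G) (u v u' v' : Ω) (huv : u ≠ v)
    (huv' : u' ≠ v') : ∃ g : G, g • u = u' ∧ g • v = v' := by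
  classical
  let : Fintype Ω := Fintype.ofFinite Ω
  have hcard : Fintype.card Ω = p := Nat.card_eq_fintype_card.symm.trans hΩ
  have := image_isPretransitive (G := G) (Ω := Ω)
  have h2 := (S0675.result (hcard.symm ▸ (Fact.out : p.Prime)) (MulAction.toPermHom G Ω).range
    ).resolve_left (image_not_isSolvable hins)
  obtain ⟨⟨_, g, rfl⟩, h1, h1'⟩ := MulAction.is_two_pretransitive_iff.mp h2 huv huv'
  exact ⟨g, h1, h1'⟩

theorem core_two_orbits (hΩ : Nat.card Ω = p) (hins : ¬ Group.IsSolvable G) (P : Sylow p G) {m : ℕ}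
    (hm : p = 2 * m + 1) (hm0 : 0 < m)
    (hN : Nat.card (Subgroup.normalizer ((P : Subgroup G) : Set G)) = p * m)
    (u v x y z : Ω) (huv : u ≠ v) (hx : x ≠ u ∧ x ≠ v) (hy : y ≠ u ∧ y ≠ v) (hz : z ≠ u ∧ z ≠ v) :
      (∃ g : G, g • u = u ∧ g • v = v ∧ g • x = y) ∨ (∃ g : G, g • u = u ∧ g • v = v ∧ g • x = z) ∨
        ∃ g : G, g • u = u ∧ g • v = v ∧ g • y = z := by
  classical
  let : Fintype Ω := Fintype.ofFinite Ω
  have hcard : Fintype.card Ω = p := Nat.card_eq_fintype_card.symm.trans hΩ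
  have := image_isPretransitive (G := G) (Ω := Ω)
  obtain ⟨e, σ, h, a, hσ, hh, ha⟩ := exists_half_coordinates (G := G) hΩ P hN
  by_contra hcon
  push Not at hcon
  obtain ⟨n1, n2, n3⟩ := hcon
  exact two_point_orbits hcard (MulAction.toPermHom G Ω).range (image_not_isSolvable hins) e
    ⟨_, σ, rfl⟩ ⟨_, h, rfl⟩ a hσ hh hm ha hm0 huv hx hy hz
    (fun ⟨_, g, hg⟩ e1 e2 e3 => n1 g (by subst hg; exact e1) (by subst hg; exact e2)
      (by subst hg; exact e3))
    (fun ⟨_, g, hg⟩ e1 e2 e3 => n2 g (by subst hg; exact e1) (by subst hg; exact e2)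
      (by subst hg; exact e3))
    (fun ⟨_, g, hg⟩ e1 e2 e3 => n3 g (by subst hg; exact e1) (by subst hg; exact e2)
      (by subst hg; exact e3))

/-- A doubly transitive group is triply transitive when the two-point stabiliser is. -/
theorem three_points (hΩ : Nat.card Ω = p) (hins : ¬ Group.IsSolvable G) (P : Sylow p G) {m : ℕ}
    (hm : p = 2 * m + 1) (hp7 : 7 < p)
    (hN : Nat.card (Subgroup.normalizer ((P : Subgroup G) : Set G)) = p * m)
    (hcop : Even m ∨ ∀ k l : ℕ, 0 < k → k < l → k + l = p - 2 → Nat.Coprime k l)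
    (u v x y : Ω) (huv : u ≠ v) (hx : x ≠ u ∧ x ≠ v) (hy : y ≠ u ∧ y ≠ v) :
    ∃ g : G, g • u = u ∧ g • v = v ∧ g • x = y := by
  classical
  have hp := (Fact.out : p.Prime)
  let : Fintype Ω := Fintype.ofFinite Ω
  have hcard : Fintype.card Ω = p := Nat.card_eq_fintype_card.symm.trans hΩ
  have hT := image_isPretransitive (G := G) (Ω := Ω)
  rcases Nat.even_or_odd m with hm2 | hm2
  · let f := MulAction.toPermHom G Ω
    have hf : Function.Injective f := MulAction.toPerm_injective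
    let φ : G →* f.range := (MonoidHom.ofInjective hf).toMonoidHom
    let Q : Sylow p f.range := P.mapSurjective (f := φ) (MonoidHom.ofInjective hf).surjective
    have heven : Even (Nat.card (Subgroup.normalizer ((Q : Subgroup f.range) : Set f.range))) := by
      have h := Subgroup.map_equiv_normalizer_eq (P : Subgroup G) (MonoidHom.ofInjective hf)
      have hQ : ((Q : Subgroup f.range)) = (P : Subgroup G).map φ := rfl
      rw [hQ]
      erw [← h, Subgroup.card_map_of_injective (MonoidHom.ofInjective hf).injective, hN]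
      exact hm2.mul_left p
    have h3 := S0676.result hcard f.range (image_not_isSolvable hins) Q heven
    obtain ⟨⟨_, g, rfl⟩, hg⟩ := h3.exists_smul_eq
      ⟨![u, v, x], List.nodup_ofFn.mp (by simp [huv, Ne.symm hx.1, Ne.symm hx.2])⟩
      ⟨![u, v, y], List.nodup_ofFn.mp (by simp [huv, Ne.symm hy.1, Ne.symm hy.2])⟩
    exact ⟨g, congrArg (fun w => w 0) hg, congrArg (fun w => w 1) hg, congrArg (fun w => w 2) hg⟩
  replace hcop := hcop.resolve_left (Nat.not_even_iff_odd.mpr hm2)
  have move := move_two (G := G) hΩ hins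
  have core := core_two_orbits (G := G) hΩ hins P hm hm2.pos hN
  let orb : Ω → Finset Ω := fun x =>
    Finset.univ.filter fun w => ∃ g : G, g • u = u ∧ g • v = v ∧ g • x = w
  have morb : ∀ x w, w ∈ orb x ↔ ∃ g : G, g • u = u ∧ g • v = v ∧ g • x = w := fun x w => by
    simp [orb]
  by_contra hcon
  have hfix : ∀ g : G, ∀ x : Ω, g • x = x → g⁻¹ • x = x := fun g x e =>
    inv_smul_eq_iff.mpr e.symm
  -- two orbits, one smaller than the other
  have hdisj : Disjoint (orb x) (orb y) := by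
    rw [Finset.disjoint_left]
    intro w h1 h2
    obtain ⟨g, g1, g2, g3⟩ := (morb _ _).mp h1
    obtain ⟨k, k1, k2, k3⟩ := (morb _ _).mp h2
    exact hcon ⟨k⁻¹ * g, by rw [mul_smul, g1, hfix k _ k1], by rw [mul_smul, g2, hfix k _ k2], by
      rw [mul_smul, g3, inv_smul_eq_iff, k3]⟩
  have hune : ∀ x, x ≠ u ∧ x ≠ v → ∀ w ∈ orb x, w ≠ u ∧ w ≠ v := fun x hx w hw => by
    obtain ⟨g, g1, g2, rfl⟩ := (morb _ _).mp hw
    exact ⟨fun e => hx.1 (smul_left_cancel g (e.trans g1.symm)),
      fun e => hx.2 (smul_left_cancel g (e.trans g2.symm))⟩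
  have hcov : ∀ w, w ≠ u ∧ w ≠ v → w ∈ orb x ∨ w ∈ orb y := fun w hw => by
    rcases core u v x y w huv hx hy hw with h | h | h
    · exact absurd h hcon
    · exact Or.inl ((morb _ _).mpr h)
    · exact Or.inr ((morb _ _).mpr h)
  have hsum : (orb x).card + (orb y).card = p - 2 := by
    rw [← Finset.card_union_of_disjoint hdisj,
      show orb x ∪ orb y = ({u, v} : Finset Ω)ᶜ from Finset.ext fun w => by
        simp only [Finset.mem_union, Finset.mem_compl, Finset.mem_insert, Finset.mem_singleton,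
          not_or]
        exact ⟨fun h => h.elim (hune x hx w) (hune y hy w), hcov w⟩,
      Finset.card_compl, Finset.card_pair huv, hcard]
  -- order the two orbits
  obtain ⟨x₁, y₁, hlt, hd, hx₁, hy₁, hc⟩ : ∃ x₁ y₁, (orb x₁).card < (orb y₁).card ∧
      Disjoint (orb x₁) (orb y₁) ∧ (x₁ ≠ u ∧ x₁ ≠ v) ∧ (y₁ ≠ u ∧ y₁ ≠ v) ∧
      (orb x₁).card + (orb y₁).card = p - 2 := by
    rcases lt_trichotomy (orb x).card (orb y).card with h | h | h
    · exact ⟨x, y, h, hdisj, hx, hy, hsum⟩
    · omega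
    · exact ⟨y, x, h, hdisj.symm, hy, hx, by omega⟩
  have hcov₁ : ∀ w, w ≠ u ∧ w ≠ v → w ∈ orb x₁ ∨ w ∈ orb y₁ := fun w hw => by
    have hsub : orb x₁ ∪ orb y₁ = ({u, v} : Finset Ω)ᶜ := Finset.eq_of_subset_of_card_le
      (fun w hw => by
        simp only [Finset.mem_compl, Finset.mem_insert, Finset.mem_singleton, not_or]
        exact (Finset.mem_union.mp hw).elim (hune x₁ hx₁ w) (hune y₁ hy₁ w))
      (by rw [Finset.card_union_of_disjoint hd, Finset.card_compl, Finset.card_pair huv, hcard, hc])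
    have : w ∈ ({u, v} : Finset Ω)ᶜ := by simp [hw.1, hw.2]
    rw [← hsub] at this
    exact Finset.mem_union.mp this
  have hself : ∀ x, x ∈ orb x := fun x => (morb _ _).mpr ⟨1, one_smul _ _, one_smul _ _, one_smul _ _⟩
  have hpos : 0 < (orb x₁).card := Finset.card_pos.mpr ⟨x₁, hself x₁⟩
  -- the images of the small orbit
  let Sm : Ω → Ω → Finset Ω := fun a b =>
    Finset.univ.filter fun w => ∃ g : G, g • u = a ∧ g • v = b ∧ g⁻¹ • w ∈ orb x₁
  have orbK : ∀ x, ∀ k : G, k • u = u → k • v = v → ∀ w ∈ orb x, k • w ∈ orb x :=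
    fun x k k1 k2 w hw => by
      obtain ⟨g, g1, g2, rfl⟩ := (morb _ _).mp hw
      exact (morb _ _).mpr ⟨k * g, by rw [mul_smul, g1, k1], by rw [mul_smul, g2, k2], mul_smul _ _ _⟩
  have mSm : ∀ (g : G) w, w ∈ Sm (g • u) (g • v) ↔ g⁻¹ • w ∈ orb x₁ := fun g w => by
    simp only [Sm, Finset.mem_filter, Finset.mem_univ, true_and]
    refine ⟨fun ⟨k, k1, k2, k3⟩ => ?_, fun h => ⟨g, rfl, rfl, h⟩⟩
    have := orbK x₁ (g⁻¹ * k) (by rw [mul_smul, k1, inv_smul_smul])
      (by rw [mul_smul, k2, inv_smul_smul]) _ k3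
    rwa [mul_smul, smul_inv_smul] at this
  have Smequiv : ∀ (k : G) a b, a ≠ b → ∀ w, w ∈ Sm (k • a) (k • b) ↔ k⁻¹ • w ∈ Sm a b :=
    fun k a b hab w => by
      obtain ⟨g, rfl, rfl⟩ := move u v a b huv hab
      rw [← mul_smul, ← mul_smul, mSm, mSm, mul_inv_rev, mul_smul]
  have Smcard : ∀ a b, a ≠ b → (Sm a b).card = (orb x₁).card := fun a b hab => by
    obtain ⟨g, rfl, rfl⟩ := move u v a b huv hab
    exact Finset.card_equiv (MulAction.toPerm g⁻¹) fun w => by
      rw [mSm, MulAction.toPerm_apply]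
  have Smuv : ∀ w, w ∈ Sm u v ↔ w ∈ orb x₁ := fun w => by
    have := mSm 1 w
    rwa [one_smul, one_smul, inv_one, one_smul] at this
  have Smne : ∀ a b, a ≠ b → ∀ w ∈ Sm a b, w ≠ a ∧ w ≠ b := fun a b hab w hw => by
    obtain ⟨g, rfl, rfl⟩ := move u v a b huv hab
    have := hune x₁ hx₁ _ ((mSm g w).mp hw)
    exact ⟨fun e => this.1 (by rw [e, inv_smul_smul]), fun e => this.2 (by rw [e, inv_smul_smul])⟩
  -- no small image of a small point meets the large orbit
  have hzero : ∀ w ∈ orb x₁, ∀ z ∈ orb y₁, z ∉ Sm u w := by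
    have invcount : ∀ (k : G), k • u = u → k • v = v → ∀ w ∈ orb x₁, ∀ z,
        (k • z ∈ Sm u (k • w) ↔ z ∈ Sm u w) := fun k k1 k2 w hw z => by
      have h := Smequiv k u w (hune x₁ hx₁ w hw).1.symm (k • z)
      rwa [k1, inv_smul_smul] at h
    let A : Ω → Finset Ω := fun w => (orb y₁).filter fun z => z ∈ Sm u w
    let B : Ω → Finset Ω := fun z => (orb x₁).filter fun w => z ∈ Sm u w
    have hA : ∀ w ∈ orb x₁, (A w).card = (A x₁).card := fun w hw => by
      obtain ⟨g, g1, g2, rfl⟩ := (morb _ _).mp hw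
      refine (Finset.card_equiv (MulAction.toPerm g) fun z => ?_).symm
      simp only [A, Finset.mem_filter, MulAction.toPerm_apply]
      refine and_congr ⟨orbK y₁ g g1 g2 z, fun h => ?_⟩ (invcount g g1 g2 x₁ (hself x₁) z).symm
      have := orbK y₁ g⁻¹ (hfix g _ g1) (hfix g _ g2) _ h
      rwa [inv_smul_smul] at this
    have hB : ∀ z ∈ orb y₁, (B z).card = (B y₁).card := fun z hz => by
      obtain ⟨g, g1, g2, rfl⟩ := (morb _ _).mp hz
      refine (Finset.card_equiv (MulAction.toPerm g) fun w => ?_).symm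
      simp only [B, Finset.mem_filter, MulAction.toPerm_apply]
      constructor
      · rintro ⟨hw, h⟩
        exact ⟨orbK x₁ g g1 g2 w hw, (invcount g g1 g2 w hw y₁).mpr h⟩
      · rintro ⟨hw, h⟩
        have hw' : w ∈ orb x₁ := by
          have := orbK x₁ g⁻¹ (hfix g _ g1) (hfix g _ g2) _ hw
          rwa [inv_smul_smul] at this
        exact ⟨hw', (invcount g g1 g2 w hw' y₁).mp h⟩
    have hcount : (orb x₁).card * (A x₁).card = (orb y₁).card * (B y₁).card := by
      rw [← smul_eq_mul, ← smul_eq_mul, ← Finset.sum_const, ← Finset.sum_const,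
        ← Finset.sum_congr rfl hA, ← Finset.sum_congr rfl hB]
      simp only [A, B, Finset.card_filter]
      exact Finset.sum_comm
    have hcp := hcop _ _ hpos hlt hc
    have hdvd : (orb y₁).card ∣ (A x₁).card := hcp.symm.dvd_of_dvd_mul_left ⟨_, hcount⟩
    have hAle : (A x₁).card ≤ (orb x₁).card := by
      rw [← Smcard u x₁ (hune x₁ hx₁ x₁ (hself x₁)).1.symm]
      exact Finset.card_le_card fun z hz => (Finset.mem_filter.mp hz).2
    have hA0 : (A x₁).card = 0 := Nat.eq_zero_of_dvd_of_lt hdvd (lt_of_le_of_lt hAle hlt)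
    intro w hw z hz hzw
    have h0 : (A w).card = 0 := (hA w hw).trans hA0
    exact absurd (Finset.mem_filter.mpr ⟨hz, hzw⟩) (by simp [A, Finset.card_eq_zero.mp h0])
  -- hence the small orbit gives a block
  have hblk : ∀ w ∈ insert v (orb x₁), insert w (Sm u w) = insert v (orb x₁) := by
    intro w hw
    rcases Finset.mem_insert.mp hw with rfl | hw'
    · rw [show Sm u w = orb x₁ from Finset.ext Smuv]
    refine Finset.eq_of_subset_of_card_le (fun z hz => ?_) ?_
    · rcases Finset.mem_insert.mp hz with rfl | hz'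
      · exact hw
      · rcases eq_or_ne z v with rfl | hzv
        · exact Finset.mem_insert_self _ _
        rcases hcov₁ z ⟨(Smne u w (hune x₁ hx₁ w hw').1.symm z hz').1, hzv⟩ with h | h
        · exact Finset.mem_insert_of_mem h
        · exact absurd hz' (hzero w hw' z h)
    · rw [Finset.card_insert_of_notMem fun h => (hune x₁ hx₁ v h).2 rfl,
        Finset.card_insert_of_notMem fun h => (Smne u w (hune x₁ hx₁ w hw').1.symm w h).2 rfl,
        Smcard u w (hune x₁ hx₁ w hw').1.symm]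
  obtain ⟨e, σ, h, a, hσ, hh, ha⟩ := exists_half_coordinates (G := G) hΩ P hN
  have hprim := primitive_stabilizer hΩ move core e σ h a hσ hh hm hm2 ha hp7 u
  let Bl : Set (SubMulAction.ofStabilizer G u) := {z | (z : Ω) ∈ insert v (orb x₁)}
  have hBl : IsBlock (stabilizer G u) Bl := by
    rw [isBlock_iff_smul_eq_of_nonempty]
    rintro ⟨g, hg⟩ ⟨⟨z, hzu⟩, hz1, hz2⟩
    rw [mem_stabilizer_iff] at hg
    have hgz : g⁻¹ • z ∈ insert v (orb x₁) := by
      obtain ⟨⟨z', hz'u⟩, hz', hzz⟩ := hz1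
      have hzz' : g • z' = z := congrArg Subtype.val hzz
      rw [← hzz', inv_smul_smul]
      exact hz'
    ext ⟨w, hw⟩
    rw [Set.mem_smul_set_iff_inv_smul_mem]
    change g⁻¹ • w ∈ insert v (orb x₁) ↔ w ∈ insert v (orb x₁)
    conv_rhs => rw [← hblk z hz2]
    conv_lhs => rw [← hblk _ hgz]
    have hzu' : u ≠ g⁻¹ • z := fun e => hzu (show z = u by
      rw [← smul_inv_smul g z, ← e, hg])
    have h := Smequiv g u (g⁻¹ • z) hzu' w
    rw [hg, smul_inv_smul] at h
    rw [Finset.mem_insert, Finset.mem_insert, ← h]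
    exact or_congr (smul_left_cancel_iff _) Iff.rfl
  rcases hprim.isTrivialBlock_of_isBlock hBl with h | h
  · exact (hune x₁ hx₁ x₁ (hself x₁)).2 (congrArg Subtype.val (h
      (show (⟨x₁, hx₁.1⟩ : SubMulAction.ofStabilizer G u) ∈ Bl from
        Finset.mem_insert_of_mem (hself x₁))
      (show (⟨v, huv.symm⟩ : SubMulAction.ofStabilizer G u) ∈ Bl from Finset.mem_insert_self _ _)))
  · have : y₁ ∈ insert v (orb x₁) := by
      have hy' : (⟨y₁, hy₁.1⟩ : SubMulAction.ofStabilizer G u) ∈ Bl := h ▸ Set.mem_univ _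
      exact hy'
    rcases Finset.mem_insert.mp this with h' | h'
    · exact hy₁.2 h'
    · exact Finset.disjoint_left.mp hd h' (hself y₁)

end

/-- An insoluble transitive group of prime degree with an overgroup of index two is triply
transitive. -/
theorem three_transitive_of_index_two {R : Type*} [Fintype R] [DecidableEq R] {q : ℕ}
    [Fact q.Prime] (hR : Fintype.card R = q) (hq2 : 2 < q) (S H : Subgroup (Equiv.Perm R))
    (hle : H ≤ S) (hidx : (H.subgroupOf S).index = 2) [IsPretransitive H R]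
    (hH : ¬ Group.IsSolvable H) (a b c a' b' c' : R) (h1 : a ≠ b) (h2 : a ≠ c) (h3 : b ≠ c)
    (h1' : a' ≠ b') (h2' : a' ≠ c') (h3' : b' ≠ c') :
    ∃ g ∈ H, g a = a' ∧ g b = b' ∧ g c = c' := by
  classical
  have hq := (Fact.out : q.Prime)
  have : IsPretransitive S R := ⟨fun x y => by
    obtain ⟨⟨g, hg⟩, hgx⟩ := MulAction.exists_smul_eq H x y
    exact ⟨⟨g, hle hg⟩, hgx⟩⟩
  have hS : ¬ Group.IsSolvable S := fun _ => hH
    (Group.isSolvable_of_isSolvable_injective (f := Subgroup.inclusion hle)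
      (Subgroup.inclusion_injective hle))
  set K := H.subgroupOf S with hK
  have hKn : K.Normal := Subgroup.normal_of_index_eq_two hidx
  -- a Sylow normaliser of even order
  obtain ⟨Q₀⟩ : Nonempty (Sylow q H) := inferInstance
  obtain ⟨hQ₀, -, -, -⟩ := sylow_prime_degree (G := H) (Nat.card_eq_fintype_card.trans hR) Q₀
  let eK : K ≃* H := Subgroup.subgroupOfEquivOfLe hle
  have : Nonempty (Sylow q K) := inferInstance
  obtain ⟨Q₁⟩ := this
  obtain ⟨hQK, -, -, -⟩ := sylow_prime_degree (G := H) (Nat.card_eq_fintype_card.trans hR)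
    (Q₁.mapSurjective (f := eK.toMonoidHom) eK.surjective)
  have hQ₁ : Nat.card ((Q₁ : Subgroup K).map K.subtype) = q := by
    rw [Subgroup.card_map_of_injective K.subtype_injective]
    exact (Subgroup.card_map_of_injective (f := eK.toMonoidHom) eK.injective).symm.trans hQK
  obtain ⟨Q, hQ⟩ := (IsPGroup.of_card (n := 1) (hQ₁.trans (pow_one q).symm)).exists_le_sylow
  obtain ⟨hQc, -, -, -⟩ := sylow_prime_degree (G := S) (Nat.card_eq_fintype_card.trans hR) Q
  have hQe : (Q₁ : Subgroup K).map K.subtype = Q :=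
    Subgroup.eq_of_le_of_card_ge hQ (by rw [hQc, hQ₁])
  have htop := Sylow.normalizer_sup_eq_top Q₁
  rw [hQe] at htop
  obtain ⟨x, hxN, hxK⟩ : ∃ x ∈ Subgroup.normalizer ((Q : Subgroup S) : Set S), x ∉ K := by
    by_contra hcon
    push Not at hcon
    rw [sup_eq_right.mpr hcon] at htop
    rw [htop, Subgroup.index_top] at hidx
    omega
  have heven : Even (Nat.card (Subgroup.normalizer ((Q : Subgroup S) : Set S))) := by
    refine even_iff_two_dvd.mpr (dvd_trans ?_ (Subgroup.orderOf_dvd_natCard _ hxN))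
    by_contra hodd
    obtain ⟨k, hk⟩ : Odd (orderOf x) := Nat.not_even_iff_odd.mp (fun h => hodd h.two_dvd)
    apply hxK
    have e : x = (x * x) ^ (k + 1) := by
      rw [← pow_two, ← pow_mul, show 2 * (k + 1) = orderOf x + 1 by omega, pow_succ,
        pow_orderOf_eq_one, one_mul]
    rw [e]
    exact pow_mem (Subgroup.mul_self_mem_of_index_two hidx x) _
  have h3t := S0676.result hR S hS Q heven
  have h2t : IsMultiplyPretransitive H R 2 := (S0675.result (hR.symm ▸ hq) H).resolve_left hH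
  obtain ⟨⟨g, hg⟩, hga, hgb⟩ := is_two_pretransitive_iff.mp h2t h1 h1'
  replace hga : g a = a' := hga
  replace hgb : g b = b' := hgb
  -- the two-point stabiliser in the subgroup is transitive on the other points
  have hplus : ∀ z w, z ≠ a' ∧ z ≠ b' → w ≠ a' ∧ w ≠ b' →
      ∃ s : S, (s : Equiv.Perm R) a' = a' ∧ (s : Equiv.Perm R) b' = b' ∧
        (s : Equiv.Perm R) z = w := fun z w hz hw => by
    obtain ⟨s, hs⟩ := h3t.exists_smul_eq
      ⟨![a', b', z], List.nodup_ofFn.mp (by simp [h1', Ne.symm hz.1, Ne.symm hz.2])⟩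
      ⟨![a', b', w], List.nodup_ofFn.mp (by simp [h1', Ne.symm hw.1, Ne.symm hw.2])⟩
    exact ⟨s, congrArg (fun v => v 0) hs, congrArg (fun v => v 1) hs, congrArg (fun v => v 2) hs⟩
  set w := g c with hw
  have hwne : w ≠ a' ∧ w ≠ b' :=
    ⟨fun e => h2 (g.injective (hga.trans e.symm)), fun e => h3 (g.injective (hgb.trans e.symm))⟩
  let O : Finset R := Finset.univ.filter fun z => ∃ k ∈ H, k a' = a' ∧ k b' = b' ∧ k w = z
  have mO : ∀ z, z ∈ O ↔ ∃ k ∈ H, k a' = a' ∧ k b' = b' ∧ k w = z := fun z => by simp [O]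
  suffices hOall : c' ∈ O by
    obtain ⟨k, hk, k1, k2, k3⟩ := (mO _).mp hOall
    exact ⟨k * g, mul_mem hk hg, by rw [Equiv.Perm.mul_apply, hga, k1],
      by rw [Equiv.Perm.mul_apply, hgb, k2], by rw [Equiv.Perm.mul_apply, ← hw, k3]⟩
  by_contra hcO
  let L : S → Prop := fun s => (s : Equiv.Perm R) a' = a' ∧ (s : Equiv.Perm R) b' = b'
  have hLmul : ∀ s t, L s → L t → L (s * t) := fun s t hs ht => by
    constructor <;> rw [Subgroup.coe_mul, Equiv.Perm.mul_apply]
    · rw [ht.1, hs.1]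
    · rw [ht.2, hs.2]
  have hLinv : ∀ s, L s → L s⁻¹ := fun s hs => by
    constructor <;> rw [Subgroup.coe_inv, Equiv.Perm.inv_eq_iff_eq]
    · exact hs.1.symm
    · exact hs.2.symm
  have hOK : ∀ s, L s → s ∈ K → ∀ z ∈ O, (s : Equiv.Perm R) z ∈ O := fun s hs hsK z hz => by
    obtain ⟨k, hk, k1, k2, rfl⟩ := (mO _).mp hz
    exact (mO _).mpr ⟨s * k, mul_mem (Subgroup.mem_subgroupOf.mp hsK) hk,
      by rw [Equiv.Perm.mul_apply, k1, hs.1], by rw [Equiv.Perm.mul_apply, k2, hs.2], rfl⟩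
  have hwO : w ∈ O := (mO _).mpr ⟨1, one_mem _, rfl, rfl, rfl⟩
  obtain ⟨t, t1, t2, t3⟩ := hplus w c' hwne ⟨h2'.symm, h3'.symm⟩
  have htK : t ∉ K := fun h => hcO (by rw [← t3]; exact hOK t ⟨t1, t2⟩ h w hwO)
  -- the other elements exchange the orbit with its complement
  have hout : ∀ z ∈ O, (t : Equiv.Perm R) z ∉ O := fun z hz htz => by
    apply hcO
    obtain ⟨k, hk, k1, k2, rfl⟩ := (mO _).mp hz
    obtain ⟨l, hl, l1, l2, l3⟩ := (mO _).mp htz
    let k' : S := ⟨k, hle hk⟩
    have hLk : L k' := ⟨k1, k2⟩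
    have hK' : (t : S) * k' * t⁻¹ ∈ K := hKn.conj_mem k' (Subgroup.mem_subgroupOf.mpr hk) t
    have hmem := hOK _ (hLinv _ (hLmul _ _ (hLmul t k' ⟨t1, t2⟩ hLk) (hLinv t ⟨t1, t2⟩)))
      (inv_mem hK') _ htz
    rw [show (((t : S) * k' * t⁻¹)⁻¹ : S).1 ((t : Equiv.Perm R) (k w)) = (t : Equiv.Perm R) w by
      simp [k', Equiv.Perm.mul_apply], t3] at hmem
    exact hmem
  have hin : ∀ z, z ≠ a' ∧ z ≠ b' → z ∉ O → (t : Equiv.Perm R) z ∈ O := fun z hz hzO => by
    obtain ⟨s, s1, s2, rfl⟩ := hplus w z hwne hz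
    have hsK : s ∉ K := fun h => hzO (hOK s ⟨s1, s2⟩ h w hwO)
    exact hOK (t * s) (hLmul _ _ ⟨t1, t2⟩ ⟨s1, s2⟩)
      ((Subgroup.mul_mem_iff_of_index_two hidx).mpr (iff_of_false htK hsK)) w hwO
  have hOne : ∀ z ∈ O, z ≠ a' ∧ z ≠ b' := fun z hz => by
    obtain ⟨k, -, k1, k2, rfl⟩ := (mO _).mp hz
    exact ⟨fun e => hwne.1 (k.injective (e.trans k1.symm)),
      fun e => hwne.2 (k.injective (e.trans k2.symm))⟩
  have hcomp : O.image (fun z => (t : Equiv.Perm R) z) = ({a', b'} : Finset R)ᶜ \ O := by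
    ext z
    simp only [Finset.mem_image, Finset.mem_sdiff, Finset.mem_compl, Finset.mem_insert,
      Finset.mem_singleton, not_or]
    constructor
    · rintro ⟨y, hy, rfl⟩
      exact ⟨⟨fun e => (hOne y hy).1 ((t : Equiv.Perm R).injective (e.trans t1.symm)),
        fun e => (hOne y hy).2 ((t : Equiv.Perm R).injective (e.trans t2.symm))⟩, hout y hy⟩
    · rintro ⟨hz, hzO⟩
      have hti := hLinv t ⟨t1, t2⟩
      rw [show z = (t : Equiv.Perm R) ((t : Equiv.Perm R).symm z) from (Equiv.apply_symm_apply _ _).symm]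
        at hzO
      refine ⟨(t : Equiv.Perm R).symm z, ?_, Equiv.apply_symm_apply _ _⟩
      by_contra hy
      have hyne : (t : Equiv.Perm R).symm z ≠ a' ∧ (t : Equiv.Perm R).symm z ≠ b' :=
        ⟨fun e => hz.1 (by rw [← Equiv.apply_symm_apply (t : Equiv.Perm R) z, e, t1]),
          fun e => hz.2 (by rw [← Equiv.apply_symm_apply (t : Equiv.Perm R) z, e, t2])⟩
      exact hzO (hin _ hyne hy)
  have hcard : ({a', b'} : Finset R)ᶜ.card = q - 2 := by
    rw [Finset.card_compl, Finset.card_pair h1', hR]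
  have hsub : O ⊆ ({a', b'} : Finset R)ᶜ := fun z hz => by simp [(hOne z hz).1, (hOne z hz).2]
  have := congrArg Finset.card hcomp
  rw [Finset.card_image_of_injective _ (t : Equiv.Perm R).injective,
    Finset.card_sdiff_of_subset hsub, hcard] at this
  obtain ⟨j, hj⟩ := hq.odd_of_ne_two (by omega)
  have := Finset.card_le_card hsub
  omega

/-- A transitive group of degree `p = q + 2` (with `q` prime) as above is quintuply transitive. -/
theorem five_points {G Ω : Type*} [Group G] [Finite G] [MulAction G Ω] [FaithfulSMul G Ω]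
    [Finite Ω] [IsPretransitive G Ω] (hΩ : Nat.card Ω = p) (hins : ¬ Group.IsSolvable G)
    (P : Sylow p G) {m : ℕ} (hm : p = 2 * m + 1)
    (hN : Nat.card (Subgroup.normalizer ((P : Subgroup G) : Set G)) = p * m)
    {q : ℕ} (hq : q.Prime) (hq5 : 5 < q) (hpq : p = q + 2) :
    IsMultiplyPretransitive G Ω 5 := by
  classical
  have hp := (Fact.out : p.Prime)
  have : Fact q.Prime := ⟨hq⟩
  let : Fintype Ω := Fintype.ofFinite Ω
  have hcard : Fintype.card Ω = p := Nat.card_eq_fintype_card.symm.trans hΩ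
  have move := move_two (G := G) hΩ hins
  have h3 := three_points (G := G) hΩ hins P hm (by omega) hN (Or.inr fun k l hk _ hkl => by
    rw [show p - 2 = q by omega] at hkl
    refine Nat.coprime_of_dvd fun r hr hrk hrl => ?_
    have hrq : r ∣ q := hkl ▸ dvd_add hrk hrl
    rw [Nat.prime_dvd_prime_iff_eq hr hq] at hrq
    have := Nat.le_of_dvd hk hrk
    have := Nat.le_of_dvd (by omega) hrl
    omega)
  -- the rest of a pair, and the stabilisers of the pair
  suffices key : ∀ a b c d e c' d' e' : Ω, a ≠ b → (c ≠ a ∧ c ≠ b) → (d ≠ a ∧ d ≠ b) →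
      (e ≠ a ∧ e ≠ b) → c ≠ d → c ≠ e → d ≠ e → (c' ≠ a ∧ c' ≠ b) → (d' ≠ a ∧ d' ≠ b) →
      (e' ≠ a ∧ e' ≠ b) → c' ≠ d' → c' ≠ e' → d' ≠ e' →
      ∃ g : G, g • a = a ∧ g • b = b ∧ g • c = c' ∧ g • d = d' ∧ g • e = e' by
    refine ⟨fun f f' => ?_⟩
    have fn : ∀ (f : Fin 5 ↪ Ω) i j, i ≠ j → f i ≠ f j := fun f i j h => f.injective.ne h
    obtain ⟨g, g0, g1⟩ := move (f 0) (f 1) (f' 0) (f' 1) (fn f 0 1 (by decide)) (fn f' 0 1 (by decide))
    have gn : ∀ i, i ≠ 0 ∧ i ≠ 1 → g • f i ≠ f' 0 ∧ g • f i ≠ f' 1 := fun i hi =>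
      ⟨fun e => fn f i 0 hi.1 (smul_left_cancel g (e.trans g0.symm)),
        fun e => fn f i 1 hi.2 (smul_left_cancel g (e.trans g1.symm))⟩
    have gne : ∀ i j, i ≠ j → g • f i ≠ g • f j := fun i j h e => fn f i j h (smul_left_cancel g e)
    obtain ⟨k, k0, k1, k2, k3, k4⟩ := key (f' 0) (f' 1) (g • f 2) (g • f 3) (g • f 4) (f' 2) (f' 3)
      (f' 4) (fn f' 0 1 (by decide)) (gn 2 (by decide)) (gn 3 (by decide)) (gn 4 (by decide))
      (gne 2 3 (by decide)) (gne 2 4 (by decide)) (gne 3 4 (by decide))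
      ⟨fn f' 2 0 (by decide), fn f' 2 1 (by decide)⟩ ⟨fn f' 3 0 (by decide), fn f' 3 1 (by decide)⟩
      ⟨fn f' 4 0 (by decide), fn f' 4 1 (by decide)⟩
      (fn f' 2 3 (by decide)) (fn f' 2 4 (by decide)) (fn f' 3 4 (by decide))
    refine ⟨k * g, ?_⟩
    ext i
    fin_cases i
    · exact (mul_smul k g _).trans ((congrArg (k • ·) g0).trans k0)
    · exact (mul_smul k g _).trans ((congrArg (k • ·) g1).trans k1)
    · exact (mul_smul k g _).trans k2
    · exact (mul_smul k g _).trans k3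
    · exact (mul_smul k g _).trans k4
  intro a b c d e c' d' e' hab hc hd he hcd hce hde hc' hd' he' hcd' hce' hde'
  let R := {x : Ω // x ≠ a ∧ x ≠ b}
  let T : Subgroup G :=
    { carrier := {g | (g • a = a ∧ g • b = b) ∨ (g • a = b ∧ g • b = a)}
      one_mem' := Or.inl ⟨one_smul _ _, one_smul _ _⟩
      mul_mem' := fun {g k} hg hk => by
        rcases hg with ⟨g1, g2⟩ | ⟨g1, g2⟩ <;> rcases hk with ⟨k1, k2⟩ | ⟨k1, k2⟩ <;>
          simp [mul_smul, g1, g2, k1, k2]
      inv_mem' := fun {g} hg => by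
        rcases hg with ⟨g1, g2⟩ | ⟨g1, g2⟩
        · exact Or.inl ⟨inv_smul_eq_iff.mpr g1.symm, inv_smul_eq_iff.mpr g2.symm⟩
        · exact Or.inr ⟨inv_smul_eq_iff.mpr g2.symm, inv_smul_eq_iff.mpr g1.symm⟩ }
  have hTR : ∀ g : T, ∀ x : Ω, (x ≠ a ∧ x ≠ b) → (g : G) • x ≠ a ∧ (g : G) • x ≠ b := fun g x hx => by
    rcases g.2 with ⟨g1, g2⟩ | ⟨g1, g2⟩
    · exact ⟨fun e => hx.1 (smul_left_cancel (g : G) (e.trans g1.symm)),
        fun e => hx.2 (smul_left_cancel (g : G) (e.trans g2.symm))⟩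
    · exact ⟨fun e => hx.2 (smul_left_cancel (g : G) (e.trans g2.symm)),
        fun e => hx.1 (smul_left_cancel (g : G) (e.trans g1.symm))⟩
  let ρ : T →* Equiv.Perm R :=
    { toFun := fun g =>
        { toFun := fun x => ⟨(g : G) • (x : Ω), hTR g x x.2⟩
          invFun := fun x => ⟨((g⁻¹ : T) : G) • (x : Ω), hTR g⁻¹ x x.2⟩
          left_inv := fun x => Subtype.ext (inv_smul_smul _ _)
          right_inv := fun x => Subtype.ext (smul_inv_smul _ _) }
      map_one' := Equiv.ext fun x => Subtype.ext (one_smul _ _)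
      map_mul' := fun g k => Equiv.ext fun x => Subtype.ext (mul_smul _ _ _) }
  have hρinj : Function.Injective ρ := by
    rw [injective_iff_map_eq_one]
    intro g hg
    have hfixR : ∀ x : Ω, x ≠ a ∧ x ≠ b → (g : G) • x = x := fun x hx =>
      congrArg Subtype.val (Equiv.congr_fun hg ⟨x, hx⟩)
    rcases g.2 with ⟨g1, g2⟩ | ⟨g1, g2⟩
    · refine Subtype.ext (FaithfulSMul.eq_of_smul_eq_smul (α := Ω) fun x => ?_)
      rw [Subgroup.coe_one, one_smul]
      by_cases hx : x ≠ a ∧ x ≠ b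
      · exact hfixR x hx
      · rcases eq_or_ne x a with rfl | hxa
        · exact g1
        · obtain rfl : x = b := by tauto
          exact g2
    · exfalso
      refine not_all_perms (G := G) hΩ P hm hN ?_
      have hsw : Equiv.swap a b ∈ (MulAction.toPermHom G Ω).range := ⟨g, Equiv.ext fun x => by
        rw [MulAction.toPermHom_apply, MulAction.toPerm_apply]
        by_cases hx : x ≠ a ∧ x ≠ b
        · rw [Equiv.swap_apply_of_ne_of_ne hx.1 hx.2, hfixR x hx]
        · rcases eq_or_ne x a with rfl | hxa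
          · rw [Equiv.swap_apply_left, g1]
          · obtain rfl : x = b := by tauto
            rw [Equiv.swap_apply_right, g2]⟩
      have := image_isPretransitive (G := G) (Ω := Ω)
      have := IsPreprimitive.of_prime_card (G := (MulAction.toPermHom G Ω).range) (X := Ω)
        (hΩ.symm ▸ hp)
      have htop := Equiv.Perm.subgroup_eq_top_of_isPreprimitive_of_isSwap_mem
        (G := (MulAction.toPermHom G Ω).range) this _ ⟨a, b, hab, rfl⟩ hsw
      exact MonoidHom.range_eq_top.mp htop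
  let K : Subgroup T := (stabilizer G a).subgroupOf T
  have hKmem : ∀ g : T, g ∈ K ↔ (g : G) • a = a ∧ (g : G) • b = b := fun g => by
    refine ⟨fun h => ?_, fun h => h.1⟩
    have h' : (g : G) • a = a := h
    rcases g.2 with hg | hg
    · exact hg
    · exact absurd (h'.symm.trans hg.1) hab
  have hKidx : K.index = 2 := by
    rw [Subgroup.index_eq_two_iff]
    obtain ⟨s, s1, s2⟩ := move a b b a hab hab.symm
    obtain ⟨t, t1, t2⟩ : ∃ t : T, (t : G) • a = b ∧ (t : G) • b = a :=
      ⟨⟨s, Or.inr ⟨s1, s2⟩⟩, s1, s2⟩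
    refine ⟨t, fun g => ?_⟩
    rw [hKmem, hKmem, Subgroup.coe_mul, mul_smul, mul_smul, t1, t2]
    rcases g.2 with ⟨g1, g2⟩ | ⟨g1, g2⟩
    · exact Or.inr ⟨⟨g1, g2⟩, fun h => hab (g2.symm.trans h.1).symm⟩
    · exact Or.inl ⟨⟨g2, g1⟩, fun h => hab (h.1.symm.trans g1)⟩
  set H := K.map ρ with hH
  have hHS : H ≤ ρ.range := Subgroup.map_le_range ρ K
  have hidx : (H.subgroupOf ρ.range).index = 2 := by
    rw [hH, ← hKidx]
    have : K.map ρ = (⊤ : Subgroup T).map ρ ⊓ K.map ρ := (inf_eq_right.mpr (Subgroup.map_mono le_top)).symm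
    rw [← Subgroup.relIndex]
    rw [MonoidHom.range_eq_map, Subgroup.relIndex_map_map_of_injective _ _ hρinj,
      Subgroup.relIndex_top_right]
  have hHtr : IsPretransitive H R := ⟨fun x y => by
    obtain ⟨g, g1, g2, g3⟩ := h3 a b x y hab x.2 y.2
    exact ⟨⟨ρ ⟨g, Or.inl ⟨g1, g2⟩⟩, Subgroup.mem_map_of_mem ρ ((hKmem _).mpr ⟨g1, g2⟩)⟩,
      Subtype.ext g3⟩⟩
  have hR : Fintype.card R = q := by
    rw [Fintype.card_subtype, show (Finset.univ.filter fun x => x ≠ a ∧ x ≠ b) =
      ({a, b} : Finset Ω)ᶜ from Finset.ext fun x => by simp, Finset.card_compl,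
      Finset.card_pair hab, hcard]
    omega
  have hHins : ¬ Group.IsSolvable H := by
    intro hs
    obtain ⟨Q⟩ : Nonempty (Sylow q H) := inferInstance
    have hQn := sylow_normal_of_isSolvable (G := H) (Nat.card_eq_fintype_card.trans hR) hs Q
    obtain ⟨δ, nq, hδ, -, hnq, -, hHc⟩ :=
      exists_sylow_data (G := H) (Nat.card_eq_fintype_card.trans hR) Q
    have : Subsingleton (Sylow q H) := by
      have := Sylow.unique_of_normal Q hQn
      infer_instance
    rw [Nat.card_of_subsingleton Q] at hnq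
    subst hnq
    obtain ⟨dp, np, -, hd', -, hnp, hGc⟩ := exists_sylow_data (G := G) hΩ P
    rw [hN] at hd'
    have hdp : m = dp := Nat.eq_of_mul_eq_mul_left hp.pos hd'
    subst hdp
    have hpair : IsPretransitive G (Fin 2 ↪ Ω) := ⟨fun f f' => by
      obtain ⟨g, g0, g1⟩ := move (f 0) (f 1) (f' 0) (f' 1) (f.injective.ne (by decide))
        (f'.injective.ne (by decide))
      refine ⟨g, ?_⟩
      ext i
      fin_cases i
      · exact g0
      · exact g1⟩
    let f0 : Fin 2 ↪ Ω := ⟨![a, b], List.nodup_ofFn.mp (by simp [hab])⟩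
    have hst : Nat.card (stabilizer G f0) = Nat.card K := by
      have h0 : ∀ g : stabilizer G f0, (g : G) • a = a ∧ (g : G) • b = b := fun g =>
        ⟨congrArg (fun w : Fin 2 ↪ Ω => w 0) g.2, congrArg (fun w : Fin 2 ↪ Ω => w 1) g.2⟩
      refine Nat.card_congr ⟨fun g => ⟨⟨g, Or.inl (h0 g)⟩, (h0 g).1⟩,
        fun g => ⟨g.1, ?_⟩, fun g => rfl, fun g => rfl⟩
      rw [mem_stabilizer_iff]
      ext i
      fin_cases i
      · exact ((hKmem _).mp g.2).1
      · exact ((hKmem _).mp g.2).2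
    have hG : Nat.card G = p * (p - 1) * (q * δ) := by
      rw [← (stabilizer G f0).index_mul_card, index_stabilizer_of_transitive, hst,
        ← Subgroup.card_map_of_injective (f := ρ) hρinj, ← hH, hHc, mul_one]
      congr 1
      rw [Nat.card_eq_fintype_card, Fintype.card_embedding_eq, Fintype.card_fin, hcard]
      simp [Nat.descFactorial]
      ring
    have hnp' : np = 2 * (q * δ) := by
      rw [hG, show p - 1 = 2 * m by omega] at hGc
      refine (Nat.eq_of_mul_eq_mul_left (Nat.mul_pos hp.pos (show 0 < m by omega)) ?_).symm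
      linear_combination hGc
    have hmod : ((4 * δ + 1 : ℕ) : ZMod p) = 0 := by
      have h1 : ((np : ℕ) : ZMod p) = 1 := by rw [← ZMod.natCast_mod, hnp, Nat.cast_one]
      have h2 : ((q : ℕ) : ZMod p) = -2 := by
        have := congrArg (fun k : ℕ => (k : ZMod p)) hpq
        simp only [ZMod.natCast_self, Nat.cast_add] at this
        push_cast at this
        linear_combination -this
      rw [hnp'] at h1
      push_cast at h1 ⊢
      rw [h2] at h1
      linear_combination -h1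
    rw [ZMod.natCast_eq_zero_iff] at hmod
    obtain ⟨j, hj⟩ := hmod
    obtain ⟨i, hi⟩ := hδ
    have hδ0 : 0 < δ := by
      rcases Nat.eq_zero_or_pos δ with h | h
      · rw [h, zero_mul] at hi; omega
      · exact h
    have hi0 : 0 < i := by
      rcases Nat.eq_zero_or_pos i with h | h
      · rw [h, mul_zero] at hi; omega
      · exact h
    have hle : δ ≤ q - 1 := hi ▸ Nat.le_mul_of_pos_right δ hi0
    have hj4 : j < 4 := by
      by_contra hj4
      have : p * 4 ≤ p * j := Nat.mul_le_mul_left p (by omega)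
      omega
    have hp9 : p ≠ 9 := fun e => by rw [e] at hp; exact absurd hp (by norm_num)
    have hq9 : q ≠ 9 := fun e => by rw [e] at hq; exact absurd hq (by norm_num)
    interval_cases j
    · omega
    · -- `4 δ + 1 = p`
      rcases Nat.lt_or_ge i 5 with h | h
      · interval_cases i <;> omega
      · have : δ * 5 ≤ δ * i := Nat.mul_le_mul_left δ h
        omega
    · omega
    · rcases Nat.lt_or_ge i 2 with h | h
      · interval_cases i; omega
      · have : δ * 2 ≤ δ * i := Nat.mul_le_mul_left δ h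
        omega
  obtain ⟨s, hs, s1, s2, s3⟩ := three_transitive_of_index_two hR (by omega) ρ.range H hHS hidx
    hHins ⟨c, hc⟩ ⟨d, hd⟩ ⟨e, he⟩ ⟨c', hc'⟩ ⟨d', hd'⟩ ⟨e', he'⟩
    (fun h => hcd (congrArg Subtype.val h)) (fun h => hce (congrArg Subtype.val h))
    (fun h => hde (congrArg Subtype.val h)) (fun h => hcd' (congrArg Subtype.val h))
    (fun h => hce' (congrArg Subtype.val h)) (fun h => hde' (congrArg Subtype.val h))
  obtain ⟨g, hg, rfl⟩ := hs
  exact ⟨g, ((hKmem g).mp hg).1, ((hKmem g).mp hg).2, congrArg Subtype.val s1,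
    congrArg Subtype.val s2, congrArg Subtype.val s3⟩

end Cfsg.Agent.Perm.HalfNorm
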