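import Cfsg.Agent.EqLemmas

/-!
# Certificates for small regular subgroups of `GL(2, p)`

`Cfsg.Agent.MatTwo.card_and_regular`: a checked list certificate shows that given generators generate
a subgroup of order `p² - 1` which is regular on the non-zero vectors.
-/

namespace Cfsg.Agent.MatTwo

/-- A 2×2 matrix `(a,b,c,d)` with natural entries, read modulo `p`. -/
abbrev Q4 := ℕ × ℕ × ℕ × ℕ

/-- Product modulo `p`. -/
def qmul (p : ℕ) : Q4 → Q4 → Q4
  | (a, b, c, d), (a', b', c', d') =>
    ((a * a' + b * c') % p, (a * b' + b * d') % p, (c * a' + d * c') % p, (c * b' + d * d') % p)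

/-- The matrix of a quadruple. -/
def toMat (p : ℕ) : Q4 → Matrix (Fin 2) (Fin 2) (ZMod p)
  | (a, b, c, d) => !![(a : ZMod p), b; c, d]

theorem toMat_qmul (p : ℕ) (x y : Q4) : toMat p (qmul p x y) = toMat p x * toMat p y := by
  obtain ⟨a, b, c, d⟩ := x
  obtain ⟨a', b', c', d'⟩ := y
  ext i j
  fin_cases i <;> fin_cases j <;> simp [toMat, qmul, Matrix.mul_apply, Fin.sum_univ_two]

/-- Each entry of the second list is a product of a generator and an earlier entry. -/
def genCheck (p : ℕ) (gl : List Q4) : List Q4 → List Q4 → Bool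
  | _, [] => true
  | known, M :: rest =>
    (gl.any fun g => known.any fun K => qmul p g K == M) && genCheck p gl (M :: known) rest

/-- The list is stable under left multiplication by the generators. -/
def closedCheck (p : ℕ) (gl L : List Q4) : Bool :=
  gl.all fun g => L.all fun M => L.contains (qmul p g M)

/-- The bit set of the codes of the first columns of `c ^ k • M`. -/
def coverMask (p c m : ℕ) (L : List Q4) : ℕ :=
  ((List.range m).flatMap fun k => L.map fun M =>
      (c ^ k * M.1) % p * p + (c ^ k * M.2.2.1) % p).foldl (fun acc x => acc ||| 2 ^ x) 0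

theorem testBit_foldl (l : List ℕ) : ∀ (acc i : ℕ),
    (l.foldl (fun acc x => acc ||| 2 ^ x) acc).testBit i = true → acc.testBit i = true ∨ i ∈ l := by
  induction l with
  | nil => exact fun acc i h => Or.inl h
  | cons x l ih =>
    intro acc i h
    rcases ih _ i h with h' | h'
    · rw [Nat.testBit_or, Bool.or_eq_true] at h'
      rcases h' with h'' | h''
      · exact Or.inl h''
      · rw [Nat.testBit_two_pow, decide_eq_true_eq] at h''
        exact Or.inr (List.mem_cons.mpr (Or.inl h''.symm))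
    · exact Or.inr (List.mem_cons_of_mem _ h')

theorem mem_of_genCheck {p : ℕ} (gl : List Q4) (H : Submonoid (Matrix (Fin 2) (Fin 2) (ZMod p)))
    (hg : ∀ g ∈ gl, toMat p g ∈ H) : ∀ (rest known : List Q4), genCheck p gl known rest = true →
    (∀ K ∈ known, toMat p K ∈ H) → ∀ M ∈ rest, toMat p M ∈ H := by
  intro rest
  induction rest with
  | nil => intro known _ _ M hM; exact absurd hM List.not_mem_nil
  | cons N rest ih =>
    intro known h hk M hM
    rw [genCheck, Bool.and_eq_true] at h
    obtain ⟨h1, h2⟩ := h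
    rw [List.any_eq_true] at h1
    obtain ⟨g, hgl, h1⟩ := h1
    rw [List.any_eq_true] at h1
    obtain ⟨K, hK, h1⟩ := h1
    have hN : toMat p N ∈ H := by
      rw [← eq_of_beq h1, toMat_qmul]
      exact H.mul_mem (hg g hgl) (hk K hK)
    rcases List.mem_cons.mp hM with rfl | hM'
    · exact hN
    · exact ih _ h2 (List.forall_mem_cons.mpr ⟨hN, hk⟩) M hM'

/-- A list certificate for a subgroup of `GL(2, p)` of order `p² - 1` regular on non-zero vectors. -/
theorem card_and_regular {p : ℕ} [Fact p.Prime] (S : Set (Matrix.GeneralLinearGroup (Fin 2) (ZMod p)))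
    (gl rest : List Q4) (c m : ℕ)
    (hm : 0 < m) (hcm : c ^ m % p = 1)
    (hgl : ∀ g ∈ gl, ∃ x ∈ Subgroup.closure S,
      ((x : Matrix.GeneralLinearGroup (Fin 2) (ZMod p)) : Matrix (Fin 2) (Fin 2) (ZMod p)) = toMat p g)
    (hc : ∃ x ∈ Subgroup.closure S,
      ((x : Matrix.GeneralLinearGroup (Fin 2) (ZMod p)) : Matrix (Fin 2) (Fin 2) (ZMod p)) =
        (c : ZMod p) • 1)
    (hS : ∀ x ∈ S, (∃ g ∈ gl, (x : Matrix (Fin 2) (Fin 2) (ZMod p)) = toMat p g) ∨
      (x : Matrix (Fin 2) (Fin 2) (ZMod p)) = (c : ZMod p) • 1)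
    (hgen : genCheck p gl [(1, 0, 0, 1)] rest = true)
    (hclosed : closedCheck p gl ((1, 0, 0, 1) :: rest) = true)
    (hcover : coverMask p c m ((1, 0, 0, 1) :: rest) = 2 ^ (p * p) - 2)
    (hlen : m * (rest.length + 1) = p * p - 1) :
    Nat.card (Subgroup.closure S) = p * p - 1 ∧
      ∀ v w : Fin 2 → ZMod p, v ≠ 0 → w ≠ 0 → ∃! h : Subgroup.closure S,
        Matrix.mulVec ((h : Matrix.GeneralLinearGroup (Fin 2) (ZMod p)) :
          Matrix (Fin 2) (Fin 2) (ZMod p)) v = w := by
  classical
  set L : List Q4 := (1, 0, 0, 1) :: rest with hL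
  set H := Subgroup.closure S with hH
  have h1 : toMat p (1, 0, 0, 1) = 1 := by
    ext i j; fin_cases i <;> fin_cases j <;> simp [toMat]
  let K : Submonoid (Matrix (Fin 2) (Fin 2) (ZMod p)) :=
    H.toSubmonoid.map (Units.coeHom (Matrix (Fin 2) (Fin 2) (ZMod p)))
  have hLK : ∀ M ∈ L, toMat p M ∈ K := by
    intro M hM
    have hone : ∀ N ∈ [((1, 0, 0, 1) : Q4)], toMat p N ∈ K := by
      intro N hN
      rw [List.mem_singleton.mp hN, h1]; exact K.one_mem
    rcases List.mem_cons.mp hM with rfl | hM'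
    · exact hone _ (List.mem_singleton_self _)
    · refine mem_of_genCheck gl K (fun g hg => ?_) rest _ hgen hone M hM'
      obtain ⟨x, hx, hxg⟩ := hgl g hg
      exact ⟨x, hx, hxg⟩
  have helt : ∀ k : ℕ, ∀ M ∈ L, ∃ x : H, ((x : Matrix.GeneralLinearGroup (Fin 2) (ZMod p)) :
      Matrix (Fin 2) (Fin 2) (ZMod p)) = ((c : ZMod p) ^ k) • toMat p M := by
    intro k M hM
    obtain ⟨x, hx, hxM⟩ := hLK M hM
    obtain ⟨y, hy, hyc⟩ := hc
    refine ⟨⟨y ^ k * x, H.mul_mem (H.pow_mem hy k) hx⟩, ?_⟩
    rw [Units.val_mul, Units.val_pow_eq_pow_val, hyc, smul_pow, one_pow]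
    simp only [Units.coeHom_apply] at hxM
    rw [hxM, smul_mul_assoc, one_mul]
  have hcm' : (c : ZMod p) ^ m = 1 := by
    rw [← Nat.cast_pow, ← ZMod.natCast_mod, hcm, Nat.cast_one]
  -- every element is listed
  have hlist : ∀ x ∈ H, ∃ k < m, ∃ M ∈ L,
      ((x : Matrix.GeneralLinearGroup (Fin 2) (ZMod p)) : Matrix (Fin 2) (Fin 2) (ZMod p)) =
        ((c : ZMod p) ^ k) • toMat p M := by
    intro x hx
    rw [hH, ← Subgroup.mem_toSubmonoid, Subgroup.closure_toSubmonoid_of_finite] at hx
    induction hx using Submonoid.closure_induction_left with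
    | one => exact ⟨0, hm, _, List.mem_cons_self .., by rw [pow_zero, one_smul, h1, Units.val_one]⟩
    | mul_left s hs y hy ih =>
      obtain ⟨k, hk, M, hM, hyM⟩ := ih
      rcases hS s hs with ⟨g, hg, hsg⟩ | hsc
      · refine ⟨k, hk, qmul p g M, ?_, ?_⟩
        · rw [closedCheck, List.all_eq_true] at hclosed
          have := hclosed g hg
          rw [List.all_eq_true] at this
          exact List.contains_iff_mem.mp (this M hM)
        · rw [Units.val_mul, hsg, hyM, mul_smul_comm, toMat_qmul]
      · refine ⟨(k + 1) % m, Nat.mod_lt _ hm, M, hM, ?_⟩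
        rw [Units.val_mul, hsc, hyM, smul_mul_assoc, one_mul, smul_smul, ← pow_succ']
        congr 1
        conv_lhs => rw [← Nat.div_add_mod (k + 1) m, pow_add, pow_mul, hcm', one_pow, one_mul]
  -- the orbit map of the first basis vector
  set e : Fin 2 → ZMod p := ![1, 0] with he
  have he0 : e ≠ 0 := fun h => by simpa [he] using congrFun h 0
  have hne : ∀ (x : H), Matrix.mulVec ((x : Matrix.GeneralLinearGroup (Fin 2) (ZMod p)) :
      Matrix (Fin 2) (Fin 2) (ZMod p)) e ≠ 0 := by
    intro x h
    apply he0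
    have := congrArg (Matrix.mulVec ((x⁻¹ : H) : Matrix.GeneralLinearGroup (Fin 2) (ZMod p)).1) h
    simp only [Matrix.mulVec_mulVec, Matrix.mulVec_zero] at this
    rw [← Units.val_mul, ← Subgroup.coe_mul, inv_mul_cancel] at this
    simpa using this
  let f : H → {v : Fin 2 → ZMod p // v ≠ 0} := fun x => ⟨_, hne x⟩
  have hsurj : Function.Surjective f := by
    rintro ⟨v, hv⟩
    set i := (v 0).val * p + (v 1).val with hi
    have hp : 0 < p := (Fact.out : p.Prime).pos
    haveI : NeZero p := ⟨hp.ne'⟩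
    have hlt : i < p * p := by
      have h0 := ZMod.val_lt (v 0)
      have h1 := ZMod.val_lt (v 1)
      have h2 : ((v 0).val + 1) * p ≤ p * p := Nat.mul_le_mul_right p h0
      rw [add_mul, one_mul] at h2
      omega
    have hi0 : i ≠ 0 := by
      intro h0
      apply hv
      have hh : (v 0).val = 0 ∧ (v 1).val = 0 := by
        refine ⟨?_, by omega⟩
        rcases Nat.mul_eq_zero.mp (show (v 0).val * p = 0 by omega) with h | h
        · exact h
        · omega
      funext j
      fin_cases j
      · simpa [ZMod.val_eq_zero] using hh.1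
      · simpa [ZMod.val_eq_zero] using hh.2
    have htb : (coverMask p c m L).testBit i = true := by
      rw [hcover, show (2 : ℕ) = 1 + 1 from rfl, Nat.testBit_two_pow_sub_succ (by
        calc 1 < 2 ^ 1 := by norm_num
          _ ≤ 2 ^ (p * p) := Nat.pow_le_pow_right (by norm_num) (Nat.mul_pos hp hp))]
      simp only [hlt, decide_true, Bool.true_and, Bool.not_eq_true']
      rw [Nat.testBit_eq_decide_div_mod_eq]
      rw [Nat.div_eq_of_lt (Nat.one_lt_two_pow hi0)]
      rfl
    rcases testBit_foldl _ _ _ htb with h | h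
    · simp at h
    · rw [List.mem_flatMap] at h
      obtain ⟨k, -, h⟩ := h
      rw [List.mem_map] at h
      obtain ⟨⟨a, b, a', b'⟩, hM, hcode⟩ := h
      obtain ⟨x, hx⟩ := helt k _ hM
      refine ⟨x, Subtype.ext ?_⟩
      simp only at hcode
      have hr1 : c ^ k * a % p = (v 0).val ∧ c ^ k * a' % p = (v 1).val := by
        have hA := Nat.mod_lt (c ^ k * a') hp
        have hB := ZMod.val_lt (v 1)
        refine ⟨?_, ?_⟩
        · have := congrArg (· / p) hcode
          simpa [hi, Nat.mul_add_div hp, Nat.mul_comm _ p, Nat.div_eq_of_lt hA, Nat.div_eq_of_lt hB] using this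
        · have := congrArg (· % p) hcode
          simpa [hi, Nat.mul_add_mod', Nat.mod_eq_of_lt hA, Nat.mod_eq_of_lt hB] using this
      show Matrix.mulVec _ e = v
      rw [hx]
      funext j
      fin_cases j
      · have := congrArg (fun t : ℕ => (t : ZMod p)) hr1.1
        simpa [toMat, he, Matrix.mulVec, dotProduct, Fin.sum_univ_two] using this
      · have := congrArg (fun t : ℕ => (t : ZMod p)) hr1.2
        simpa [toMat, he, Matrix.mulVec, dotProduct, Fin.sum_univ_two] using this
  have hcardV : Nat.card {v : Fin 2 → ZMod p // v ≠ 0} = p * p - 1 := by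
    rw [Nat.card_eq_fintype_card, Fintype.card_subtype_compl, Fintype.card_subtype_eq,
      Fintype.card_fun, ZMod.card, Fintype.card_fin, pow_two]
  have hle : Nat.card H ≤ p * p - 1 := by
    rw [← hlen]
    have hget : ∀ x : H, ∃ q : Fin m × Fin L.length,
        ((x : Matrix.GeneralLinearGroup (Fin 2) (ZMod p)) : Matrix (Fin 2) (Fin 2) (ZMod p)) =
          ((c : ZMod p) ^ (q.1 : ℕ)) • toMat p L[(q.2 : ℕ)] := by
      intro x
      obtain ⟨k, hk, M, hM, hx⟩ := hlist x x.2
      obtain ⟨n, hn, rfl⟩ := List.getElem_of_mem hM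
      exact ⟨(⟨k, hk⟩, ⟨n, hn⟩), hx⟩
    choose g hg using hget
    have hinj : Function.Injective g := fun x y hxy =>
      Subtype.ext (Units.ext (by rw [hg x, hg y, hxy]))
    have := Nat.card_le_card_of_injective g hinj
    simpa [hL, Nat.card_eq_fintype_card] using this
  have hcard : Nat.card H = p * p - 1 :=
    le_antisymm hle (hcardV ▸ Nat.card_le_card_of_surjective f hsurj)
  have hbij : Function.Bijective f :=
    (Nat.bijective_iff_surjective_and_card f).mpr ⟨hsurj, hcard.trans hcardV.symm⟩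
  refine ⟨hcard, fun v w hv hw => ?_⟩
  obtain ⟨x, hx⟩ := hsurj ⟨v, hv⟩
  obtain ⟨y, hy⟩ := hsurj ⟨w, hw⟩
  have hx' := congrArg Subtype.val hx
  have hy' := congrArg Subtype.val hy
  simp only [f] at hx' hy'
  have hstab : ∀ z : H, Matrix.mulVec ((z : Matrix.GeneralLinearGroup (Fin 2) (ZMod p)) :
      Matrix (Fin 2) (Fin 2) (ZMod p)) v = w → z * x = y := by
    intro z hz
    refine hbij.1 (Subtype.ext ?_)
    show Matrix.mulVec _ e = Matrix.mulVec _ e
    rw [Subgroup.coe_mul, Units.val_mul, ← Matrix.mulVec_mulVec, hx', hz, hy']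
  refine ⟨y * x⁻¹, ?_, fun z hz => by rw [← hstab z hz, mul_inv_cancel_right]⟩
  show Matrix.mulVec _ v = w
  rw [← hx', Matrix.mulVec_mulVec, ← Units.val_mul, ← Subgroup.coe_mul, inv_mul_cancel_right, hy']

end Cfsg.Agent.MatTwo
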