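/-
Elementary algebra of near-fields (`Cfsg.NearField`) and their affine maps.
-/
import Cfsg.Agent.Lib.Perm.Regular

namespace Cfsg.Agent.Perm

variable {F : Type*} [Cfsg.NearField F]

theorem nf_add_mul (a b c : F) : (a + b) * c = a * c + b * c := Cfsg.NearField.right_distrib a b c

theorem nf_zero_mul (c : F) : (0 : F) * c = 0 := by
  have h := nf_add_mul (0 : F) 0 c
  rw [add_zero] at h
  exact add_eq_left.mp h.symm

theorem nf_mul_zero (c : F) : c * (0 : F) = 0 := Cfsg.NearField.mul_zero c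

theorem nf_neg_mul (a c : F) : -a * c = -(a * c) := by
  apply eq_neg_of_add_eq_zero_left
  rw [← nf_add_mul, neg_add_cancel, nf_zero_mul]

theorem nf_sub_mul (a b c : F) : (a - b) * c = a * c - b * c := by
  rw [sub_eq_add_neg, nf_add_mul, nf_neg_mul, ← sub_eq_add_neg]

theorem nf_mul_ne_zero {a b : F} (ha : a ≠ 0) (hb : b ≠ 0) : a * b ≠ 0 := by
  intro h
  obtain ⟨c, hc, -⟩ := Cfsg.NearField.exists_inv b hb
  apply ha
  rw [← mul_one a, ← hc, ← mul_assoc, h, nf_zero_mul]

theorem nf_eq_of_mul_eq {a x y : F} (ha : a ≠ 0) (h : x * a = y * a) : x = y := by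
  obtain ⟨c, hc, -⟩ := Cfsg.NearField.exists_inv a ha
  rw [← mul_one x, ← hc, ← mul_assoc, h, mul_assoc, hc, mul_one]

theorem nf_eq_of_mul_eq_left {a x y : F} (ha : a ≠ 0) (h : a * x = a * y) : x = y := by
  obtain ⟨c, -, hc⟩ := Cfsg.NearField.exists_inv a ha
  rw [← one_mul x, ← hc, mul_assoc, h, ← mul_assoc, hc, one_mul]

theorem nf_bijective_affine {a : F} (ha : a ≠ 0) (b : F) :
    Function.Bijective fun x : F => x * a + b := by
  obtain ⟨c, hac, hca⟩ := Cfsg.NearField.exists_inv a ha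
  refine Function.bijective_iff_has_inverse.mpr ⟨fun y => (y - b) * c, fun x => ?_, fun y => ?_⟩
  · simp [mul_assoc, hac]
  · simp [mul_assoc, hca]

end Cfsg.Agent.Perm
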