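/-
Fixed points in the pair stabilisers of a doubly transitive group.

* `PairFix.card_eq` : `|G| = n * (n - 1) * h`
* `PairFix.line_eq` : the fixed sets of pair stabilisers form a linear space
* `PairFix.pair_bound` : for `7 ≤ n`, `2 ≤ h`, the sum of `n / f g` over a pair stabiliser minus
  the identity is at least `2 * h - 1`
-/
import Cfsg.Agent.Lib.Perm.Regular
import Cfsg.Agent.Lib.Perm.SharpThreeExchange
import Cfsg.Agent.S1009

set_option autoImplicit false

open MulAction

namespace Cfsg.Agent.Perm.PairFix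

variable {G Ω : Type*} [Group G] [MulAction G Ω]

/-- The stabiliser of two points. -/
abbrev pst (G : Type*) [Group G] {Ω : Type*} [MulAction G Ω] (p q : Ω) : Subgroup G :=
  stabilizer G p ⊓ stabilizer G q

open scoped Classical in
/-- The fixed points of an element. -/
noncomputable def fixSet [Fintype Ω] (g : G) : Finset Ω := Finset.univ.filter fun x => g • x = x

open scoped Classical in
/-- The fixed points of a pair stabiliser. -/
noncomputable def line (G : Type*) [Group G] {Ω : Type*} [MulAction G Ω] [Fintype Ω] (p q : Ω) :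
    Finset Ω :=
  Finset.univ.filter fun x => ∀ g ∈ pst G p q, g • x = x

open scoped Classical in
/-- The non-identity elements of a pair stabiliser. -/
noncomputable def nontriv (G : Type*) [Group G] [Fintype G] {Ω : Type*} [MulAction G Ω] (p q : Ω) :
    Finset G :=
  Finset.univ.filter fun g => g ∈ pst G p q ∧ g ≠ 1

variable [Fintype Ω]

theorem mem_fixSet {g : G} {x : Ω} : x ∈ fixSet g ↔ g • x = x := by simp [fixSet]

theorem mem_line {p q x : Ω} : x ∈ line G p q ↔ ∀ g ∈ pst G p q, g • x = x := by simp [line]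

theorem mem_pst_iff {g : G} {p q : Ω} : g ∈ pst G p q ↔ g • p = p ∧ g • q = q := Iff.rfl

theorem left_mem_line (p q : Ω) : p ∈ line G p q := mem_line.2 fun _ hg => hg.1

theorem right_mem_line (p q : Ω) : q ∈ line G p q := mem_line.2 fun _ hg => hg.2

omit [Fintype Ω] in
theorem mem_pst_conj {g t : G} {p q : Ω} :
    g ∈ pst G (t • p) (t • q) ↔ t⁻¹ * g * t ∈ pst G p q := by
  show g • t • p = t • p ∧ g • t • q = t • q ↔ (t⁻¹ * g * t) • p = p ∧ (t⁻¹ * g * t) • q = q
  rw [mul_smul, mul_smul, mul_smul, mul_smul, inv_smul_eq_iff, inv_smul_eq_iff]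

omit [Fintype Ω] in
theorem card_pst (h2 : IsMultiplyPretransitive G Ω 2) {p q r s : Ω} (hpq : p ≠ q) (hrs : r ≠ s) :
    Nat.card (pst G p q) = Nat.card (pst G r s) := by
  obtain ⟨t, rfl, rfl⟩ := is_two_pretransitive_iff.mp h2 hpq hrs
  refine Nat.card_congr ((MulAut.conj t).toEquiv.subtypeEquiv fun g => ?_)
  show g ∈ pst G p q ↔ t * g * t⁻¹ ∈ pst G (t • p) (t • q)
  rw [mem_pst_conj]
  group

theorem line_smul (t : G) (p q : Ω) [DecidableEq Ω] :
    line G (t • p) (t • q) = (line G p q).image (t • ·) := by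
  ext x
  rw [mem_line, Finset.mem_image]
  constructor
  · intro h
    refine ⟨t⁻¹ • x, mem_line.2 fun g hg => ?_, smul_inv_smul t x⟩
    have h1 := h (t * g * t⁻¹) (mem_pst_conj.2 (by group; exact hg))
    rw [mul_smul, mul_smul] at h1
    exact eq_inv_smul_iff.2 h1
  · rintro ⟨y, hy, rfl⟩ g hg
    have h1 := mem_line.1 hy _ (mem_pst_conj.1 hg)
    rwa [mul_smul, mul_smul, inv_smul_eq_iff] at h1

theorem card_line (h2 : IsMultiplyPretransitive G Ω 2) {p q r s : Ω} (hpq : p ≠ q) (hrs : r ≠ s) :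
    (line G p q).card = (line G r s).card := by
  classical
  obtain ⟨t, rfl, rfl⟩ := is_two_pretransitive_iff.mp h2 hpq hrs
  rw [line_smul, Finset.card_image_of_injective _ (MulAction.injective t)]

theorem pst_eq_of_mem_line [Finite G] (h2 : IsMultiplyPretransitive G Ω 2) {p q r s : Ω}
    (hpq : p ≠ q) (hrs : r ≠ s) (hr : r ∈ line G p q) (hs : s ∈ line G p q) :
    pst G r s = pst G p q :=
  (Subgroup.eq_of_le_of_card_ge (fun g hg => mem_pst_iff.2 ⟨mem_line.1 hr g hg, mem_line.1 hs g hg⟩)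
    (card_pst h2 hrs hpq).le).symm

theorem line_eq [Finite G] (h2 : IsMultiplyPretransitive G Ω 2) {p q r s : Ω}
    (hpq : p ≠ q) (hrs : r ≠ s) (hr : r ∈ line G p q) (hs : s ∈ line G p q) :
    line G r s = line G p q := by
  ext x
  rw [mem_line, mem_line, pst_eq_of_mem_line h2 hpq hrs hr hs]

theorem line_subset_fixSet {g : G} {r s : Ω} (hr : g • r = r) (hs : g • s = s) :
    line G r s ⊆ fixSet g := fun _ hx => mem_fixSet.2 (mem_line.1 hx g ⟨hr, hs⟩)

variable [FaithfulSMul G Ω]

theorem fixSet_lt {g : G} (hg : g ≠ 1) : (fixSet g : Finset Ω).card < Fintype.card Ω := by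
  rw [← Finset.card_univ]
  refine Finset.card_lt_card (Finset.ssubset_univ_iff.2 fun h => hg ?_)
  refine FaithfulSMul.eq_of_smul_eq_smul (α := Ω) fun x => ?_
  rw [one_smul]
  exact mem_fixSet.1 (h ▸ Finset.mem_univ x)

omit [FaithfulSMul G Ω] in
theorem disjoint_rays [Finite G] [DecidableEq Ω] (h2 : IsMultiplyPretransitive G Ω 2) {g : G}
    {c : Ω} (hc : c ∉ fixSet g) :
    ((fixSet g : Finset Ω) : Set Ω).PairwiseDisjoint fun z => (line G c z).erase c := by
  intro z hz z' hz' hne
  rw [Function.onFun, Finset.disjoint_left]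
  intro d hd hd'
  rw [Finset.mem_erase] at hd hd'
  have hcz : c ≠ z := fun e => hc (e ▸ hz)
  have hcz' : c ≠ z' := fun e => hc (e ▸ hz')
  have e1 := line_eq h2 hcz (Ne.symm hd.1) (left_mem_line c z) hd.2
  have e2 := line_eq h2 hcz' (Ne.symm hd'.1) (left_mem_line c z') hd'.2
  have hz'L : z' ∈ line G c z := by rw [← e1, e2]; exact right_mem_line c z'
  have e3 := line_eq h2 hcz hne (right_mem_line c z) hz'L
  exact hc (line_subset_fixSet (mem_fixSet.1 hz) (mem_fixSet.1 hz')
    (e3 ▸ left_mem_line c z : c ∈ line G z z'))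

omit [FaithfulSMul G Ω] in
theorem card_rays [Finite G] [DecidableEq Ω] (h2 : IsMultiplyPretransitive G Ω 2) {g : G} {a b : Ω}
    (hab : a ≠ b) {c : Ω} (hc : c ∉ fixSet g) :
    ((fixSet g).biUnion fun z => (line G c z).erase c).card =
      (fixSet g : Finset Ω).card * ((line G a b).card - 1) := by
  rw [Finset.card_biUnion (disjoint_rays h2 hc), Finset.sum_const_nat fun z hz => ?_]
  rw [Finset.card_erase_of_mem (left_mem_line c z),
    card_line h2 (fun e => hc (by rw [e]; exact hz)) hab]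

theorem subspace_bound [Finite G] (h2 : IsMultiplyPretransitive G Ω 2) {g : G} (hg : g ≠ 1)
    {a b : Ω} (hab : a ≠ b) :
    (fixSet g : Finset Ω).card * ((line G a b).card - 1) + 1 ≤ Fintype.card Ω := by
  classical
  obtain ⟨c, hc⟩ : ∃ c, c ∉ (fixSet g : Finset Ω) := by
    by_contra h
    push Not at h
    have := fixSet_lt (Ω := Ω) hg
    rw [Finset.eq_univ_iff_forall.2 h, Finset.card_univ] at this
    exact lt_irrefl _ this
  rw [← card_rays h2 hab hc]
  have h1 : (fixSet g).biUnion (fun z => (line G c z).erase c) ⊆ Finset.univ.erase c := by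
    intro d hd
    obtain ⟨z, -, hd'⟩ := Finset.mem_biUnion.1 hd
    exact Finset.mem_erase.2 ⟨(Finset.mem_erase.1 hd').1, Finset.mem_univ d⟩
  have h3 := Finset.card_le_card h1
  rw [Finset.card_erase_of_mem (Finset.mem_univ c)] at h3
  have : 0 < Fintype.card Ω := Fintype.card_pos_iff.2 ⟨c⟩
  rw [Finset.card_univ] at h3
  omega

omit [FaithfulSMul G Ω] in
theorem card_eq [Finite G] (h2 : IsMultiplyPretransitive G Ω 2) {a b : Ω} (hab : a ≠ b) :
    Nat.card G = Fintype.card Ω * (Fintype.card Ω - 1) * Nat.card (pst G a b) := by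
  classical
  have : IsPretransitive G Ω := isPretransitive_of_is_two_pretransitive
  have h1 := (stabilizer G a).index_mul_card
  rw [index_stabilizer_of_transitive, Nat.card_eq_fintype_card (α := Ω)] at h1
  have h3 := Nat.card_congr (orbitProdStabilizerEquivGroup (stabilizer G a) b)
  rw [Nat.card_prod] at h3
  have horb : orbit (stabilizer G a) b = {a}ᶜ := by
    ext y
    constructor
    · rintro ⟨g, rfl⟩ (h : (g : G) • b = a)
      exact hab (smul_left_cancel (g : G) (g.2.trans h.symm))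
    · intro hy
      obtain ⟨g, hga, hgb⟩ := is_two_pretransitive_iff.mp h2 hab (Ne.symm hy)
      exact ⟨⟨g, hga⟩, hgb⟩
  have hc : Nat.card (stabilizer (stabilizer G a) b) = Nat.card (pst G a b) :=
    Nat.card_congr
      { toFun := fun g => ⟨(g : stabilizer G a), (g : stabilizer G a).2, g.2⟩
        invFun := fun g => ⟨⟨g, g.2.1⟩, g.2.2⟩
        left_inv := fun g => rfl
        right_inv := fun g => rfl }
  rw [horb, hc, Nat.card_coe_set_eq, Set.ncard_compl, Set.ncard_singleton,
    Nat.card_eq_fintype_card] at h3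
  rw [← h1, ← h3]
  ring

omit [FaithfulSMul G Ω] in
theorem card_nontriv [Fintype G] (p q : Ω) :
    (nontriv G p q).card + 1 = Nat.card (pst G p q) := by
  classical
  rw [show Nat.card (pst G p q) = ((pst G p q : Set G)).ncard from Nat.card_coe_set_eq _,
    Set.ncard_eq_toFinset_card', ← Finset.card_erase_add_one (s := (pst G p q : Set G).toFinset) (a := 1) (by simp)]
  congr 2
  ext g
  simp [nontriv, and_comm]

omit [FaithfulSMul G Ω] in
theorem sum_nontriv [Fintype G] (p q : Ω) :
    ∑ g ∈ nontriv G p q, (fixSet g : Finset Ω).card + Fintype.card Ω =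
      Nat.card (orbitRel.Quotient (pst G p q) Ω) * Nat.card (pst G p q) := by
  classical
  have h := sum_card_fixedBy_eq_card_orbits_mul_card_group (pst G p q) Ω
  rw [Nat.card_eq_fintype_card, Nat.card_eq_fintype_card, ← h,
    ← Finset.sum_erase_add _ _ (Finset.mem_univ (1 : pst G p q))]
  congr 1
  · refine Finset.sum_bij' (fun g hg => (⟨g, (Finset.mem_filter.1 hg).2.1⟩ : pst G p q))
      (fun g _ => (g : G)) (fun g hg => Finset.mem_erase.2
        ⟨fun e => (Finset.mem_filter.1 hg).2.2 (congrArg Subtype.val e), Finset.mem_univ _⟩)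
      (fun g hg => Finset.mem_filter.2 ⟨Finset.mem_univ _, g.2,
        fun e => (Finset.mem_erase.1 hg).1 (Subtype.ext e)⟩)
      (fun g _ => rfl) (fun g _ => rfl) (fun g _ => ?_)
    rw [← Set.toFinset_card]
    congr 1
    ext x
    simp [fixSet, Subgroup.smul_def]
  · rw [← Finset.card_univ, ← Set.toFinset_card]
    congr 1
    ext x
    simp

omit [FaithfulSMul G Ω] in
/-- The orbit sizes of a pair stabiliser. -/
theorem orbit_shape [Finite G] (a b : Ω) :
    ∃ e : ℕ, Fintype.card Ω + (line G a b).card =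
        2 * Nat.card (orbitRel.Quotient (pst G a b) Ω) + e ∧
      (∀ x : Ω, Nat.card (orbit (pst G a b) x) ≤ 2 + e) ∧
      (e = 1 → ∃ c : Ω, Nat.card (orbit (pst G a b) c) = 3 ∧
        ∀ x, x ∉ orbit (pst G a b) c → Nat.card (orbit (pst G a b) x) ≤ 2) := by
  classical
  set K := pst G a b with hK
  set s : orbitRel.Quotient K Ω → ℕ := fun w => Nat.card (orbitRel.Quotient.orbit w) with hs
  have hrep : ∀ x : Ω, s (Quotient.mk'' x) = Nat.card (orbit K x) := fun x => by
    simp only [hs, orbitRel.Quotient.orbit_mk]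
  have hn : Fintype.card Ω = ∑ w, s w := by
    rw [← Nat.card_eq_fintype_card, Nat.card_congr (selfEquivSigmaOrbits' K Ω), Nat.card_sigma]
  have hs1 : ∀ w, 1 ≤ s w := by
    intro w
    induction w using Quotient.inductionOn' with
    | h x =>
      rw [hrep]
      haveI : Nonempty (orbit K x) := ⟨⟨x, mem_orbit_self x⟩⟩
      exact Nat.card_pos
  have hmem : ∀ x : Ω, x ∈ line G a b ↔ s (Quotient.mk'' x) = 1 := by
    intro x
    rw [hrep, mem_line, Nat.card_eq_one_iff_unique]
    constructor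
    · intro h
      refine ⟨⟨fun u v => ?_⟩, ⟨⟨x, mem_orbit_self x⟩⟩⟩
      obtain ⟨⟨_, g, rfl⟩, ⟨_, k, rfl⟩⟩ := u, v
      exact Subtype.ext ((h _ g.2).trans (h _ k.2).symm)
    · intro h g hg
      exact congrArg Subtype.val
        (h.1.elim ⟨g • x, mem_orbit_iff.2 ⟨⟨g, hg⟩, rfl⟩⟩ ⟨x, mem_orbit_self x⟩)
  have hF : (line G a b).card = (Finset.univ.filter fun w => s w = 1).card := by
    refine Finset.card_bij (fun x _ => Quotient.mk'' x)
      (fun x hx => Finset.mem_filter.2 ⟨Finset.mem_univ _, (hmem x).1 hx⟩) ?_ ?_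
    · intro x hx y hy hxy
      obtain ⟨g, hg⟩ := orbitRel_apply.1 (Quotient.exact' hxy)
      exact hg.symm.trans (mem_line.1 hy g g.2)
    · intro w
      induction w using Quotient.inductionOn' with
      | h x => exact fun hw => ⟨x, (hmem x).2 (Finset.mem_filter.1 hw).2, rfl⟩
  refine ⟨∑ w, (s w - 2), ?_, fun x => ?_, fun he => ?_⟩
  · rw [hn, hF, Finset.card_filter, ← Finset.sum_add_distrib, Nat.card_eq_fintype_card,
      ← Finset.card_univ, Finset.card_eq_sum_ones, Finset.mul_sum, ← Finset.sum_add_distrib]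
    refine Finset.sum_congr rfl fun w _ => ?_
    have := hs1 w
    split_ifs <;> omega
  · have := Finset.single_le_sum (f := fun w => s w - 2) (fun w _ => Nat.zero_le _)
      (Finset.mem_univ (Quotient.mk'' x : orbitRel.Quotient K Ω))
    rw [← hrep]
    omega
  · obtain ⟨w, -, hw⟩ : ∃ w ∈ (Finset.univ : Finset (orbitRel.Quotient K Ω)), s w - 2 ≠ 0 :=
      Finset.exists_ne_zero_of_sum_ne_zero (by omega)
    induction w using Quotient.inductionOn' with
    | h c =>
      have hc := Finset.add_sum_erase _ (fun w => s w - 2)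
        (Finset.mem_univ (Quotient.mk'' c : orbitRel.Quotient K Ω))
      refine ⟨c, ?_, fun x hx => ?_⟩
      · rw [← hrep]
        omega
      · have hne : (Quotient.mk'' x : orbitRel.Quotient K Ω) ≠ Quotient.mk'' c := fun h =>
          hx (orbitRel_apply.1 (Quotient.exact' h))
        have := Finset.single_le_sum (f := fun w => s w - 2) (fun w _ => Nat.zero_le _)
          (Finset.mem_erase.2 ⟨hne, Finset.mem_univ (Quotient.mk'' x : orbitRel.Quotient K Ω)⟩)
        rw [← hrep]
        omega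

omit [FaithfulSMul G Ω] [Fintype Ω] in
theorem smul_cases [Finite Ω] {K : Subgroup G} {x : Ω} (h : Nat.card (orbit K x) ≤ 2)
    (g k : K) : g • x = x ∨ k • x = x ∨ g • x = k • x := by
  classical
  by_contra hcon
  push Not at hcon
  have hsub : ({x, g • x, k • x} : Set Ω) ⊆ orbit K x := by
    simp [Set.insert_subset_iff, mem_orbit_self]
  have h3 := Set.ncard_le_ncard hsub (Set.toFinite _)
  rw [← Nat.card_coe_set_eq (orbit K x), Set.ncard_eq_three.2
    ⟨x, g • x, k • x, hcon.1.symm, hcon.2.1.symm, hcon.2.2, rfl⟩] at h3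
  omega

omit [Fintype Ω] in
theorem sq_eq_one [Finite Ω] {a b : Ω} (h : ∀ x : Ω, Nat.card (orbit (pst G a b) x) ≤ 2) {g : G}
    (hg : g ∈ pst G a b) : g * g = 1 := by
  refine FaithfulSMul.eq_of_smul_eq_smul (α := Ω) fun x => ?_
  rw [one_smul, mul_smul]
  by_cases h1 : g • x = x
  · rw [h1, h1]
  rcases smul_cases (h x) ⟨g, hg⟩ (⟨g, hg⟩ * ⟨g, hg⟩) with e | e | e
  · exact absurd e h1
  · rwa [mul_smul] at e
  · rw [mul_smul] at e
    exact absurd (smul_left_cancel g e).symm h1

omit [Fintype Ω] in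
theorem pst_mul_comm [Finite Ω] (h2 : IsMultiplyPretransitive G Ω 2) {a b : Ω} (hab : a ≠ b)
    (h : ∀ x : Ω, Nat.card (orbit (pst G a b) x) ≤ 2) {r s : Ω} (hrs : r ≠ s) {g k : G}
    (hg : g ∈ pst G r s) (hk : k ∈ pst G r s) : g * k = k * g := by
  obtain ⟨t, rfl, rfl⟩ := is_two_pretransitive_iff.mp h2 hab hrs
  rw [mem_pst_conj] at hg hk
  have h1 := sq_eq_one h hg
  have h3 := sq_eq_one h hk
  have h5 := sq_eq_one h (mul_mem hg hk)
  have hinv : ∀ u : G, u * u = 1 → u⁻¹ = u := fun u hu => (eq_inv_of_mul_eq_one_left hu).symm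
  have h6 := hinv _ h5
  rw [mul_inv_rev, hinv _ h1, hinv _ h3] at h6
  calc g * k = t * ((t⁻¹ * g * t) * (t⁻¹ * k * t)) * t⁻¹ := by group
    _ = t * ((t⁻¹ * k * t) * (t⁻¹ * g * t)) * t⁻¹ := by rw [h6]
    _ = k * g := by group

theorem case_brodkey [Finite G] (h2 : IsMultiplyPretransitive G Ω 2) {a b : Ω} (hab : a ≠ b)
    (h : ∀ x : Ω, Nat.card (orbit (pst G a b) x) ≤ 2) (heven : Even (Fintype.card Ω)) :
    Nat.card (pst G a b) ≤ 2 := by
  classical
  haveI : Fact (Nat.Prime 2) := ⟨Nat.prime_two⟩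
  set X := stabilizer G a
  set K' := stabilizer X b with hK'
  have htr : ∀ c : Ω, c ≠ a → ∃ t : X, t • b = c := by
    intro c hc
    obtain ⟨g, hga, hgb⟩ := is_two_pretransitive_iff.mp h2 hab hc.symm
    exact ⟨⟨g, hga⟩, hgb⟩
  have hmem : ∀ k : X, k ∈ K' ↔ (k : G) ∈ pst G a b := fun k => ⟨fun hk => ⟨k.2, hk⟩, fun hk => hk.2⟩
  have hp : IsPGroup 2 K' := fun k => ⟨1, by
    refine Subtype.ext (Subtype.ext ?_)
    rw [pow_one, pow_two, Subgroup.coe_mul, Subgroup.coe_mul]
    exact sq_eq_one h ((hmem k.1).1 k.2)⟩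
  have horb : orbit X b = {a}ᶜ := by
    ext y
    constructor
    · rintro ⟨g, rfl⟩ (hy : (g : G) • b = a)
      exact hab (smul_left_cancel (g : G) (g.2.trans hy.symm))
    · intro hy
      exact htr y hy
  have hidx : ¬ 2 ∣ K'.index := by
    rw [hK', index_stabilizer, horb, Set.ncard_compl, Set.ncard_singleton,
      Nat.card_eq_fintype_card]
    have : 0 < Fintype.card Ω := Fintype.card_pos_iff.2 ⟨a⟩
    obtain ⟨m, hm⟩ := heven
    omega
  set P₀ := hp.toSylow hidx with hP₀
  have hP₀c : ((P₀ : Sylow 2 X) : Subgroup X) = K' := rfl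
  have hall : ∀ P : Sylow 2 X, ∃ c, c ≠ a ∧ (P : Subgroup X) = stabilizer X c := by
    intro P
    obtain ⟨t, ht⟩ := exists_smul_eq X P₀ P
    refine ⟨t • b, fun e => hab (smul_left_cancel (t : G) (t.2.trans e.symm)), ?_⟩
    rw [← ht, stabilizer_smul_eq_stabilizer_map_conj, ← hK', ← hP₀c, Sylow.coe_subgroup_smul]
    rfl
  have hab2 : ∀ P : Sylow 2 X, IsMulCommutative (P : Subgroup X) := by
    intro P
    obtain ⟨c, hca, hPc⟩ := hall P
    rw [hPc]
    refine ⟨⟨fun u v => Subtype.ext (Subtype.ext ?_)⟩⟩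
    exact pst_mul_comm h2 hab h hca.symm ⟨u.1.2, u.2⟩ ⟨v.1.2, v.2⟩
  obtain ⟨P, Q, hPQ⟩ := S1009.result 2 hab2
  have hbot : (⨅ R : Sylow 2 X, (R : Subgroup X)) = ⊥ := by
    rw [Subgroup.eq_bot_iff_forall]
    intro k hk
    refine Subtype.ext (FaithfulSMul.eq_of_smul_eq_smul (α := Ω) fun x => ?_)
    rw [Subgroup.coe_one, one_smul]
    by_cases hx : x = a
    · rw [hx]; exact k.2
    · obtain ⟨t, rfl⟩ := htr x hx
      have hk' := Subgroup.mem_iInf.1 hk (t • P₀)
      have : k ∈ stabilizer X (t • b) := by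
        rw [stabilizer_smul_eq_stabilizer_map_conj, ← hK', ← hP₀c]
        exact hk'
      exact this
  rw [hbot] at hPQ
  obtain ⟨c, hca, hPc⟩ := hall P
  obtain ⟨d, hda, hQd⟩ := hall Q
  obtain ⟨t, ht⟩ := htr c hca
  set d' : Ω := t⁻¹ • d with hd'
  have hK'd : ∀ k : X, k • b = b → k • d' = d' → k = 1 := by
    intro k hkb hkd
    have h1 : t * k * t⁻¹ ∈ (P : Subgroup X) ⊓ (Q : Subgroup X) := by
      refine ⟨?_, ?_⟩
      · rw [hPc]
        show (t * k * t⁻¹) • c = c
        rw [← ht, mul_smul, mul_smul, inv_smul_smul, hkb]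
      · rw [hQd]
        show (t * k * t⁻¹) • d = d
        rw [mul_smul, mul_smul, ← hd', hkd, hd', smul_inv_smul]
    rw [hPQ, Subgroup.mem_bot] at h1
    exact conj_eq_one_iff.1 h1
  refine le_trans (Nat.card_le_card_of_injective
    (fun k : pst G a b => (⟨k • d', mem_orbit _ k⟩ : orbit (pst G a b) d')) ?_) (h d')
  intro k l hkl
  have h1 : k • d' = l • d' := congrArg Subtype.val hkl
  have h3 := hK'd ⟨((l⁻¹ * k : pst G a b) : G), (l⁻¹ * k).2.1⟩ (l⁻¹ * k).2.2 (by
    show (l⁻¹ * k) • d' = d'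
    rw [mul_smul, h1, inv_smul_smul])
  have h4 : l⁻¹ * k = 1 := Subtype.ext (congrArg (fun z : X => (z : G)) h3 :)
  exact (inv_mul_eq_one.1 h4).symm

theorem case_three [Finite G] (h2 : IsMultiplyPretransitive G Ω 2) (hn : 7 ≤ Fintype.card Ω)
    {a b : Ω} (hab : a ≠ b) (hF : (line G a b).card ≤ 3) {c : Ω}
    (hc : Nat.card (orbit (pst G a b) c) = 3)
    (hother : ∀ x, x ∉ orbit (pst G a b) c → Nat.card (orbit (pst G a b) x) ≤ 2) : False := by
  classical
  haveI : Fact (Nat.Prime 3) := ⟨Nat.prime_three⟩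
  haveI : IsPretransitive G Ω := isPretransitive_of_is_two_pretransitive
  set K := pst G a b
  have hdvd : 3 ∣ Nat.card K := hc ▸ ⟨Nat.card (stabilizer K c), by
    rw [← Nat.card_prod]; exact (Nat.card_congr (orbitProdStabilizerEquivGroup K c)).symm⟩
  obtain ⟨k, hk⟩ := exists_prime_orderOf_dvd_card' 3 hdvd
  have hfix : ∀ x, x ∉ orbit K c → k • x = x := by
    intro x hx
    have hk3 : k * (k * k) = 1 := by
      have h0 := pow_orderOf_eq_one k
      rw [hk, pow_succ', pow_two] at h0
      exact h0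
    rcases smul_cases (hother x hx) k (k * k) with e | e | e
    · exact e
    · calc k • x = k • (k * k) • x := by rw [e]
        _ = x := by rw [← mul_smul, hk3, one_smul]
    · rw [mul_smul] at e
      exact (smul_left_cancel k e).symm
  have hkG : orderOf (k : G) = 3 := by rw [Subgroup.orderOf_coe, hk]
  have hk1 : (k : G) ≠ 1 := fun e => by rw [e, orderOf_one] at hkG; omega
  set σ : Equiv.Perm Ω := MulAction.toPermHom G Ω (k : G) with hσ
  have hsupp : σ.support ⊆ (orbit K c).toFinset := by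
    intro x hx
    rw [Set.mem_toFinset]
    by_contra hx'
    exact (Equiv.Perm.mem_support.1 hx) (hfix x hx')
  have hscard : σ.support.card ≤ 3 := by
    refine (Finset.card_le_card hsupp).trans ?_
    rw [Set.toFinset_card, ← Nat.card_eq_fintype_card, hc]
  have hσo : orderOf σ = 3 := by
    rw [hσ, orderOf_injective _ (fun g l e => FaithfulSMul.eq_of_smul_eq_smul (α := Ω)
      fun x => Equiv.Perm.ext_iff.1 e x), hkG]
  have hfcard : Fintype.card Ω ≤ (fixSet (k : G) : Finset Ω).card + 3 := by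
    have h1 : (orbit K c).toFinsetᶜ ⊆ fixSet (k : G) := fun x hx =>
      mem_fixSet.2 (hfix x (by simpa using hx))
    have h3 := Finset.card_le_card h1
    rw [Finset.card_compl, Set.toFinset_card, ← Nat.card_eq_fintype_card (α := orbit K c), hc] at h3
    omega
  have hsub := subspace_bound h2 hk1 hab
  rcases Nat.lt_or_ge (line G a b).card 3 with hF2 | hF3
  swap
  · rw [le_antisymm hF hF3] at hsub
    omega
  have h3c : σ.IsThreeCycle := by
    rw [← card_support_eq_three_iff]
    rcases Nat.lt_or_ge σ.support.card 3 with hlt | hge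
    · exfalso
      rcases Nat.lt_or_ge σ.support.card 2 with hlt2 | hge2
      · have : σ = 1 := Equiv.Perm.card_support_le_one.1 (by omega)
        rw [this, orderOf_one] at hσo
        omega
      · have := (Equiv.Perm.card_support_eq_two.1 (by omega : σ.support.card = 2)).orderOf
        omega
    · omega
  have hprim : IsPreprimitive (MulAction.toPermHom G Ω).range Ω := by
    refine isPreprimitive_of_is_two_pretransitive (is_two_pretransitive_iff.2 ?_)
    intro p q r s hpq hrs
    obtain ⟨g, hg1, hg2⟩ := is_two_pretransitive_iff.mp h2 hpq hrs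
    exact ⟨⟨_, g, rfl⟩, hg1, hg2⟩
  have halt := Equiv.Perm.alternatingGroup_le_of_isPreprimitive_of_isThreeCycle_mem hprim h3c
    ⟨(k : G), rfl⟩
  -- a point outside the line and the long orbit
  have hab2 : 2 ≤ (line G a b).card := by
    rw [← Finset.card_pair hab]
    exact Finset.card_le_card (by simp [Finset.insert_subset_iff, left_mem_line, right_mem_line])
  obtain ⟨d, hd⟩ : ((line G a b ∪ (orbit K c).toFinset)ᶜ).Nonempty := by
    rw [← Finset.card_pos, Finset.card_compl]
    have := Finset.card_union_le (line G a b) (orbit K c).toFinset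
    rw [Set.toFinset_card, ← Nat.card_eq_fintype_card (α := orbit K c), hc] at this
    omega
  simp only [Finset.mem_compl, Finset.mem_union, Set.mem_toFinset, not_or] at hd
  obtain ⟨e, he⟩ : (({a, b, c, d} : Finset Ω)ᶜ).Nonempty := by
    rw [← Finset.card_pos, Finset.card_compl]
    have := Finset.card_le_four (a := a) (b := b) (c := c) (d := d)
    omega
  simp only [Finset.mem_compl, Finset.mem_insert, Finset.mem_singleton, not_or] at he
  have hca : c ≠ a ∧ c ≠ b := by
    have hne : ∀ x : Ω, (∀ g : K, (g : G) • x = x) → c ≠ x := by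
      intro x hx e'
      have h1 : orbit K c ⊆ {c} := by
        intro y hy
        obtain ⟨g, hgy⟩ := mem_orbit_iff.1 hy
        rw [Set.mem_singleton_iff, ← hgy, Subgroup.smul_def, e', hx g]
      have h3 := Set.ncard_le_ncard h1 (Set.toFinite _)
      rw [Set.ncard_singleton, ← Nat.card_coe_set_eq, hc] at h3
      omega
    exact ⟨hne a fun g => g.2.1, hne b fun g => g.2.2⟩
  have hdc : c ≠ d := fun e' => hd.2 (by rw [← e']; exact mem_orbit_self c)
  have hda : d ≠ a := fun e' => hd.1 (by rw [e']; exact left_mem_line a b)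
  have hdb : d ≠ b := fun e' => hd.1 (by rw [e']; exact right_mem_line a b)
  set τ : Equiv.Perm Ω := Equiv.swap c d * Equiv.swap c e with hτ
  have hτA : τ ∈ alternatingGroup Ω := by
    rw [Equiv.Perm.mem_alternatingGroup, hτ, map_mul, Equiv.Perm.sign_swap hdc,
      Equiv.Perm.sign_swap (Ne.symm he.2.2.1)]
    rfl
  obtain ⟨g, hg⟩ := halt hτA
  have happ : ∀ x, g • x = τ x := fun x => by rw [← hg]; rfl
  have hga : g • a = a := by
    rw [happ, hτ, Equiv.Perm.mul_apply, Equiv.swap_apply_of_ne_of_ne hca.1.symm (Ne.symm he.1),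
      Equiv.swap_apply_of_ne_of_ne hca.1.symm hda.symm]
  have hgb : g • b = b := by
    rw [happ, hτ, Equiv.Perm.mul_apply, Equiv.swap_apply_of_ne_of_ne hca.2.symm (Ne.symm he.2.1),
      Equiv.swap_apply_of_ne_of_ne hca.2.symm hdb.symm]
  have hge : g • e = d := by
    rw [happ, hτ, Equiv.Perm.mul_apply, Equiv.swap_apply_right, Equiv.swap_apply_left]
  have hgc : g • c = e := by
    rw [happ, hτ, Equiv.Perm.mul_apply, Equiv.swap_apply_left,
      Equiv.swap_apply_of_ne_of_ne he.2.2.1 he.2.2.2]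
  exact hd.2 (mem_orbit_iff.2 ⟨(⟨g * g, mul_mem ⟨hga, hgb⟩ ⟨hga, hgb⟩⟩ : K), by
    show (g * g) • c = d
    rw [mul_smul, hgc, hge]⟩)

theorem case_hyperplane [Finite G] (h2 : IsMultiplyPretransitive G Ω 2) (hn : 9 ≤ Fintype.card Ω)
    {a b : Ω} (hab : a ≠ b) (h : ∀ x : Ω, Nat.card (orbit (pst G a b) x) ≤ 2)
    (hF : (line G a b).card = 3) {g : G} (hg : g ∈ pst G a b) (hg1 : g ≠ 1)
    (hf : 2 * (fixSet g : Finset Ω).card + 1 = Fintype.card Ω) : False := by
  classical
  haveI : IsPretransitive G Ω := isPretransitive_of_is_two_pretransitive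
  have hfix : ∀ t : G, ∀ x : Ω, x ∈ fixSet (t * g * t⁻¹) ↔ t⁻¹ • x ∈ fixSet g := fun t x => by
    rw [mem_fixSet, mem_fixSet, mul_smul, mul_smul, ← eq_inv_smul_iff]
  have hfcard : ∀ t : G, (fixSet (t * g * t⁻¹) : Finset Ω).card = (fixSet g : Finset Ω).card := by
    intro t
    rw [show fixSet (t * g * t⁻¹) = (fixSet g : Finset Ω).image (t • ·) by
      ext x
      rw [hfix, Finset.mem_image]
      exact ⟨fun hx => ⟨_, hx, smul_inv_smul t x⟩,
        fun ⟨y, hy, e⟩ => by rw [← e, inv_smul_smul]; exact hy⟩]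
    exact Finset.card_image_of_injective _ (MulAction.injective t)
  have hcover : ∀ c d : Ω, c ∉ fixSet g → d ≠ c → ∃ z ∈ fixSet g, d ∈ line G c z := by
    intro c d hc hdc
    have h1 := card_rays h2 hab hc
    rw [hF] at h1
    have h3 : (fixSet g).biUnion (fun z => (line G c z).erase c) = Finset.univ.erase c := by
      refine Finset.eq_of_subset_of_card_le ?_ ?_
      · intro e he
        obtain ⟨z, -, he'⟩ := Finset.mem_biUnion.1 he
        exact Finset.mem_erase.2 ⟨(Finset.mem_erase.1 he').1, Finset.mem_univ e⟩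
      · rw [h1, Finset.card_erase_of_mem (Finset.mem_univ c), Finset.card_univ]
        omega
    have hd : d ∈ (fixSet g).biUnion fun z => (line G c z).erase c := by
      rw [h3]
      exact Finset.mem_erase.2 ⟨hdc, Finset.mem_univ d⟩
    obtain ⟨z, hz, hd'⟩ := Finset.mem_biUnion.1 hd
    exact ⟨z, hz, (Finset.mem_erase.1 hd').2⟩
  -- every conjugate commutes with `g`
  have hcomm : ∀ t : G, t * g * t⁻¹ * g = g * (t * g * t⁻¹) := by
    intro t
    set y := t * g * t⁻¹ with hy
    rcases Nat.lt_or_ge ((fixSet y : Finset Ω) ∩ fixSet g).card 2 with hlt | hge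
    · exfalso
      have h1 : 2 < (fixSet y \ fixSet g : Finset Ω).card := by
        have := Finset.card_sdiff_add_card_inter (fixSet y : Finset Ω) (fixSet g)
        rw [hfcard t] at this
        omega
      obtain ⟨c, d, e, hc, hd, he, hcd, hce, hde⟩ := Finset.two_lt_card_iff.1 h1
      rw [Finset.mem_sdiff] at hc hd he
      obtain ⟨z, hz, hdz⟩ := hcover c d hc.2 hcd.symm
      obtain ⟨w, hw, hew⟩ := hcover c e hc.2 hce.symm
      have hcz : c ≠ z := fun e' => hc.2 (e' ▸ hz)
      have hcw : c ≠ w := fun e' => hc.2 (e' ▸ hw)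
      have e1 := line_eq h2 hcz hcd (left_mem_line c z) hdz
      have e2 := line_eq h2 hcw hce (left_mem_line c w) hew
      have hzy : z ∈ fixSet y := line_subset_fixSet (mem_fixSet.1 hc.1) (mem_fixSet.1 hd.1)
        (e1.symm ▸ right_mem_line c z)
      have hwy : w ∈ fixSet y := line_subset_fixSet (mem_fixSet.1 hc.1) (mem_fixSet.1 he.1)
        (e2.symm ▸ right_mem_line c w)
      have hzw : z = w := Finset.card_le_one.1 (by omega : ((fixSet y : Finset Ω) ∩ fixSet g).card ≤ 1)
        z (Finset.mem_inter.2 ⟨hzy, hz⟩) w (Finset.mem_inter.2 ⟨hwy, hw⟩)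
      subst hzw
      have h4 : ({c, d, e, z} : Finset Ω) ⊆ line G c z := by
        simp [Finset.insert_subset_iff, left_mem_line, right_mem_line, hdz, hew]
      have h5 := Finset.card_le_card h4
      rw [card_line h2 hcz hab, hF] at h5
      have hdz' : d ≠ z := fun e' => hd.2 (e' ▸ hz)
      have hez : e ≠ z := fun e' => he.2 (e' ▸ hz)
      rw [Finset.card_insert_of_notMem (by simp [hcd, hce, hcz]),
        Finset.card_insert_of_notMem (by simp [hde, hdz']), Finset.card_pair hez] at h5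
      omega
    · obtain ⟨r, hr, s, hs, hrs⟩ := Finset.one_lt_card.1 hge
      rw [Finset.mem_inter, mem_fixSet, mem_fixSet] at hr hs
      exact pst_mul_comm h2 hab h hrs ⟨hr.1, hs.1⟩ ⟨hr.2, hs.2⟩
  set A := Subgroup.normalClosure ({g} : Set G) with hA
  have hab' : IsMulCommutative A := by
    rw [hA, Subgroup.normalClosure]
    refine Subgroup.isMulCommutative_closure fun x hx y hy => ?_
    rw [Group.mem_conjugatesOfSet_iff] at hx hy
    obtain ⟨x₀, hx₀, hx⟩ := hx
    obtain ⟨y₀, hy₀, hy⟩ := hy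
    rw [Set.mem_singleton_iff.1 hx₀] at hx
    rw [Set.mem_singleton_iff.1 hy₀] at hy
    obtain ⟨s, rfl⟩ := isConj_iff.1 hx
    obtain ⟨t, rfl⟩ := isConj_iff.1 hy
    have h0 := hcomm (s⁻¹ * t)
    calc s * g * s⁻¹ * (t * g * t⁻¹)
        = s * (g * (s⁻¹ * t * g * (s⁻¹ * t)⁻¹)) * s⁻¹ := by group
      _ = s * (s⁻¹ * t * g * (s⁻¹ * t)⁻¹ * g) * s⁻¹ := by rw [h0]
      _ = t * g * t⁻¹ * (s * g * s⁻¹) := by group
  haveI : IsPreprimitive G Ω := isPreprimitive_of_is_two_pretransitive h2
  have hgA : g ∈ A := Subgroup.subset_normalClosure rfl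
  have htr := isPretransitive_of_normal_ne_bot (X := Ω) (N := A) (fun e => hg1 (by
    rw [e, Subgroup.mem_bot] at hgA; exact hgA))
  have hbot := stabilizer_eq_bot_of_isMulCommutative htr hab' a
  have : (⟨g, hgA⟩ : A) ∈ stabilizer A a := hg.1
  rw [hbot, Subgroup.mem_bot] at this
  exact hg1 (congrArg Subtype.val this)

theorem no_eighty_four [Finite G] (h2 : IsMultiplyPretransitive G Ω 2)
    (hn : Fintype.card Ω = 7) {a b : Ω} (hab : a ≠ b) (hh : Nat.card (pst G a b) = 2) : False := by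
  classical
  haveI : Fact (Nat.Prime 7) := ⟨by norm_num⟩
  haveI : IsPreprimitive G Ω := isPreprimitive_of_is_two_pretransitive h2
  have hG := card_eq h2 hab
  rw [hn, hh] at hG
  norm_num at hG
  obtain ⟨P⟩ : Nonempty (Sylow 7 G) := inferInstance
  have hP : Nat.card P = 7 := by
    rw [P.card_eq_multiplicity, hG, show (84 : ℕ) = 7 * 12 by norm_num,
      Nat.factorization_mul (by norm_num) (by norm_num), Finsupp.add_apply,
      Nat.Prime.factorization_self (by norm_num),
      Nat.factorization_eq_zero_of_not_dvd (by norm_num)]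
    norm_num
  have hPi : (P : Subgroup G).index = 12 := by
    have := (P : Subgroup G).index_mul_card
    rw [show Nat.card (P : Subgroup G) = 7 from hP, hG] at this
    omega
  haveI : Subsingleton (Sylow 7 G) := by
    have h1 := card_sylow_modEq_one 7 G
    have h3 := Nat.le_of_dvd (by norm_num) (hPi ▸ P.card_dvd_index)
    have h4 := hPi ▸ P.card_dvd_index
    have : Nat.card (Sylow 7 G) = 1 := by
      have hpos : 0 < Nat.card (Sylow 7 G) := Nat.card_pos
      rw [Nat.ModEq] at h1
      generalize Nat.card (Sylow 7 G) = m at h1 h3 h4 hpos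
      interval_cases m <;> omega
    exact (Nat.card_eq_one_iff_unique.mp this).1
  haveI : (P : Subgroup G).Normal := P.normal_of_subsingleton
  have hPne : (P : Subgroup G) ≠ ⊥ := fun e => by
    have h7 : Nat.card (P : Subgroup G) = 7 := hP
    rw [e, Subgroup.card_bot] at h7
    omega
  have htr := isPretransitive_of_normal_ne_bot (X := Ω) hPne
  haveI : IsCyclic (P : Subgroup G) := isCyclic_of_prime_card (hP : Nat.card (P : Subgroup G) = 7)
  have hPc : IsMulCommutative (P : Subgroup G) := ⟨⟨IsCyclic.commGroup.mul_comm⟩⟩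
  have hreg := stabilizer_eq_bot_of_isMulCommutative htr hPc
  obtain ⟨u, hu⟩ := exists_smul_eq (P : Subgroup G) a b
  have hu1 : u ≠ 1 := fun e => hab (by rw [← hu, e, one_smul])
  obtain ⟨k, hk⟩ : ∃ k : pst G a b, k ≠ 1 := by
    haveI := Finite.one_lt_card_iff_nontrivial.mp (hh.symm ▸ one_lt_two)
    exact exists_ne 1
  have hcu : Commute (k : G) (u : G) := by
    have h1 : (⟨(k : G) * u * (k : G)⁻¹, Subgroup.Normal.conj_mem inferInstance _ u.2 k⟩ :
        (P : Subgroup G)) = u := by
      refine eq_of_smul_eq_of_regular hreg (a := a) ?_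
      rw [Subgroup.smul_def, conj_smul_of_fix _ k.2.1]
      show (k : G) • (u : G) • a = u • a
      rw [show (u : G) • a = b from hu, k.2.2, hu]
    exact mul_inv_eq_iff_eq_mul.1 (congrArg Subtype.val h1)
  apply hk
  refine Subtype.ext (FaithfulSMul.eq_of_smul_eq_smul (α := Ω) fun x => ?_)
  rw [Subgroup.coe_one, one_smul]
  obtain ⟨v, rfl⟩ := exists_smul_eq (P : Subgroup G) a x
  obtain ⟨i, rfl⟩ := Subgroup.mem_zpowers_iff.1 (mem_zpowers_of_prime_card
    (hP : Nat.card (P : Subgroup G) = 7) (g' := v) hu1)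
  rw [Subgroup.smul_def, Subgroup.coe_zpow, ← mul_smul, (hcu.zpow_right i).eq, mul_smul, k.2.1]

/-- The key inequality for a pair stabiliser. -/
theorem pair_bound [Fintype G] (h2 : IsMultiplyPretransitive G Ω 2) (hn : 7 ≤ Fintype.card Ω)
    {a b : Ω} (hab : a ≠ b) (hh : 2 ≤ Nat.card (pst G a b)) :
    2 * (Nat.card (pst G a b) : ℚ) - 1 ≤
      ∑ g ∈ nontriv G a b, (Fintype.card Ω : ℚ) / (fixSet g : Finset Ω).card := by
  classical
  set n := Fintype.card Ω with hn'
  set h := Nat.card (pst G a b) with hh'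
  set F := (line G a b).card with hF
  set T := nontriv G a b with hT
  set f : G → ℕ := fun g => (fixSet g : Finset Ω).card with hfdef
  have hTc : T.card + 1 = h := card_nontriv a b
  have hTmem : ∀ g ∈ T, g ∈ pst G a b ∧ g ≠ 1 := fun g hg => (Finset.mem_filter.1 hg).2
  have hlsub : ∀ g ∈ T, line G a b ⊆ fixSet g := fun g hg =>
    line_subset_fixSet (hTmem g hg).1.1 (hTmem g hg).1.2
  have hfpos : ∀ g ∈ T, 1 ≤ f g := fun g hg =>
    Finset.card_pos.2 ⟨a, hlsub g hg (left_mem_line a b)⟩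
  have hsub : ∀ g ∈ T, f g * (F - 1) + 1 ≤ n := fun g hg => subspace_bound h2 (hTmem g hg).2 hab
  have hTq : (T.card : ℚ) = h - 1 := by
    have : (T.card : ℚ) + 1 = h := by exact_mod_cast hTc
    linarith
  have hh2 : (2 : ℚ) ≤ h := by exact_mod_cast hh
  show 2 * (h : ℚ) - 1 ≤ ∑ g ∈ T, (n : ℚ) / f g
  -- lines of length at least four
  rcases Nat.lt_or_ge F 4 with hF3 | hF4
  swap
  · have h1 : ∀ g ∈ T, (3 : ℚ) ≤ (n : ℚ) / f g := by
      intro g hg
      rw [le_div_iff₀ (by exact_mod_cast hfpos g hg)]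
      have := hsub g hg
      have h3 : f g * 3 ≤ f g * (F - 1) := Nat.mul_le_mul_left _ (by omega)
      have : 3 * f g ≤ n := by omega
      exact_mod_cast this
    have h2' := Finset.sum_le_sum h1
    rw [Finset.sum_const, nsmul_eq_mul, hTq] at h2'
    linarith
  by_contra hlt
  rw [not_le] at hlt
  obtain ⟨e, heq, hsize, hone⟩ := orbit_shape (G := G) a b
  rw [← hn', ← hF] at heq
  set R := Nat.card (orbitRel.Quotient (pst G a b) Ω) with hR
  have hsum : ∑ g ∈ T, f g + n = R * h := sum_nontriv a b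
  have hsumq : ∑ g ∈ T, (f g : ℚ) = R * h - n := by
    have : (∑ g ∈ T, (f g : ℚ)) + n = R * h := by exact_mod_cast hsum
    linarith
  have hTne : T.Nonempty := Finset.card_pos.1 (by omega)
  have hsum0 : 0 < ∑ g ∈ T, (f g : ℚ) :=
    Finset.sum_pos (fun g hg => by exact_mod_cast hfpos g hg) hTne
  have hcs : ((h : ℚ) - 1) ^ 2 * n ≤ (∑ g ∈ T, (n : ℚ) / f g) * ∑ g ∈ T, (f g : ℚ) := by
    have h1 := Finset.sq_sum_div_le_sum_sq_div T (fun _ => (1 : ℚ))
      (g := fun g => (f g : ℚ)) (fun g hg => by exact_mod_cast hfpos g hg)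
    rw [Finset.sum_const, nsmul_eq_mul, mul_one, hTq, div_le_iff₀ hsum0] at h1
    have h3 : ∑ g ∈ T, (n : ℚ) / f g = n * ∑ g ∈ T, (1 : ℚ) ^ 2 / f g := by
      rw [Finset.mul_sum]
      exact Finset.sum_congr rfl fun g _ => by ring
    rw [h3, mul_assoc, mul_comm _ (n : ℚ)]
    exact mul_le_mul_of_nonneg_left h1 (Nat.cast_nonneg n)
  have hdef : n * h < (2 * h - 1) * R := by
    have h1 : ((h : ℚ) - 1) ^ 2 * n < (2 * (h : ℚ) - 1) * (R * h - n) := by
      rw [← hsumq]
      exact lt_of_le_of_lt hcs (mul_lt_mul_of_pos_right hlt hsum0)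
    have h3 : ((n : ℚ) * h) * h < ((2 * (h : ℚ) - 1) * R) * h := by nlinarith
    have h4 : (n : ℚ) * h < (2 * (h : ℚ) - 1) * R := lt_of_mul_lt_mul_right h3 (by linarith)
    rw [← Nat.cast_lt (α := ℚ), Nat.cast_mul, Nat.cast_mul, Nat.cast_sub (by omega : 1 ≤ 2 * h)]
    push_cast
    exact h4
  have hF2 : 2 ≤ F := by
    rw [hF, ← Finset.card_pair hab]
    exact Finset.card_le_card (by simp [Finset.insert_subset_iff, left_mem_line, right_mem_line])
  have hdef' : n + (2 * h - 1) * e < (2 * h - 1) * F := by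
    have : 2 * (n * h) < (2 * h - 1) * (2 * R) := by
      calc 2 * (n * h) < 2 * ((2 * h - 1) * R) := by omega
        _ = (2 * h - 1) * (2 * R) := by ring
    have h5 : (2 * h - 1) * (2 * R) + (2 * h - 1) * e = (2 * h - 1) * n + (2 * h - 1) * F := by
      rw [← Nat.mul_add, ← Nat.mul_add, heq]
    have h6 : 2 * (n * h) = (2 * h - 1) * n + n := by
      have h7 : 2 * h - 1 + 1 = 2 * h := by omega
      calc 2 * (n * h) = (2 * h - 1 + 1) * n := by rw [h7]; ring
        _ = (2 * h - 1) * n + n := by ring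
    omega
  have he2 : e < F := by
    by_contra hcon
    have := Nat.mul_le_mul_left (2 * h - 1) (not_lt.1 hcon)
    omega
  by_cases he1 : e = 1
  · obtain ⟨c, hc, hother⟩ := hone he1
    exact case_three h2 hn hab (by omega) hc hother
  rcases Nat.lt_or_ge F 3 with hFlt | hFge
  · -- lines are pairs
    have he0 : e = 0 := by omega
    subst he0
    have := case_brodkey h2 hab (by simpa using hsize) ⟨R - 1, by omega⟩
    rw [← hh'] at this
    have : F = 2 := by omega
    rw [this] at hdef'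
    omega
  obtain hF3' : F = 3 := by omega
  have h21 : ∀ g ∈ T, 2 * f g + 1 ≤ n := fun g hg => by
    have := hsub g hg
    rw [hF3'] at this
    omega
  rcases Nat.lt_or_ge e 2 with he0 | he2'
  swap
  · -- two surplus points
    have hn2 : n < 2 * h - 1 := by
      have : e = 2 := by omega
      rw [this, hF3'] at hdef'
      omega
    have h1 : ∀ g ∈ T, 2 * (n : ℚ) / ((n : ℚ) - 1) ≤ (n : ℚ) / f g := by
      intro g hg
      have hfq : (0 : ℚ) < f g := by exact_mod_cast hfpos g hg
      have hle : 2 * (f g : ℚ) + 1 ≤ n := by exact_mod_cast h21 g hg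
      rw [div_le_div_iff₀ (by linarith) hfq]
      nlinarith
    have h3 := Finset.sum_le_sum h1
    rw [Finset.sum_const, nsmul_eq_mul, hTq] at h3
    have hnq : (n : ℚ) + 2 ≤ 2 * h := by exact_mod_cast (by omega : n + 2 ≤ 2 * h)
    have hn7 : (7 : ℚ) ≤ n := by exact_mod_cast hn
    have h4 : (2 * (h : ℚ) - 1) ≤ ((h : ℚ) - 1) * (2 * n / ((n : ℚ) - 1)) := by
      rw [← mul_div_assoc, le_div_iff₀ (by linarith)]
      nlinarith
    linarith
  obtain rfl : e = 0 := by omega
  rcases Nat.lt_or_ge n 9 with hn9 | hn9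
  · have hn7 : n = 7 := by omega
    have h1 : ∑ g ∈ T, f g ≤ T.card * 3 := by
      rw [← smul_eq_mul, ← Finset.sum_const]
      exact Finset.sum_le_sum fun g hg => by have := h21 g hg; omega
    have hR5 : R = 5 := by omega
    rw [hR5] at hsum
    exact no_eighty_four h2 hn7 hab (by omega)
  have h22 : ∀ g ∈ T, 2 * f g + 3 ≤ n := by
    intro g hg
    by_contra hcon
    have := h21 g hg
    refine case_hyperplane h2 hn9 hab (by simpa using hsize) hF3' (hTmem g hg).1 (hTmem g hg).2 ?_
    show 2 * f g + 1 = n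
    omega
  have h1 : ∑ g ∈ T, (2 * f g + 3) ≤ T.card * n := by
    rw [← smul_eq_mul, ← Finset.sum_const]
    exact Finset.sum_le_sum h22
  rw [Finset.sum_add_distrib, ← Finset.mul_sum, Finset.sum_const, smul_eq_mul] at h1
  have h3 : 2 * (R * h) = (n + 3) * h := by
    rw [← mul_assoc]
    congr 1
    omega
  obtain ⟨t, ht⟩ : ∃ t, h = t + 1 := ⟨T.card, hTc.symm⟩
  have hTt : T.card = t := by omega
  rw [hTt] at h1
  rw [hF3'] at hdef'
  have : 2 * h - 1 = 2 * t + 1 := by omega
  rw [this] at hdef'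
  rw [ht] at h3 hsum
  nlinarith

end Cfsg.Agent.Perm.PairFix
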