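/-
Transitive groups of order `(p + 1) * p * d` with `d < p` on `p + 1` points.

* `PrimeAddOne.exists_kernel` : the point stabiliser has a regular normal subgroup of order `p`
* `PrimeAddOne.semiaffine` : with a regular normal subgroup the group is semiaffine over `GF(2^q)`
* `PrimeAddOne.exists_regular_normal` : the case `d = 1`
-/
import Cfsg.Agent.EqLemmas
import Cfsg.Agent.Lib.Perm.Regular
import Cfsg.Agent.Lib.Zassenhaus.LineField

set_option autoImplicit false

open MulAction

namespace Cfsg.Agent.Perm.PrimeAddOne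

variable {G Ω : Type*} [Group G] [MulAction G Ω] [Finite G] [Finite Ω] [IsPretransitive G Ω]
variable [FaithfulSMul G Ω] {p d : ℕ}

omit [FaithfulSMul G Ω] [Finite G] in
theorem card_stab (hΩ : Nat.card Ω = p + 1) (hG : Nat.card G = (p + 1) * p * d) (a : Ω) :
    Nat.card (stabilizer G a) = p * d := by
  have h := (stabilizer G a).index_mul_card
  rw [index_stabilizer_of_transitive, hΩ, hG, mul_assoc] at h
  exact Nat.eq_of_mul_eq_mul_left p.succ_pos h

theorem exists_kernel (hp : p.Prime) (hΩ : Nat.card Ω = p + 1)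
    (hG : Nat.card G = (p + 1) * p * d) (hd : d < p) (a : Ω) :
    ∃ P : Subgroup G, P ≤ stabilizer G a ∧ Nat.card P = p ∧ IsMulCommutative P ∧
      (∀ t ∈ stabilizer G a, ∀ u ∈ P, t * u * t⁻¹ ∈ P) ∧
      ∀ y z : Ω, y ≠ a → z ≠ a → ∃! u : P, (u : G) • y = z := by
  classical
  haveI := Fact.mk hp
  haveI := Fintype.ofFinite Ω
  have hS := card_stab hΩ hG a
  have hd0 : 0 < d := Nat.pos_of_ne_zero fun e => by
    have := Nat.card_pos (α := stabilizer G a)
    rw [e, mul_zero] at hS
    omega
  obtain ⟨Q⟩ : Nonempty (Sylow p (stabilizer G a)) := inferInstance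
  have hQ : Nat.card Q = p := by
    rw [Q.card_eq_multiplicity, hS, Nat.factorization_mul hp.ne_zero hd0.ne', Finsupp.add_apply,
      hp.factorization_self, Nat.factorization_eq_zero_of_lt hd, add_zero, pow_one]
  have hQi : (Q : Subgroup (stabilizer G a)).index = d := by
    have := (Q : Subgroup (stabilizer G a)).index_mul_card
    rw [show Nat.card (Q : Subgroup (stabilizer G a)) = p from hQ, hS, mul_comm p] at this
    exact Nat.eq_of_mul_eq_mul_right hp.pos this
  haveI : Subsingleton (Sylow p (stabilizer G a)) := by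
    have h1 := card_sylow_modEq_one p (stabilizer G a)
    have h2 := Nat.le_of_dvd hd0 (hQi ▸ Q.card_dvd_index)
    have h3 : Nat.card (Sylow p (stabilizer G a)) = 1 := by
      rw [Nat.ModEq, Nat.one_mod_eq_one.mpr hp.one_lt.ne', Nat.mod_eq_of_lt (by omega)] at h1
      exact h1
    exact (Nat.card_eq_one_iff_unique.mp h3).1
  have hQn : (Q : Subgroup (stabilizer G a)).Normal := Q.normal_of_subsingleton
  set P : Subgroup G := (Q : Subgroup (stabilizer G a)).map (Subgroup.subtype _) with hPdef
  have hPa : P ≤ stabilizer G a := Subgroup.map_subtype_le _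
  have hPp : Nat.card P = p := by
    rw [hPdef, Nat.card_congr (Subgroup.equivMapOfInjective _ _ (Subgroup.subtype_injective _)).toEquiv.symm]
    exact hQ
  haveI : IsCyclic P := isCyclic_of_prime_card hPp
  have hPc : IsMulCommutative P := ⟨⟨IsCyclic.commGroup.mul_comm⟩⟩
  -- some point is moved
  obtain ⟨u₀, hu₀⟩ : ∃ u : P, u ≠ 1 := by
    haveI := Finite.one_lt_card_iff_nontrivial.mp (hPp.symm ▸ hp.one_lt)
    exact exists_ne 1
  obtain ⟨c, hc⟩ : ∃ c : Ω, (u₀ : G) • c ≠ c := by
    by_contra h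
    push Not at h
    exact hu₀ (Subtype.ext (FaithfulSMul.eq_of_smul_eq_smul (α := Ω) fun x => by
      rw [h x, Subgroup.coe_one, one_smul]))
  have hca : c ≠ a := fun e => hc (e ▸ hPa u₀.2)
  have horb : Nat.card (orbit P c) * Nat.card (stabilizer P c) = p := by
    rw [← hPp, ← Nat.card_prod]
    exact Nat.card_congr (orbitProdStabilizerEquivGroup P c)
  have hstab : stabilizer P c = ⊥ := by
    rcases (Nat.dvd_prime hp).mp (Dvd.intro_left _ horb) with h | h
    · exact Subgroup.eq_bot_of_card_eq _ h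
    · have : stabilizer P c = ⊤ := Subgroup.eq_top_of_card_eq _ (h.trans hPp.symm)
      exact absurd (this ▸ Subgroup.mem_top u₀ : u₀ ∈ stabilizer P c) hc
  have horb' : orbit P c = {a}ᶜ := by
    apply Set.eq_of_subset_of_ncard_le _ _ (Set.toFinite _)
    · rintro y ⟨u, rfl⟩ (h : (u : G) • c = a)
      exact hca (smul_left_cancel (u : G) (h.trans (hPa u.2).symm))
    · rw [Set.ncard_compl, Set.ncard_singleton, hΩ, ← Nat.card_coe_set_eq]
      rw [hstab, Subgroup.card_bot, mul_one] at horb
      omega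
  refine ⟨P, hPa, hPp, hPc, ?_, ?_⟩
  · rintro t ht u ⟨u', hu', rfl⟩
    exact ⟨_, hQn.conj_mem u' hu' ⟨t, ht⟩, rfl⟩
  · intro y z hy hz
    obtain ⟨u, rfl⟩ : y ∈ orbit P c := by rw [horb']; exact hy
    obtain ⟨w, rfl⟩ : z ∈ orbit P c := by rw [horb']; exact hz
    refine ⟨w * u⁻¹, ?_, fun v hv => ?_⟩
    · show (w * u⁻¹) • u • c = w • c
      rw [← mul_smul, inv_mul_cancel_right]
    · have h : w⁻¹ * (v * u) ∈ stabilizer P c := by
        rw [mem_stabilizer_iff, mul_smul, mul_smul, inv_smul_eq_iff]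
        exact hv
      rw [hstab, Subgroup.mem_bot, inv_mul_eq_one] at h
      rw [h, mul_inv_cancel_right]

variable {a : Ω} {P : Subgroup G}

omit [Finite G] [Finite Ω] [FaithfulSMul G Ω] in
theorem two_transitive (hPa : P ≤ stabilizer G a)
    (hreg : ∀ y z : Ω, y ≠ a → z ≠ a → ∃! u : P, (u : G) • y = z) :
    IsMultiplyPretransitive G Ω 2 := by
  rw [is_two_pretransitive_iff]
  intro x y z w hxy hzw
  obtain ⟨g, rfl⟩ := exists_smul_eq G a x
  obtain ⟨k, rfl⟩ := exists_smul_eq G a z
  obtain ⟨u, hu, -⟩ := hreg (g⁻¹ • y) (k⁻¹ • w)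
    (fun e => hxy (by rw [inv_smul_eq_iff] at e; exact e.symm))
    (fun e => hzw (by rw [inv_smul_eq_iff] at e; exact e.symm))
  refine ⟨k * u * g⁻¹, ?_, ?_⟩
  · rw [mul_smul, mul_smul, inv_smul_smul, show (u : G) • a = a from hPa u.2]
  · rw [mul_smul, mul_smul, hu, smul_inv_smul]

omit [Finite G] [Finite Ω] in
theorem eq_one_of_fix_three (hPc : IsMulCommutative P)
    (hPa : P ≤ stabilizer G a) (hPn : ∀ t ∈ stabilizer G a, ∀ u ∈ P, t * u * t⁻¹ ∈ P)
    (hcyc : ∀ u v : P, u ≠ 1 → v ∈ Subgroup.zpowers u)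
    (hreg : ∀ y z : Ω, y ≠ a → z ≠ a → ∃! u : P, (u : G) • y = z)
    (g : G) (x y z : Ω) (hxy : x ≠ y) (hyz : y ≠ z) (hxz : x ≠ z)
    (hx : g • x = x) (hy : g • y = y) (hz : g • z = z) : g = 1 := by
  obtain ⟨k, hk⟩ := exists_smul_eq G x a
  have hfix : ∀ w : Ω, g • w = w → (k * g * k⁻¹) • k • w = k • w := fun w hw => by
    rw [mul_smul, mul_smul, inv_smul_smul, hw]
  set h := k * g * k⁻¹ with hh
  have ha : h • a = a := by rw [← hk]; exact hfix x hx
  have hb := hfix y hy
  have hc := hfix z hz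
  have hba : k • y ≠ a := fun e => hxy (smul_left_cancel k (hk.trans e.symm))
  have hca : k • z ≠ a := fun e => hxz (smul_left_cancel k (hk.trans e.symm))
  obtain ⟨u, hu, -⟩ := hreg (k • y) (k • z) hba hca
  let v : P := ⟨h * u * h⁻¹, hPn h ha u u.2⟩
  have hv : (v : G) • k • y = k • z := by
    show (h * (u : G) * h⁻¹) • k • y = k • z
    rw [mul_smul, mul_smul, inv_smul_eq_iff.mpr hb.symm, hu, hc]
  have huv : v = u := (hreg (k • y) (k • z) hba hca).unique hv hu
  have hu1 : u ≠ 1 := fun e => hyz (smul_left_cancel k (by rw [← hu, e, Subgroup.coe_one, one_smul]))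
  have hcomm : ∀ w : P, h * w = w * h := by
    intro w
    obtain ⟨i, rfl⟩ := hcyc u w hu1
    have h1 : Commute h (u : G) := by
      have : h * (u : G) * h⁻¹ = u := congrArg Subtype.val huv
      exact mul_inv_eq_iff_eq_mul.mp this
    rw [Subgroup.coe_zpow]
    exact (h1.zpow_right i).eq
  have h1 : h = 1 := by
    refine FaithfulSMul.eq_of_smul_eq_smul (α := Ω) fun w => ?_
    rw [one_smul]
    by_cases hw : w = a
    · rw [hw]; exact ha
    · obtain ⟨v', hv', -⟩ := hreg (k • y) w hba hw
      rw [← hv', ← mul_smul, hcomm, mul_smul, hb]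
  rw [hh, conj_eq_one_iff] at h1
  exact h1

theorem exists_regular_normal (hp : p.Prime) (hΩ : Nat.card Ω = p + 1)
    (hG : Nat.card G = (p + 1) * p) :
    ∃ N : Subgroup G, N.Normal ∧ IsPretransitive N Ω ∧ ∀ x : Ω, stabilizer N x = ⊥ := by
  classical
  haveI := Fact.mk hp
  haveI := Fintype.ofFinite Ω
  haveI := Fintype.ofFinite G
  have hS : ∀ x : Ω, Nat.card (stabilizer G x) = p := fun x => by
    rw [card_stab (d := 1) hΩ (by rw [mul_one]; exact hG) x, mul_one]
  obtain ⟨a⟩ : Nonempty Ω := (Nat.card_pos_iff.mp (by omega)).1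
  obtain ⟨P, hPa, hPp, hPc, hPn, hreg⟩ := exists_kernel (d := 1) hp hΩ (by rw [mul_one]; exact hG) hp.one_lt a
  have hP : P = stabilizer G a := Subgroup.eq_of_le_of_card_ge hPa (by rw [hS, hPp])
  -- two-point stabilisers are trivial
  have htwo : ∀ (g : G) (x y : Ω), x ≠ y → g • x = x → g • y = y → g = 1 := by
    intro g x y hxy hx hy
    obtain ⟨k, hk⟩ := exists_smul_eq G x a
    have hm : k * g * k⁻¹ ∈ P := by
      rw [hP, mem_stabilizer_iff, ← hk, mul_smul, mul_smul, inv_smul_smul, hx]
    have hne : k • y ≠ a := fun e => hxy (smul_left_cancel k (hk.trans e.symm))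
    have h1 := (hreg (k • y) (k • y) hne hne).unique (y₁ := (⟨_, hm⟩ : P)) (y₂ := 1)
      (show (k * g * k⁻¹) • k • y = k • y by rw [mul_smul, mul_smul, inv_smul_smul, hy])
      (by rw [Subgroup.coe_one, one_smul])
    exact conj_eq_one_iff.mp (congrArg Subtype.val h1)
  set M := Finset.univ.filter fun g : G => ∀ x : Ω, g • x ≠ x with hMdef
  have hM : ∀ g, g ∈ M ↔ ∀ x : Ω, g • x ≠ x := fun g => by simp [hMdef]
  -- there are exactly `p` fixed-point-free elements
  have hMcard : M.card = p := by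
    let E : Ω → Finset G := fun x => Finset.univ.filter fun g => g ≠ 1 ∧ g • x = x
    have hE : ∀ x, (E x).card = p - 1 := by
      intro x
      have h1 : E x = ((stabilizer G x : Set G).toFinset).erase 1 := by ext g; simp [E]
      rw [h1, Finset.card_erase_of_mem (by simp), Set.toFinset_card, ← Nat.card_eq_fintype_card]
      exact congrArg (· - 1) (hS x)
    have hsplit : (Finset.univ : Finset G) = insert 1 (M ∪ Finset.univ.biUnion E) := by
      ext g
      simp only [Finset.mem_univ, Finset.mem_insert, Finset.mem_union, hM, Finset.mem_biUnion,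
        Finset.mem_filter, true_iff, E, true_and]
      by_cases h : g = 1
      · exact Or.inl h
      · right
        by_cases h2 : ∀ x : Ω, g • x ≠ x
        · exact Or.inl h2
        · push Not at h2
          exact Or.inr (h2.imp fun x hx => ⟨h, hx⟩)
    have h1 : (1 : G) ∉ M ∪ Finset.univ.biUnion E := by
      simp [hM, E]
      exact ⟨a⟩
    have hdisj : Disjoint M (Finset.univ.biUnion E) := by
      rw [Finset.disjoint_left]
      intro g hg hg'
      simp only [Finset.mem_biUnion, Finset.mem_filter, E] at hg'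
      obtain ⟨x, -, -, -, hx⟩ := hg'
      exact (hM g).mp hg x hx
    have hdE : ((Finset.univ : Finset Ω) : Set Ω).PairwiseDisjoint E := by
      intro x _ y _ hxy
      rw [Function.onFun, Finset.disjoint_left]
      intro g hgx hgy
      simp only [Finset.mem_filter, E] at hgx hgy
      exact hgx.2.1 (htwo g x y hxy hgx.2.2 hgy.2.2)
    have h2 := congrArg Finset.card hsplit
    rw [Finset.card_insert_of_notMem h1, Finset.card_union_of_disjoint hdisj,
      Finset.card_biUnion hdE, Finset.sum_congr rfl fun x _ => hE x, Finset.sum_const,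
      Finset.card_univ, Finset.card_univ, ← Nat.card_eq_fintype_card, ← Nat.card_eq_fintype_card,
      hG, hΩ, smul_eq_mul] at h2
    have : (p + 1) * (p - 1) + (p + 1) = (p + 1) * p := by
      rw [← Nat.mul_succ, Nat.succ_eq_add_one, Nat.sub_add_cancel hp.one_le]
    omega
  obtain ⟨t, ht⟩ : M.Nonempty := Finset.card_pos.mp (hMcard ▸ hp.pos)
  set C := Subgroup.centralizer ({t} : Set G) with hC
  have hCfix : ∀ g ∈ C, g ≠ 1 → g ∈ M := by
    intro g hg hg1
    rw [hM]
    intro x hx
    have hgt : t * g = g * t := (Subgroup.mem_centralizer_singleton_iff.mp hg).symm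
    exact hg1 (htwo g x (t • x) ((hM t).mp ht x).symm hx (by rw [← mul_smul, ← hgt, mul_smul, hx]))
  have hCle : Nat.card C ≤ p + 1 := by
    have : (C : Set G).toFinset ⊆ insert 1 M := by
      intro g hg
      rw [Set.mem_toFinset] at hg
      by_cases h : g = 1
      · simp [h]
      · exact Finset.mem_insert_of_mem (hCfix g hg h)
    have h2 := (Finset.card_le_card this).trans (Finset.card_insert_le _ _)
    rw [Set.toFinset_card, ← Nat.card_eq_fintype_card, hMcard] at h2
    exact h2
  have horb : Nat.card (orbit (ConjAct G) t) * Nat.card C = (p + 1) * p := by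
    rw [← hG, hC, Subgroup.centralizer_eq_comap_stabilizer]
    have h := Nat.card_congr (orbitProdStabilizerEquivGroup (ConjAct G) t)
    rw [Nat.card_prod] at h
    exact h
  have horble : Nat.card (orbit (ConjAct G) t) ≤ p := by
    rw [← hMcard, Nat.card_coe_set_eq, ← Set.ncard_coe_finset]
    refine Set.ncard_le_ncard ?_ M.finite_toSet
    rintro x ⟨g, rfl⟩
    simp only [Finset.mem_coe, hM, ConjAct.smul_def]
    intro y hy
    rw [mul_smul, mul_smul, smul_eq_iff_eq_inv_smul] at hy
    exact (hM t).mp ht _ hy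
  have hCeq : Nat.card C = p + 1 := by
    by_contra hne
    have hlt : Nat.card C < p + 1 := lt_of_le_of_ne hCle hne
    have := Nat.mul_le_mul horble (Nat.lt_succ_iff.mp hlt)
    rw [horb, Nat.add_mul, one_mul] at this
    have := hp.pos
    omega
  have hCM : ∀ g, g ∈ C ↔ g = 1 ∨ ∀ x : Ω, g • x ≠ x := by
    have : (C : Set G).toFinset = insert 1 M := by
      refine Finset.eq_of_subset_of_card_le ?_ ?_
      · intro g hg
        rw [Set.mem_toFinset] at hg
        by_cases h : g = 1
        · simp [h]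
        · exact Finset.mem_insert_of_mem (hCfix g hg h)
      · rw [Set.toFinset_card, ← Nat.card_eq_fintype_card]
        exact (Finset.card_insert_le _ _).trans (by rw [hMcard]; exact hCeq.ge)
    intro g
    rw [← SetLike.mem_coe, ← Set.mem_toFinset, this, Finset.mem_insert, hM]
  refine ⟨C, ⟨fun n hn g => ?_⟩, ?_, ?_⟩
  · rcases (hCM n).mp hn with rfl | h
    · simp
    · refine (hCM _).mpr (Or.inr fun x hx => h (g⁻¹ • x) ?_)
      rw [mul_smul, mul_smul] at hx
      exact smul_eq_iff_eq_inv_smul _ |>.mp hx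
  · have hinj : Function.Injective fun n : C => (n : G) • a := by
      intro m n h
      rcases (hCM _).mp (C.mul_mem (C.inv_mem n.2) m.2) with h1 | h1
      · exact Subtype.ext (inv_mul_eq_one.mp h1).symm
      · exact absurd (by rw [mul_smul, show (m : G) • a = (n : G) • a from h, inv_smul_smul]) (h1 a)
    have hbij : Function.Bijective fun n : C => (n : G) • a :=
      (Nat.bijective_iff_injective_and_card _).mpr ⟨hinj, by rw [hCeq, hΩ]⟩
    refine ⟨fun x y => ?_⟩
    obtain ⟨m, rfl⟩ := hbij.2 x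
    obtain ⟨n, rfl⟩ := hbij.2 y
    exact ⟨n * m⁻¹, by
      show ((n * m⁻¹ : C) : G) • (m : G) • a = (n : G) • a
      rw [← mul_smul, ← Subgroup.coe_mul, inv_mul_cancel_right]⟩
  · intro x
    rw [Subgroup.eq_bot_iff_forall]
    intro n hn
    rcases (hCM _).mp n.2 with h | h
    · exact Subtype.ext h
    · exact absurd hn (h x)

theorem card_ringAut (q : ℕ) (hq : q ≠ 0) : Nat.card (RingAut (GaloisField 2 q)) = q := by
  refine ((Nat.card_congr ?_).trans
    (IsGalois.card_aut_eq_finrank (ZMod 2) (GaloisField 2 q))).trans (GaloisField.finrank 2 hq)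
  exact
    { toFun := fun f => AlgEquiv.ofRingEquiv (f := f) fun x =>
        DFunLike.congr_fun (RingHom.ext_zmod (f.toRingHom.comp (algebraMap (ZMod 2) _))
          (algebraMap (ZMod 2) (GaloisField 2 q))) x
      invFun := fun f => f.toRingEquiv
      left_inv := fun f => by ext; rfl
      right_inv := fun f => by ext; rfl }

theorem semiaffine (hp : p.Prime) (hΩ : Nat.card Ω = p + 1)
    (hG : Nat.card G = (p + 1) * p * d) (hPa : P ≤ stabilizer G a) (hPp : Nat.card P = p)
    (hPc : IsMulCommutative P) (hPn : ∀ t ∈ stabilizer G a, ∀ u ∈ P, t * u * t⁻¹ ∈ P)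
    (hreg : ∀ y z : Ω, y ≠ a → z ≠ a → ∃! u : P, (u : G) • y = z) (hp2 : p ≠ 2)
    (N : Subgroup G) [N.Normal] (hNt : IsPretransitive N Ω) (hNr : ∀ x : Ω, stabilizer N x = ⊥) :
    ∃ q : ℕ, q.Prime ∧ p + 1 = 2 ^ q ∧ (d = 1 ∨ d = q) ∧ ∃ e : Ω ≃ GaloisField 2 q,
      ∀ g : G, (e.symm.trans ((MulAction.toPerm g).trans e)) ∈
        Cfsg.semiaffineGroup (GaloisField 2 q) := by
  classical
  haveI : Nonempty Ω := ⟨a⟩
  obtain ⟨hNc, -⟩ := regular_normal_of_two_transitive (two_transitive hPa hreg) hNt hNr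
  letI : CommGroup N := { (inferInstance : Group N) with mul_comm := hNc.is_comm.comm }
  set β : N → Ω := fun n => n • a with hβdef
  have hβ : Function.Bijective β := bijective_smul_of_regular hNt hNr a
  have hNcard : Nat.card N = p + 1 := by rw [card_eq_of_regular hNt hNr, hΩ]
  let cj : G → AddMonoid.End (Additive N) := fun g =>
    MonoidHom.toAdditive ((MulAut.conjNormal g : MulAut N).toMonoidHom)
  have hcj1 : ∀ g : G, ∀ n : N, cj g (Additive.ofMul n) = Additive.ofMul (MulAut.conjNormal g n) :=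
    fun g n => rfl
  have hcjmul : ∀ g k : G, ∀ v, cj (g * k) v = cj g (cj k v) := fun g k v => by
    show Additive.ofMul (MulAut.conjNormal (g * k) v.toMul) = _
    rw [map_mul]; rfl
  have hact : ∀ g : G, g • a = a → ∀ n : N, β (MulAut.conjNormal g n) = g • β n := by
    intro g hg n
    show ((MulAut.conjNormal g n : N) : G) • a = g • (n : G) • a
    rw [MulAut.conjNormal_apply, conj_smul_of_fix _ hg]
  have hβne : ∀ n : N, n ≠ 1 → β n ≠ a := fun n hn e => hn (hβ.1 (e.trans (one_smul N a).symm))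
  have htr : ∀ v w : Additive N, v ≠ 0 → w ≠ 0 → ∃ u ∈ P, cj u v = w := by
    intro v w hv hw
    obtain ⟨u, hu, -⟩ := hreg (β v.toMul) (β w.toMul) (hβne _ hv) (hβne _ hw)
    refine ⟨u, u.2, ?_⟩
    have : MulAut.conjNormal (u : G) v.toMul = w.toMul :=
      hβ.1 ((hact u (hPa u.2) _).trans hu)
    exact congrArg Additive.ofMul this
  haveI : Nontrivial N := Finite.one_lt_card_iff_nontrivial.mp (by have := hp.two_le; omega)
  obtain ⟨v₀, hv₀⟩ := exists_ne (0 : Additive N)
  obtain ⟨r₀, hr₀, q, hq0, σ, hσ1, hσ⟩ := Zassenhaus.exists_field_of_irreducible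
    (V := Additive N) (cj '' (P : Set G))
    (by
      rintro _ ⟨u, hu, rfl⟩ _ ⟨w, hw, rfl⟩
      refine AddMonoidHom.ext fun v => ?_
      show cj u (cj w v) = cj w (cj u v)
      rw [← hcjmul, ← hcjmul, show u * w = w * u from
        congrArg Subtype.val (hPc.is_comm.comm ⟨u, hu⟩ ⟨w, hw⟩)])
    (by
      intro W hW
      by_cases h : W = ⊥
      · exact Or.inl h
      right
      obtain ⟨w, hw, hw0⟩ : ∃ w ∈ W, w ≠ 0 := by
        by_contra hcon
        push Not at hcon
        exact h ((AddSubgroup.eq_bot_iff_forall _).mpr hcon)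
      rw [eq_top_iff]
      intro x _
      by_cases hx : x = 0
      · exact hx ▸ W.zero_mem
      · obtain ⟨u, hu, rfl⟩ := htr w x hw0 hx
        exact hW _ ⟨u, hu, rfl⟩ w hw)
    hv₀
  -- the characteristic is two
  have hcard : r₀ ^ q = p + 1 := by
    rw [← GaloisField.card r₀ q hq0, Nat.card_congr σ.toEquiv, Nat.card_congr Additive.toMul,
      hNcard]
  have hr2 : r₀ = 2 := by
    have hodd := hp.odd_of_ne_two hp2
    have h2 : 2 ∣ r₀ ^ q := by rw [hcard]; exact (hodd.add_one).two_dvd
    exact ((Nat.prime_dvd_prime_iff_eq Nat.prime_two hr₀.out).mp (Nat.prime_two.dvd_of_dvd_pow h2)).symm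
  subst hr2
  have hqp : q.Prime := by
    have h2 : (2 ^ q - 1).Prime := by rwa [hcard, Nat.add_sub_cancel]
    refine (Nat.prime_of_pow_sub_one_prime ?_ h2).2
    intro e
    rw [e, pow_one] at hcard
    have := hp.two_le
    omega
  refine ⟨q, hqp, hcard.symm, ?_⟩
  let e : Ω ≃ GaloisField 2 q :=
    (Equiv.ofBijective β hβ).symm.trans (Additive.ofMul.trans σ.toEquiv.symm)
  have heβ : ∀ n : N, e (β n) = σ.symm (Additive.ofMul n) := fun n => by
    show σ.symm (Additive.ofMul ((Equiv.ofBijective β hβ).symm (β n))) = _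
    rw [Equiv.ofBijective_symm_apply_apply]
  -- elements fixing `a` are semilinear
  let f₀ : G → GaloisField 2 q → GaloisField 2 q := fun g x => σ.symm (cj g (σ x))
  have hmulP : ∀ r : GaloisField 2 q, r ≠ 0 → ∃ u ∈ P, ∀ x, f₀ u x = r * x := by
    intro r hr
    have hne : σ r ≠ 0 := fun e => hr (σ.injective (e.trans (map_zero σ).symm))
    obtain ⟨u, hu, huv⟩ := htr v₀ (σ r) hv₀ hne
    obtain ⟨s, hs⟩ := hσ _ ⟨u, hu, rfl⟩
    have hsr : s = r := σ.injective (by rw [← huv, ← hσ1, hs, mul_one])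
    exact ⟨u, hu, fun x => by show σ.symm (cj u (σ x)) = r * x; rw [hs, hsr, σ.symm_apply_apply]⟩
  have hPmul : ∀ u ∈ P, ∃ r : GaloisField 2 q, ∀ x, f₀ u x = r * x := by
    intro u hu
    obtain ⟨s, hs⟩ := hσ _ ⟨u, hu, rfl⟩
    exact ⟨s, fun x => by show σ.symm (cj u (σ x)) = s * x; rw [hs, σ.symm_apply_apply]⟩
  have hf0mul : ∀ g k : G, ∀ x, f₀ (g * k) x = f₀ g (f₀ k x) := fun g k x => by
    simp only [f₀, hcjmul, σ.apply_symm_apply]
  have hf0one : ∀ x, f₀ 1 x = x := fun x => by
    have : cj 1 (σ x) = σ x := by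
      show Additive.ofMul (MulAut.conjNormal (1 : G) (σ x).toMul) = _
      rw [map_one]; rfl
    simp only [f₀, this, σ.symm_apply_apply]
  have hf0ne : ∀ g : G, f₀ g 1 ≠ 0 := by
    intro g h
    have h1 : f₀ g⁻¹ (f₀ g 1) = 1 := by rw [← hf0mul, inv_mul_cancel, hf0one]
    rw [h] at h1
    exact zero_ne_one (α := GaloisField 2 q) (by simpa [f₀] using h1)
  have hsemi : ∀ g : G, g • a = a → ∃ φ : GaloisField 2 q ≃+* GaloisField 2 q,
      ∀ x, f₀ g x = f₀ g 1 * φ x := by
    intro g hg
    have hs := hf0ne g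
    have hmul : ∀ r x, f₀ g (r * x) = f₀ g r * (f₀ g 1)⁻¹ * f₀ g x := by
      intro r x
      by_cases hr : r = 0
      · subst hr
        simp [f₀]
      obtain ⟨u, hu, hur⟩ := hmulP r hr
      obtain ⟨r', hr'⟩ := hPmul _ (hPn g hg u hu)
      have h : ∀ y, f₀ g (r * y) = r' * f₀ g y := by
        intro y
        rw [← hr', ← hf0mul, ← hur, ← hf0mul, inv_mul_cancel_right]
      rw [h x]
      congr 1
      have h1 := h 1
      rw [mul_one] at h1
      rw [h1, mul_inv_cancel_right₀ hs]
    refine ⟨{ toFun := fun x => (f₀ g 1)⁻¹ * f₀ g x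
              invFun := fun x => f₀ g⁻¹ (f₀ g 1 * x)
              left_inv := fun x => by
                show f₀ g⁻¹ (f₀ g 1 * ((f₀ g 1)⁻¹ * f₀ g x)) = x
                rw [mul_inv_cancel_left₀ hs, ← hf0mul, inv_mul_cancel, hf0one]
              right_inv := fun x => by
                show (f₀ g 1)⁻¹ * f₀ g (f₀ g⁻¹ (f₀ g 1 * x)) = x
                rw [← hf0mul, mul_inv_cancel, hf0one, inv_mul_cancel_left₀ hs]
              map_mul' := fun x y => by rw [hmul x y]; ring
              map_add' := fun x y => by simp only [f₀, map_add, mul_add] }, fun x => ?_⟩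
    show f₀ g x = f₀ g 1 * ((f₀ g 1)⁻¹ * f₀ g x)
    rw [mul_inv_cancel_left₀ hs]
  choose! φ hφ using hsemi
  constructor
  · -- the order
    obtain ⟨c, hc⟩ : ∃ c, c = β v₀.toMul := ⟨_, rfl⟩
    have hca : c ≠ a := hc ▸ hβne _ hv₀
    set D := stabilizer (stabilizer G a) c with hD
    have hDcard : Nat.card D = d := by
      have h1 := Nat.card_congr (orbitProdStabilizerEquivGroup (stabilizer G a) c)
      rw [Nat.card_prod, card_stab hΩ hG a] at h1
      have h2 : orbit (stabilizer G a) c = {a}ᶜ := by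
        ext y
        constructor
        · rintro ⟨g, rfl⟩ (h : (g : G) • c = a)
          exact hca (smul_left_cancel (g : G) (h.trans g.2.symm))
        · intro hy
          obtain ⟨u, hu, -⟩ := hreg c y hca hy
          exact ⟨⟨u, hPa u.2⟩, hu⟩
      rw [h2, Nat.card_coe_set_eq, Set.ncard_compl, Set.ncard_singleton, hΩ, Nat.add_sub_cancel]
        at h1
      exact Nat.eq_of_mul_eq_mul_left hp.pos h1
    have hone : ∀ g : D, f₀ (g : G) 1 = 1 := by
      intro g
      show σ.symm (cj (g : G) (σ 1)) = 1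
      rw [hσ1, AddEquiv.symm_apply_eq, hσ1]
      have : MulAut.conjNormal ((g : stabilizer G a) : G) v₀.toMul = v₀.toMul := hβ.1 (by
        rw [hact _ (g : stabilizer G a).2, ← hc]; exact g.2)
      exact congrArg Additive.ofMul this
    have hD' : ∀ (g : D) x, φ ((g : stabilizer G a) : G) x = f₀ ((g : stabilizer G a) : G) x := by
      intro g x
      rw [hφ _ (g : stabilizer G a).2 x, hone, one_mul]
    let Φ : D →* RingAut (GaloisField 2 q) :=
      { toFun := fun g => φ ((g : stabilizer G a) : G)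
        map_one' := by
          ext x
          rw [hD']
          simp [hf0one]
        map_mul' := fun g k => by
          ext x
          rw [hD', RingAut.mul_apply, hD', hD']
          simp [hf0mul] }
    have hinj : Function.Injective Φ := by
      rw [injective_iff_map_eq_one]
      intro g hg
      refine Subtype.ext (Subtype.ext (FaithfulSMul.eq_of_smul_eq_smul (α := Ω) fun x => ?_))
      obtain ⟨n, rfl⟩ := hβ.2 x
      show ((g : stabilizer G a) : G) • β n = (1 : G) • β n
      rw [one_smul, ← hact _ (g : stabilizer G a).2]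
      congr 1
      have h1 : f₀ ((g : stabilizer G a) : G) (σ.symm (Additive.ofMul n)) =
          σ.symm (Additive.ofMul n) := by
        rw [← hD']
        exact DFunLike.congr_fun hg _
      have h2 := σ.symm.injective h1
      rw [σ.apply_symm_apply] at h2
      exact Additive.ofMul.injective h2
    have hdvd := Subgroup.card_dvd_of_injective Φ hinj
    rw [hDcard, card_ringAut q hq0] at hdvd
    exact (Nat.dvd_prime hqp).mp hdvd
  · refine ⟨e, fun g => ?_⟩
    obtain ⟨n₀, hn₀⟩ := hβ.2 (g • a)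
    set h : G := (n₀ : G)⁻¹ * g with hh
    have hha : h • a = a := by
      rw [hh, mul_smul, inv_smul_eq_iff]
      exact hn₀.symm
    refine ⟨Units.mk0 _ (hf0ne h), σ.symm (Additive.ofMul n₀), φ h, fun x => ?_⟩
    obtain ⟨y, rfl⟩ := e.surjective x
    obtain ⟨n, rfl⟩ := hβ.2 y
    show e (g • e.symm (e (β n))) = _
    rw [e.symm_apply_apply, Units.val_mk0, ← hφ h hha, heβ]
    have h1 : g • β n = β (n₀ * MulAut.conjNormal h n) := by
      show g • β n = (((n₀ * MulAut.conjNormal h n : N)) : G) • a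
      rw [Subgroup.coe_mul, mul_smul, show ((MulAut.conjNormal h n : N) : G) • a = h • β n from
        hact h hha n, ← mul_smul, hh, mul_inv_cancel_left]
    rw [h1, heβ, ofMul_mul, map_add, add_comm]
    congr 1
    show σ.symm _ = σ.symm (cj h (σ (σ.symm _)))
    rw [σ.apply_symm_apply, hcj1]

end Cfsg.Agent.Perm.PrimeAddOne
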