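/-
Automorphisms and subdirect subgroups of a finite power of a non-abelian simple group.

* `ProdSub.exists_shuffle` : an automorphism permutes the coordinates and twists each
* `ProdSub.exists_diagonal` : a subgroup with full projections is a product of twisted diagonals
-/
import Cfsg.Agent.EqLemmas

set_option autoImplicit false

namespace Cfsg.Agent.Perm.ProdSub

open scoped commutatorElement

variable {I T : Type*} [Fintype I] [DecidableEq I] [Group T] [IsSimpleGroup T]

theorem commutator_eq_top (hT : ¬ IsMulCommutative T) : commutator T = ⊤ := by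
  refine (Subgroup.Normal.eq_bot_or_eq_top (inferInstance : (commutator T).Normal)).resolve_left
    fun h => hT ⟨⟨fun x y => ?_⟩⟩
  have hm : ⁅x, y⁆ ∈ commutator T :=
    Subgroup.commutator_mem_commutator (Subgroup.mem_top x) (Subgroup.mem_top y)
  rw [h, Subgroup.mem_bot] at hm
  exact commutatorElement_eq_one_iff_mul_comm.1 hm

theorem eq_one_of_central (hT : ¬ IsMulCommutative T) {x : T} (hx : ∀ y : T, x * y = y * x) :
    x = 1 := by
  have hz : x ∈ Subgroup.center T := Subgroup.mem_center_iff.2 fun y => (hx y).symm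
  rcases Subgroup.Normal.eq_bot_or_eq_top (inferInstance : (Subgroup.center T).Normal) with h | h
  · rwa [h, Subgroup.mem_bot] at hz
  · exact absurd ⟨⟨fun u v => (Subgroup.mem_center_iff.1 (h ▸ Subgroup.mem_top v :
      v ∈ Subgroup.center T) u)⟩⟩ hT

omit [Fintype I] [IsSimpleGroup T] in
/-- The conjugates of an element supported at `i` stay supported at `i`. -/
theorem conj_mulSingle (n : I → T) (i : I) (t : T) :
    n * Pi.mulSingle i t * n⁻¹ = Pi.mulSingle i (n i * t * (n i)⁻¹) := by
  funext j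
  by_cases h : j = i
  · subst h; simp
  · simp [h]

omit [Fintype I] in
/-- A normal subgroup with a non-trivial coordinate contains that coordinate subgroup. -/
theorem mulSingle_mem_of_normal (hT : ¬ IsMulCommutative T) {M : Subgroup (I → T)}
    (hM : M.Normal) {x : I → T} (hx : x ∈ M) {i : I} (hxi : x i ≠ 1) (t : T) :
    Pi.mulSingle i t ∈ M := by
  let S : Subgroup T := M.comap (MonoidHom.mulSingle (fun _ => T) i)
  haveI : S.Normal := ⟨fun u hu g => by
    show Pi.mulSingle i (g * u * g⁻¹) ∈ M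
    have := hM.conj_mem _ hu (Pi.mulSingle i g)
    rwa [MonoidHom.mulSingle_apply, conj_mulSingle, Pi.mulSingle_eq_same] at this⟩
  obtain ⟨y, hy⟩ : ∃ y, ¬ x i * y = y * x i := by
    by_contra hcon
    push Not at hcon
    exact hxi (eq_one_of_central hT hcon)
  have hmem : ⁅x i, y⁆ ∈ S := by
    show Pi.mulSingle i ⁅x i, y⁆ ∈ M
    have h1 : ⁅x, (Pi.mulSingle i y : I → T)⁆ = (Pi.mulSingle i ⁅x i, y⁆ : I → T) := by
      funext j
      by_cases h : j = i
      · subst h; simp [commutatorElement_def]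
      · simp [h, commutatorElement_def]
    rw [← h1, commutatorElement_def, mul_assoc, mul_assoc]
    refine M.mul_mem hx ?_
    rw [← mul_assoc]
    exact hM.conj_mem _ (M.inv_mem hx) _
  have htop : S = ⊤ := (Subgroup.Normal.eq_bot_or_eq_top ‹S.Normal›).resolve_left fun h => by
    rw [h, Subgroup.mem_bot] at hmem
    exact hy (commutatorElement_eq_one_iff_mul_comm.1 hmem)
  exact (htop ▸ Subgroup.mem_top t : t ∈ S)

theorem exists_mulSingle_image (hT : ¬ IsMulCommutative T) (φ : (I → T) ≃* (I → T)) (i : I) :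
    ∃ j : I, (∀ t, ∃ u, φ (Pi.mulSingle i t) = Pi.mulSingle j u) ∧
      ∀ u, ∃ t, φ (Pi.mulSingle i t) = Pi.mulSingle j u := by
  let A : Subgroup (I → T) := (MonoidHom.mulSingle (fun _ => T) i).range
  have hA : A.Normal := ⟨fun x hx n => by
    obtain ⟨t, rfl⟩ := hx
    exact ⟨_, (conj_mulSingle n i t).symm⟩⟩
  have hB : (A.map φ.toMonoidHom).Normal := hA.map _ φ.surjective
  obtain ⟨t₀, ht₀⟩ := exists_ne (1 : T)
  obtain ⟨j, hj⟩ : ∃ j, φ (Pi.mulSingle i t₀) j ≠ 1 := by
    by_contra hcon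
    push Not at hcon
    exact ht₀ ((Pi.mulSingle_eq_one_iff (i := i)).1
      (φ.injective ((funext hcon : φ (Pi.mulSingle i t₀) = 1).trans (map_one φ).symm)))
  have hmem : φ (Pi.mulSingle i t₀) ∈ A.map φ.toMonoidHom :=
    ⟨Pi.mulSingle i t₀, ⟨t₀, rfl⟩, rfl⟩
  have hsurj : ∀ u, ∃ t, φ (Pi.mulSingle i t) = Pi.mulSingle j u := by
    intro u
    obtain ⟨_, ⟨t, rfl⟩, ht⟩ := mulSingle_mem_of_normal hT hB hmem hj u
    exact ⟨t, ht⟩
  -- the preimages of the `j`-th coordinate subgroup form a non-trivial normal subgroup of `T`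
  let S : Subgroup T :=
    ((MonoidHom.mulSingle (fun _ => T) j).range.comap φ.toMonoidHom).comap
      (MonoidHom.mulSingle (fun _ => T) i)
  haveI : S.Normal := ⟨fun u hu g => by
    obtain ⟨v, hv⟩ := hu
    refine ⟨φ (Pi.mulSingle i g) j * v * (φ (Pi.mulSingle i g) j)⁻¹, ?_⟩
    show Pi.mulSingle j _ = φ (Pi.mulSingle i (g * u * g⁻¹))
    have hv' : φ (Pi.mulSingle i u) = Pi.mulSingle j v := hv.symm
    rw [← conj_mulSingle (φ (Pi.mulSingle i g)) j v, ← hv', ← map_inv, ← map_mul, ← map_mul,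
      conj_mulSingle, Pi.mulSingle_eq_same]⟩
  have htop : S = ⊤ := (Subgroup.Normal.eq_bot_or_eq_top ‹S.Normal›).resolve_left fun h => by
    obtain ⟨t, ht⟩ := hsurj t₀
    have htS : t ∈ S := ⟨t₀, ht.symm⟩
    rw [h, Subgroup.mem_bot] at htS
    rw [htS, Pi.mulSingle_one, map_one] at ht
    exact ht₀ (Pi.mulSingle_eq_one_iff.1 ht.symm)
  refine ⟨j, fun t => ?_, hsurj⟩
  obtain ⟨u, hu⟩ := (htop ▸ Subgroup.mem_top t : t ∈ S)
  exact ⟨u, hu.symm⟩

/-- An automorphism permutes the coordinates and twists each of them. -/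
theorem exists_shuffle (hT : ¬ IsMulCommutative T) (φ : (I → T) ≃* (I → T)) :
    ∃ (σ : Equiv.Perm I) (θ : I → T ≃* T), ∀ n i, φ n (σ i) = θ i (n i) := by
  choose σ hσ1 hσ2 using exists_mulSingle_image hT φ
  choose θ hθ using hσ1
  have hval : ∀ i t, φ (Pi.mulSingle i t) (σ i) = θ i t := fun i t => by
    rw [hθ, Pi.mulSingle_eq_same]
  have hinj : Function.Injective σ := by
    intro i k hik
    by_contra hne
    obtain ⟨t₀, ht₀⟩ := exists_ne (1 : T)
    obtain ⟨t, ht⟩ := hσ2 i t₀
    obtain ⟨s, hs⟩ := hσ2 k t₀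
    rw [← hik] at hs
    have h1 := congrFun (φ.injective (ht.trans hs.symm)) i
    rw [Pi.mulSingle_eq_same, Pi.mulSingle_eq_of_ne hne] at h1
    rw [h1, Pi.mulSingle_one, map_one] at ht
    exact ht₀ (Pi.mulSingle_eq_one_iff.1 ht.symm)
  let θ' : I → T ≃* T := fun i => MulEquiv.ofBijective
    ({ toFun := θ i
       map_one' := by rw [← hval i, Pi.mulSingle_one, map_one]; rfl
       map_mul' := fun x y => by
        rw [← hval i, ← hval i, ← hval i, Pi.mulSingle_mul, map_mul]; rfl } : T →* T)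
    ⟨fun x y h => by
      have h1 := congrFun (φ.injective ((hθ i x).trans (((congrArg (Pi.mulSingle (σ i)) h).trans
        (hθ i y).symm)))) i
      rwa [Pi.mulSingle_eq_same, Pi.mulSingle_eq_same] at h1,
    fun u => by
      obtain ⟨t, ht⟩ := hσ2 i u
      refine ⟨t, ?_⟩
      show θ i t = u
      rw [← hval, ht, Pi.mulSingle_eq_same]⟩
  refine ⟨Equiv.ofBijective σ (Finite.injective_iff_bijective.1 hinj), θ', fun n i => ?_⟩
  show φ n (σ i) = θ i (n i)
  have key : ∀ x : I → T, x i = 1 → φ x (σ i) = 1 := by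
    intro x hx
    refine eq_one_of_central hT fun y => ?_
    obtain ⟨t, ht⟩ := hσ2 i y
    have hc : x * Pi.mulSingle i t = Pi.mulSingle i t * x := by
      funext j
      by_cases h : j = i
      · subst h; simp [hx]
      · simp [h]
    have := congrFun (congrArg φ hc) (σ i)
    rw [map_mul, map_mul, ht, Pi.mul_apply, Pi.mul_apply, Pi.mulSingle_eq_same] at this
    exact this
  have h2 : n = n * (Pi.mulSingle i (n i))⁻¹ * Pi.mulSingle i (n i) := by rw [inv_mul_cancel_right]
  conv_lhs => rw [h2]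
  rw [map_mul, Pi.mul_apply, key _ (by simp), one_mul, hval]

omit [Fintype I] [DecidableEq I] in
/-- A subgroup with full projections is a product of twisted diagonals. -/
theorem exists_diagonal [Finite I] (hT : ¬ IsMulCommutative T) (D : Subgroup (I → T))
    (hfull : ∀ i t, ∃ d ∈ D, d i = t) :
    ∃ (c : I → I) (θ : I → T ≃* T),
      (∀ i j, c i = c j ↔ ∀ d ∈ D, d i = 1 ↔ d j = 1) ∧
      (∀ i, c (c i) = c i ∧ θ (c i) = MulEquiv.refl T) ∧
      ∀ n : I → T, n ∈ D ↔ ∀ i, n i = θ i (n (c i)) := by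
  classical
  have := Fintype.ofFinite I
  let st : Setoid I :=
    { r := fun i j => ∀ d ∈ D, d i = 1 ↔ d j = 1
      iseqv := ⟨fun _ _ _ => Iff.rfl, fun h d hd => (h d hd).symm,
        fun h h' d hd => (h d hd).trans (h' d hd)⟩ }
  set c : I → I := fun i => (Quotient.mk st i).out with hcdef
  have hc : ∀ i, ∀ d ∈ D, d (c i) = 1 ↔ d i = 1 := fun i =>
    (Quotient.exact (Quotient.out_eq (Quotient.mk st i)) : st.r (c i) i)
  have hcc : ∀ i j, c i = c j ↔ ∀ d ∈ D, d i = 1 ↔ d j = 1 := by
    intro i j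
    constructor
    · intro h d hd
      rw [← hc i d hd, h, hc j d hd]
    · intro h
      exact congrArg Quotient.out (Quotient.sound (s := st) h)
  have hcid : ∀ i, c (c i) = c i := fun i => (hcc (c i) i).2 (hc i)
  let pr : I → (↥D →* T) := fun i => (Pi.evalMonoidHom (fun _ => T) i).comp D.subtype
  have hsurj : ∀ i, Function.Surjective (pr i) := fun i t => by
    obtain ⟨d, hd, h⟩ := hfull i t
    exact ⟨⟨d, hd⟩, h⟩
  choose s hs using hsurj
  have key : ∀ i (d d' : D), pr (c i) d = pr (c i) d' → pr i d = pr i d' := by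
    intro i d d' h
    have h1 : pr i (d * d'⁻¹) = 1 := (hc i _ (d * d'⁻¹).2).1 (by
      show pr (c i) (d * d'⁻¹) = 1
      rw [map_mul, map_inv, h, mul_inv_cancel])
    rwa [map_mul, map_inv, mul_inv_eq_one] at h1
  have key' : ∀ i (d d' : D), pr i d = pr i d' → pr (c i) d = pr (c i) d' := by
    intro i d d' h
    have h1 : pr (c i) (d * d'⁻¹) = 1 := (hc i _ (d * d'⁻¹).2).2 (by
      show pr i (d * d'⁻¹) = 1
      rw [map_mul, map_inv, h, mul_inv_cancel])
    rwa [map_mul, map_inv, mul_inv_eq_one] at h1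
  let θ : I → T ≃* T := fun i =>
    { toFun := fun t => pr i (s (c i) t)
      invFun := fun t => pr (c i) (s i t)
      left_inv := fun t => (key' i _ _ (hs i _)).trans (hs (c i) t)
      right_inv := fun t => (key i _ _ (hs (c i) _)).trans (hs i t)
      map_mul' := fun x y => by
        rw [← map_mul]
        exact key i _ _ (by rw [map_mul, hs, hs, hs]) }
  have hθ : ∀ i (d : D), θ i (pr (c i) d) = pr i d := fun i d => key i _ _ (hs _ _)
  refine ⟨c, θ, hcc, fun i => ⟨hcid i, ?_⟩, fun n => ⟨fun hn i => (hθ i ⟨n, hn⟩).symm, fun hn => ?_⟩⟩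
  · refine MulEquiv.ext fun t => ?_
    have h1 := hθ (c i) (s (c i) t)
    rw [hcid i, hs] at h1
    exact h1
  -- interpolation at the representatives
  set S := Finset.univ.image c with hS
  have hsep : ∀ r ∈ S, ∀ S' : Finset I, S' ⊆ S.erase r →
      ∀ t, ∃ d : D, pr r d = t ∧ ∀ l ∈ S', pr l d = 1 := by
    intro r hr S'
    induction S' using Finset.induction_on with
    | empty => exact fun _ t => ⟨s r t, hs r t, by simp⟩
    | @insert l S' hl ih =>
      intro hsub t
      rw [Finset.insert_subset_iff] at hsub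
      obtain ⟨hlr, hlS⟩ := Finset.mem_erase.1 hsub.1
      have hne : ∃ d : D, pr l d = 1 ∧ pr r d ≠ 1 := by
        by_contra hcon
        push Not at hcon
        refine hlr ?_
        obtain ⟨i, -, rfl⟩ := Finset.mem_image.1 hr
        obtain ⟨j, -, rfl⟩ := Finset.mem_image.1 hlS
        rw [← hcid i, ← hcid j]
        refine (hcc _ _).2 fun d hd => ⟨fun h => hcon ⟨d, hd⟩ h, fun h => ?_⟩
        have hN := (MonoidHom.normal_ker (pr (c i))).map (pr (c j)) fun u => ⟨s (c j) u, hs _ u⟩
        rcases hN.eq_bot_or_eq_top with e | e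
        · have : pr (c j) ⟨d, hd⟩ ∈ (pr (c i)).ker.map (pr (c j)) := ⟨⟨d, hd⟩, h, rfl⟩
          rwa [e, Subgroup.mem_bot] at this
        · exfalso
          obtain ⟨t₀, ht₀⟩ := exists_ne (1 : T)
          have hm : pr (c j) (s (c i) t₀) ∈ (pr (c i)).ker.map (pr (c j)) := by
            rw [e]; exact Subgroup.mem_top _
          obtain ⟨k, hk, hk'⟩ := hm
          have h2 := hcon (s (c i) t₀ * k⁻¹) (by rw [map_mul, map_inv, hk', mul_inv_cancel])
          rw [map_mul, map_inv, MonoidHom.mem_ker.1 hk, inv_one, mul_one, hs] at h2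
          exact ht₀ h2
      let M : Subgroup D :=
        (pr l).ker
      let P : Subgroup D := ⨅ z ∈ S', (pr z).ker
      have hM : M.map (pr r) = ⊤ := by
        refine ((MonoidHom.normal_ker (pr l)).map (pr r) fun u => ⟨s r u, hs r u⟩).eq_bot_or_eq_top.resolve_left ?_
        intro e
        obtain ⟨d, hd1, hd2⟩ := hne
        have : pr r d ∈ M.map (pr r) := ⟨d, hd1, rfl⟩
        rw [e, Subgroup.mem_bot] at this
        exact hd2 this
      let V : Subgroup D := M ⊓ P
      have hV : V.map (pr r) = ⊤ := by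
        rw [eq_top_iff, ← commutator_eq_top hT, commutator_def, Subgroup.commutator_le]
        intro x _ y _
        obtain ⟨d₁, hd₁, rfl⟩ := (hM ▸ Subgroup.mem_top x : x ∈ M.map (pr r))
        obtain ⟨d₂, rfl, hd₂⟩ := ih hsub.2 y
        refine ⟨⁅d₁, d₂⁆, ⟨?_, ?_⟩, map_commutatorElement _ _ _⟩
        · show pr l ⁅d₁, d₂⁆ = 1
          rw [map_commutatorElement, MonoidHom.mem_ker.1 hd₁, commutatorElement_one_left]
        · refine Subgroup.mem_iInf.2 fun z => Subgroup.mem_iInf.2 fun hz => ?_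
          show pr z ⁅d₁, d₂⁆ = 1
          rw [map_commutatorElement, hd₂ z hz, commutatorElement_one_right]
      obtain ⟨d, ⟨hd1, hd2⟩, hd⟩ := (hV ▸ Subgroup.mem_top t : t ∈ V.map (pr r))
      refine ⟨d, hd, fun z hz => ?_⟩
      rcases Finset.mem_insert.1 hz with rfl | hz
      · exact hd1
      · exact Subgroup.mem_iInf.1 (Subgroup.mem_iInf.1 hd2 z) hz
  have hinterp : ∀ S' : Finset I, S' ⊆ S →
      ∃ d : D, ∀ l ∈ S, pr l d = if l ∈ S' then n l else 1 := by
    intro S'
    induction S' using Finset.induction_on with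
    | empty => exact fun _ => ⟨1, fun l _ => by simp⟩
    | @insert r S' hr ih =>
      intro hsub
      rw [Finset.insert_subset_iff] at hsub
      obtain ⟨d, hd⟩ := ih hsub.2
      obtain ⟨e, he1, he2⟩ := hsep r hsub.1 (S.erase r) Finset.Subset.rfl (n r)
      refine ⟨e * d, fun l hl => ?_⟩
      rw [map_mul, hd l hl]
      by_cases h : l = r
      · subst h
        simp [hr, he1]
      · rw [he2 l (Finset.mem_erase.2 ⟨h, hl⟩), one_mul]
        simp [h]
  obtain ⟨d, hd⟩ := hinterp S Finset.Subset.rfl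
  have hnd : n = (d : I → T) := by
    funext i
    have h1 := hd (c i) (Finset.mem_image_of_mem c (Finset.mem_univ i))
    rw [if_pos (Finset.mem_image_of_mem c (Finset.mem_univ i))] at h1
    rw [hn i, ← h1, hθ]
    rfl
  exact hnd ▸ d.2

end Cfsg.Agent.Perm.ProdSub
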