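/-
Regular linear groups in odd dimension with an involutive automorphism fixing only involutions.

* `not_anticommute` : no two invertible maps anticommute in odd dimension
* `isCyclic_two_subgroup` : the 2-subgroups are cyclic
* `comm_of_involutive` : such a group is commutative
-/
import Cfsg.Agent.Lib.Perm.RegularLinear
import Mathlib.GroupTheory.Transfer
import Mathlib.GroupTheory.FixedPointFree
import Mathlib.LinearAlgebra.Determinant
import Mathlib.GroupTheory.SpecificGroups.Cyclic.Basic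

namespace Cfsg.Agent.Perm.RegLin

variable {p : ℕ} [Fact p.Prime] {V : Type*} [AddCommGroup V] [Module (ZMod p) V] [Finite V]

/-- In odd dimension and odd characteristic, invertible maps do not anticommute. -/
theorem not_anticommute (hp2 : p ≠ 2) (hf : Odd (Module.finrank (ZMod p) V))
    {g u : Module.End (ZMod p) V} (hg : Function.Injective g) (hu : Function.Injective u)
    (h : g * u = -(u * g)) : False := by
  have hdet : ∀ {w : Module.End (ZMod p) V}, Function.Injective w → LinearMap.det w ≠ 0 :=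
    fun {w} hw e => (LinearMap.bot_lt_ker_of_det_eq_zero e).ne' (LinearMap.ker_eq_bot.mpr hw)
  have h1 := congrArg LinearMap.det h
  rw [← neg_one_smul (ZMod p) (u * g), LinearMap.det_smul, map_mul, map_mul, hf.neg_one_pow,
    neg_one_mul, mul_comm (LinearMap.det u), eq_neg_iff_add_eq_zero, ← two_mul] at h1
  have h2 : (2 : ZMod p) ≠ 0 := by
    intro e
    have : ((2 : ℕ) : ZMod p) = 0 := by exact_mod_cast e
    rw [ZMod.natCast_eq_zero_iff, Nat.prime_two.dvd_iff_eq] at this
    · exact hp2 this.symm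
    · exact (Fact.out : p.Prime).ne_one
  exact mul_ne_zero h2 (mul_ne_zero (hdet hg) (hdet hu)) h1

variable [Nontrivial V] {H : Subgroup (V ≃ₗ[ZMod p] V)}
  (hreg : ∀ v w : V, v ≠ 0 → w ≠ 0 → ∃! h : H, (h : V ≃ₗ[ZMod p] V) v = w)

include hreg in
/-- The 2-subgroups are cyclic. -/
theorem isCyclic_two_subgroup (hp2 : p ≠ 2) (hf : Odd (Module.finrank (ZMod p) V))
    (P : Subgroup H) (hP : IsPGroup 2 P) : IsCyclic P := by
  have : Fact (Nat.Prime 2) := ⟨Nat.prime_two⟩
  have := finite_aut (K := ZMod p) (V := V)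
  refine isCyclic_of_commutative hreg P ?_
  by_contra hnc
  push Not at hnc
  obtain ⟨a, b, hab⟩ := hnc
  have hne : Subgroup.center P ≠ ⊤ := fun h => hab
    (Subgroup.mem_center_iff.mp (h ▸ Subgroup.mem_top b) a)
  have : Nontrivial (P ⧸ Subgroup.center P) := QuotientGroup.nontrivial_iff.mpr hne
  have := (hP.to_quotient (Subgroup.center P)).center_nontrivial
  obtain ⟨⟨q, hq⟩, hq1⟩ := exists_ne (1 : Subgroup.center (P ⧸ Subgroup.center P))
  obtain ⟨x, rfl⟩ := QuotientGroup.mk_surjective q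
  have hx : x ∉ Subgroup.center P := fun h => hq1 (Subtype.ext ((QuotientGroup.eq_one_iff x).mpr h))
  obtain ⟨y, hy⟩ : ∃ y, y * x ≠ x * y := by
    by_contra hall
    push Not at hall
    exact hx (Subgroup.mem_center_iff.mpr hall)
  set w := y * x * y⁻¹ * x⁻¹ with hw
  have hwc : w ∈ Subgroup.center P := by
    rw [← QuotientGroup.eq_one_iff, hw]
    simp only [QuotientGroup.mk_mul, QuotientGroup.mk_inv]
    rw [Subgroup.mem_center_iff.mp hq, mul_assoc (x : P ⧸ Subgroup.center P), mul_inv_cancel, mul_one,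
      mul_inv_cancel]
  have hw1 : w ≠ 1 := fun e => hy (by
    rw [hw, mul_inv_eq_one, mul_inv_eq_iff_eq_mul] at e
    exact e)
  obtain ⟨m, hm⟩ := IsPGroup.iff_orderOf.mp hP w
  obtain ⟨k, rfl⟩ : ∃ k, m = k + 1 := ⟨m - 1, by
    rcases m with _ | m
    · exact absurd (orderOf_eq_one_iff.mp (hm.trans (pow_zero 2))) hw1
    · rfl⟩
  have hz : orderOf (w ^ 2 ^ k) = 2 := by
    rw [orderOf_pow, hm, pow_succ, Nat.gcd_mul_right_left, Nat.mul_div_cancel_left _ (pow_pos two_pos k)]
  have hconj : y * x ^ 2 ^ k * y⁻¹ = w ^ 2 ^ k * x ^ 2 ^ k := by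
    rw [← conj_pow, show y * x * y⁻¹ = w * x by rw [hw, inv_mul_cancel_right]]
    exact Commute.mul_pow (Subgroup.mem_center_iff.mp hwc x).symm _
  set z : H := ((w ^ 2 ^ k : P) : H)
  have hzord : orderOf z = 2 := by rw [Subgroup.orderOf_coe, hz]
  have hzneg : ∀ v, (z : V ≃ₗ[ZMod p] V) v = -v :=
    eq_neg_of_involution hreg (by rw [← pow_two, ← hzord, pow_orderOf_eq_one])
      (fun e => by rw [e, orderOf_one] at hzord; omega)
  refine not_anticommute hp2 hf (g := (((y : H) : V ≃ₗ[ZMod p] V) : V →ₗ[ZMod p] V))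
    (u := ((((x ^ 2 ^ k : P) : H) : V ≃ₗ[ZMod p] V) : V →ₗ[ZMod p] V))
    (LinearEquiv.injective _) (LinearEquiv.injective _) (LinearMap.ext fun v => ?_)
  have h1 : (y : H) * ((x ^ 2 ^ k : P) : H) = z * ((x ^ 2 ^ k : P) : H) * (y : H) := by
    rw [← Subgroup.coe_mul, ← Subgroup.coe_mul, ← Subgroup.coe_mul, ← hconj, inv_mul_cancel_right]
  have h2 := congrArg (fun e : H => (e : V ≃ₗ[ZMod p] V) v) h1
  simp only [Subgroup.coe_mul, LinearEquiv.mul_apply] at h2
  rw [hzneg] at h2
  exact h2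

include hreg in
/-- An involutive automorphism fixing only involutions forces commutativity in odd dimension. -/
theorem comm_of_involutive (hp2 : p ≠ 2) (hf : Odd (Module.finrank (ZMod p) V)) (φ : H →* H)
    (hφ : Function.Involutive φ) (hfix : ∀ g, φ g = g → g * g = 1) (x y : H) : x * y = y * x := by
  classical
  have : Fact (Nat.Prime 2) := ⟨Nat.prime_two⟩
  have := finite_aut (K := ZMod p) (V := V)
  have hp := (Fact.out : p.Prime)
  have hcardH := card_eq hreg
  have hev : 2 ∣ Nat.card H := by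
    obtain ⟨j, hj⟩ := (hp.odd_of_ne_two hp2).pow (n := Module.finrank (ZMod p) V)
    rw [hcardH, hj]
    exact ⟨j, by omega⟩
  obtain ⟨P⟩ : Nonempty (Sylow 2 H) := inferInstance
  have hPc : IsCyclic (P : Subgroup H) := isCyclic_two_subgroup hreg hp2 hf _ P.2
  have hle := IsCyclic.normalizer_le_centralizer ((Nat.minFac_eq_two_iff _).mpr hev) (P := P) hPc
  set ν := MonoidHom.transferSylow P hle with hν
  have hcompl := MonoidHom.ker_transferSylow_isComplement' P hle
  have hcm : ∀ a b : (P : Subgroup H), a * b = b * a := fun a b => IsCyclic.commGroup.mul_comm a b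
  have hcoprime : ∀ g ∈ ν.ker, ¬ 2 ∣ orderOf g := fun g hg h2 => by
    have h := h2.trans (Subgroup.orderOf_dvd_natCard _ hg)
    rw [← hcompl.index_eq_card] at h
    exact P.not_dvd_index h
  have hodd : ∀ g : H, ¬ 2 ∣ orderOf g → g ∈ ν.ker := fun g hg => by
    rw [MonoidHom.mem_ker, ← orderOf_eq_one_iff]
    obtain ⟨i, hi⟩ := IsPGroup.iff_orderOf.mp P.2 (ν g)
    rcases i with _ | i
    · exact hi.trans (pow_zero 2)
    · exact absurd ((dvd_pow_self 2 (Nat.succ_ne_zero i)).trans (hi ▸ orderOf_map_dvd ν g)) hg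
  have hφO : ∀ g ∈ ν.ker, φ g ∈ ν.ker := fun g hg =>
    hodd _ fun h => hcoprime g hg (h.trans (orderOf_map_dvd φ g))
  have hfixO : ∀ g ∈ ν.ker, φ g = g → g = 1 := fun g hg e => by
    by_contra h1
    exact hcoprime g hg (dvd_of_eq (orderOf_eq_prime (by rw [pow_two]; exact hfix g e) h1).symm)
  let φO : ν.ker →* ν.ker :=
    { toFun := fun g => ⟨φ g, hφO g g.2⟩
      map_one' := Subtype.ext (by simp)
      map_mul' := fun g h => Subtype.ext (by simp) }
  have hfpf : MonoidHom.FixedPointFree φO := fun g hg =>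
    Subtype.ext (hfixO g g.2 (congrArg Subtype.val hg))
  have hφOi : Function.Involutive φO := fun g => Subtype.ext (hφ g)
  have hinvO : ∀ o ∈ ν.ker, φ o = o⁻¹ := fun o ho =>
    congrArg Subtype.val (congrFun (hfpf.coe_eq_inv_of_involutive hφOi) ⟨o, ho⟩)
  have hOc : ∀ o ∈ ν.ker, ∀ o' ∈ ν.ker, o * o' = o' * o := fun o ho o' ho' =>
    congrArg Subtype.val (hfpf.commute_all_of_involutive hφOi ⟨o, ho⟩ ⟨o', ho'⟩).eq
  let A : Subgroup H := Subgroup.centralizer (ν.ker : Set H)
  have hAn : A.Normal := by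
    refine ⟨fun n hn g => Subgroup.mem_centralizer_iff.mpr fun o ho => ?_⟩
    have h1 := Subgroup.mem_centralizer_iff.mp hn (g⁻¹ * o * g)
      (by simpa using (MonoidHom.normal_ker ν).conj_mem o ho g⁻¹)
    calc o * (g * n * g⁻¹) = g * ((g⁻¹ * o * g) * n) * g⁻¹ := by group
      _ = g * (n * (g⁻¹ * o * g)) * g⁻¹ := by rw [h1]
      _ = g * n * g⁻¹ * o := by group
  have hOA : ν.ker ≤ A := fun o ho => Subgroup.mem_centralizer_iff.mpr fun o' ho' => hOc o' ho' o ho
  have hδA : ∀ g : H, g⁻¹ * φ g ∈ A := fun g => Subgroup.mem_centralizer_iff.mpr fun o ho => by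
    have h1 : g * o * g⁻¹ ∈ ν.ker := (MonoidHom.normal_ker ν).conj_mem o ho g
    have h2 : φ g * o⁻¹ * (φ g)⁻¹ = g * o⁻¹ * g⁻¹ := by
      rw [← hinvO o ho, ← map_inv φ g, ← map_mul, ← map_mul, hinvO _ h1, hinvO o ho]
      group
    have h3 : o⁻¹ * (g⁻¹ * φ g) = (g⁻¹ * φ g) * o⁻¹ := by
      calc o⁻¹ * (g⁻¹ * φ g) = g⁻¹ * (g * o⁻¹ * g⁻¹) * φ g := by group
        _ = g⁻¹ * (φ g * o⁻¹ * (φ g)⁻¹) * φ g := by rw [h2]
        _ = (g⁻¹ * φ g) * o⁻¹ := by group
    exact (Commute.inv_left_iff.mp h3).eq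
  -- squares centralise the odd part
  let δ : H →* (P : Subgroup H) :=
    { toFun := fun g => ν (g⁻¹ * φ g)
      map_one' := by simp
      map_mul' := fun g h => by
        rw [← map_mul]
        simp only [map_mul, map_inv, _root_.mul_inv_rev]
        rw [hcm (ν h)⁻¹ (ν g)⁻¹, mul_assoc, mul_assoc, ← mul_assoc (ν h)⁻¹, hcm (ν h)⁻¹,
          mul_assoc (ν (φ g))] }
  have hinv : ∀ g : H, g * g = 1 → g ≠ 1 → ∀ g' : H, g' * g' = 1 → g' ≠ 1 → g = g' :=
    fun g h1 h2 g' h3 h4 => Subtype.ext (LinearEquiv.ext fun v => by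
      rw [eq_neg_of_involution hreg h1 h2, eq_neg_of_involution hreg h3 h4])
  have hker : Nat.card δ.ker ≤ 2 * Nat.card ν.ker := by
    obtain ⟨z, hz⟩ := exists_prime_orderOf_dvd_card' (G := H) 2 hev
    let f : Bool × ν.ker → H := fun q => (if q.1 then z else 1) * (q.2 : H)
    have hsub : (δ.ker : Set H) ⊆ Set.range f := by
      intro g hg
      have ho : g⁻¹ * φ g ∈ ν.ker := hg
      obtain ⟨j, hj⟩ : ∃ j, orderOf (g⁻¹ * φ g) = 2 * j + 1 :=
        Nat.odd_iff.mpr (Nat.two_dvd_ne_zero.mp (hcoprime _ ho))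
      set o := g⁻¹ * φ g with hdef
      have ho1 : o ^ (j + 1) ∈ ν.ker := pow_mem ho _
      have hfx : φ (g * o ^ (j + 1)) = g * o ^ (j + 1) := by
        rw [map_mul, map_pow, hinvO o ho, show φ g = g * o by rw [hdef, mul_inv_cancel_left], mul_assoc]
        congr 1
        rw [inv_pow, mul_inv_eq_iff_eq_mul, ← pow_add,
          show j + 1 + (j + 1) = (2 * j + 1) + 1 by ring, pow_succ, ← hj, pow_orderOf_eq_one, one_mul]
      have hsq := hfix _ hfx
      by_cases h1 : g * o ^ (j + 1) = 1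
      · exact ⟨(false, ⟨(o ^ (j + 1))⁻¹, inv_mem ho1⟩), by
          simp only [f, Bool.false_eq_true, if_false, one_mul]
          exact (eq_inv_of_mul_eq_one_left h1).symm⟩
      · have hzz : g * o ^ (j + 1) = z := hinv _ hsq h1 z
          (by rw [← pow_two, ← hz, pow_orderOf_eq_one]) (fun e => by rw [e, orderOf_one] at hz; omega)
        exact ⟨(true, ⟨(o ^ (j + 1))⁻¹, inv_mem ho1⟩), by
          simp only [f, if_true, ← hzz, mul_inv_cancel_right]⟩
    calc Nat.card δ.ker ≤ Nat.card (Set.range f) := Nat.card_mono (Set.toFinite _) hsub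
      _ ≤ Nat.card (Bool × ν.ker) := Finite.card_range_le f
      _ = 2 * Nat.card ν.ker := by simp [Nat.card_prod]
  have hidx : δ.range.index = 1 ∨ δ.range.index = 2 := by
    have h1 : Nat.card ν.ker * Nat.card (P : Subgroup H) = Nat.card H := hcompl.card_mul
    have h2 := δ.ker.index_mul_card
    rw [Subgroup.index_ker] at h2
    have h3 := δ.range.index_mul_card
    have h4 : 0 < Nat.card ν.ker := Nat.card_pos
    have h5 : δ.range.index ≠ 0 := Subgroup.index_ne_zero_of_finite
    have h6 : δ.range.index * (Nat.card δ.range * Nat.card ν.ker) ≤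
        2 * (Nat.card δ.range * Nat.card ν.ker) := by
      rw [← mul_assoc, h3, mul_comm, h1, ← h2, ← mul_assoc, mul_comm 2, mul_assoc]
      exact Nat.mul_le_mul_left _ hker
    have h7 := Nat.le_of_mul_le_mul_right h6 (Nat.mul_pos Nat.card_pos h4)
    omega
  have hsqA : ∀ g : H, g * g ∈ A := fun g => by
    have hmem : ν g * ν g ∈ δ.range := by
      rcases hidx with h | h
      · rw [Subgroup.index_eq_one.mp h]; exact Subgroup.mem_top _
      · exact Subgroup.mul_self_mem_of_index_two h _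
    obtain ⟨h, hh⟩ := hmem
    have h1 : (h⁻¹ * φ h)⁻¹ * (g * g) ∈ ν.ker := by
      rw [MonoidHom.mem_ker, map_mul, map_inv, map_mul ν g g, ← hh]
      exact inv_mul_cancel _
    have h2 := mul_mem (hδA h) (hOA h1)
    rwa [mul_inv_cancel_left] at h2
  have hAc : ∀ a b : A, a * b = b * a := by
    let νA : A →* (P : Subgroup H) := ν.comp A.subtype
    exact fun a b => (MonoidHom.isMulCommutative_of_isCyclic_of_ker_le_center νA fun a ha => Subgroup.mem_center_iff.mpr fun b =>
      Subtype.ext (Subgroup.mem_centralizer_iff.mp b.2 a ha).symm).is_comm.comm a b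
  -- a generator of the 2-part
  obtain ⟨π, hπ⟩ := IsCyclic.exists_generator (α := ν.range)
  obtain ⟨w, hw⟩ := π.2
  have hcases : ∀ g : H, g ∈ A ∨ g * w⁻¹ ∈ A := by
    intro g
    obtain ⟨k, hk⟩ := Subgroup.mem_zpowers_iff.mp (hπ ⟨ν g, g, rfl⟩)
    have hk' : ν w ^ k = ν g := by
      rw [hw, ← Subgroup.coe_zpow, hk]
    have hmem : g * (w ^ k)⁻¹ ∈ A := hOA (by
      rw [MonoidHom.mem_ker, map_mul, map_inv, map_zpow, hk', mul_inv_cancel])
    rcases Int.even_or_odd k with ⟨i, rfl⟩ | ⟨i, rfl⟩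
    · left
      have : (w * w) ^ i = w ^ (i + i) := by
        rw [zpow_add, Commute.mul_zpow (Commute.refl w)]
      have h2 := mul_mem hmem (this ▸ zpow_mem (hsqA w) i)
      rwa [inv_mul_cancel_right] at h2
    · right
      have : (w * w) ^ i * w = w ^ (2 * i + 1) := by
        rw [zpow_add, zpow_one, two_mul, zpow_add, Commute.mul_zpow (Commute.refl w)]
      rw [← this, _root_.mul_inv_rev, ← mul_assoc] at hmem
      simpa using mul_mem hmem (zpow_mem (hsqA w) i)
  by_cases hwA : ∀ a ∈ A, w * a = a * w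
  · have hexp : ∀ g : H, ∃ a ∈ A, g = a ∨ g = a * w := fun g => by
      rcases hcases g with h | h
      · exact ⟨g, h, Or.inl rfl⟩
      · exact ⟨_, h, Or.inr (inv_mul_cancel_right g w).symm⟩
    obtain ⟨a, ha, ha'⟩ := hexp x
    obtain ⟨b, hb, hb'⟩ := hexp y
    have hab : Commute a b := congrArg Subtype.val (hAc ⟨a, ha⟩ ⟨b, hb⟩)
    have haw : Commute a w := (hwA a ha).symm
    have hbw : Commute b w := (hwA b hb).symm
    rcases ha' with rfl | rfl <;> rcases hb' with rfl | rfl
    · exact hab.eq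
    · exact (hab.mul_right haw).eq
    · exact (hab.mul_left hbw.symm).eq
    · exact ((hab.mul_right haw).mul_left (hbw.symm.mul_right (Commute.refl w))).eq
  exfalso
  push Not at hwA
  obtain ⟨a, ha, hne⟩ := hwA
  -- `A` is irreducible
  have hcardA : Nat.card H ≤ 2 * Nat.card A := by
    have hs : Function.Surjective fun q : Bool × A => (q.2 : H) * (if q.1 then w else 1) := fun g => by
      rcases hcases g with h | h
      · exact ⟨(false, ⟨g, h⟩), by simp⟩
      · exact ⟨(true, ⟨_, h⟩), by simp⟩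
    calc Nat.card H ≤ Nat.card (Bool × A) := Nat.card_le_card_of_surjective _ hs
      _ = 2 * Nat.card A := by simp [Nat.card_prod]
  have hirr : ∀ W : Submodule (ZMod p) V, (∀ b ∈ A, ∀ v ∈ W, (b : V ≃ₗ[ZMod p] V) v ∈ W) →
      W = ⊥ ∨ W = ⊤ := by
    intro W hW
    by_contra hcon
    push Not at hcon
    obtain ⟨v, hv, hv0⟩ := W.ne_bot_iff.mp hcon.1
    have hd : Module.finrank (ZMod p) W < Module.finrank (ZMod p) V := Submodule.finrank_lt hcon.2
    have h1 : Nat.card A < Nat.card W := by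
      have : Nat.card A ≤ Nat.card {u : W // u ≠ 0} :=
        Nat.card_le_card_of_injective (fun b => ⟨⟨((b : H) : V ≃ₗ[ZMod p] V) v, hW b b.2 v hv⟩,
          fun e => hv0 ((LinearEquiv.map_eq_zero_iff _).mp (congrArg Subtype.val e))⟩)
          fun b c e => Subtype.ext ((hreg v _ hv0
            (fun e => hv0 ((LinearEquiv.map_eq_zero_iff _).mp e))).unique
              (congrArg (fun u => ((u.1 : W) : V)) e) rfl)
      refine this.trans_lt ?_
      exact Finite.card_subtype_lt (x := (0 : W)) (by simp)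
    have h2 := Module.natCard_eq_pow_finrank (K := ZMod p) (V := W)
    rw [Nat.card_zmod] at h2
    have h3 : p ^ (Module.finrank (ZMod p) W + 1) ≤ p ^ Module.finrank (ZMod p) V :=
      Nat.pow_le_pow_right hp.pos hd
    have h4 : 3 * p ^ Module.finrank (ZMod p) W ≤ p ^ (Module.finrank (ZMod p) W + 1) := by
      rw [pow_succ']
      exact Nat.mul_le_mul_right _ (by have := hp.two_le; omega)
    omega
  let L : H → Module.End (ZMod p) V := fun g => ((g : V ≃ₗ[ZMod p] V) : V →ₗ[ZMod p] V)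
  have hL : ∀ g h, L (g * h) = L g * L h := fun g h => LinearMap.ext fun v => rfl
  have hwa : w * a * w⁻¹ ∈ A := hAn.conj_mem a ha w
  let u := L a - L (w * a * w⁻¹)
  have hu : Function.Injective u := by
    rw [← LinearMap.ker_eq_bot]
    refine (hirr (LinearMap.ker u) fun b hb v hv => ?_).resolve_right fun e => hne ?_
    · have hc1 : L a * L b = L b * L a := by
        rw [← hL, ← hL]; exact congrArg L (congrArg Subtype.val (hAc ⟨a, ha⟩ ⟨b, hb⟩))
      have hc2 : L (w * a * w⁻¹) * L b = L b * L (w * a * w⁻¹) := by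
        rw [← hL, ← hL]; exact congrArg L (congrArg Subtype.val (hAc ⟨_, hwa⟩ ⟨b, hb⟩))
      rw [LinearMap.mem_ker] at hv ⊢
      have : u * L b = L b * u := by simp only [u, sub_mul, mul_sub, hc1, hc2]
      exact (LinearMap.congr_fun this v).trans (by rw [Module.End.mul_apply, hv, map_zero])
    · rw [LinearMap.ker_eq_top, sub_eq_zero] at e
      have h : a = w * a * w⁻¹ := Subtype.ext (LinearEquiv.toLinearMap_injective e)
      exact (mul_inv_eq_iff_eq_mul.mp h.symm)
  refine not_anticommute hp2 hf (g := L w) (u := u) (LinearEquiv.injective _) hu ?_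
  simp only [u, mul_sub, sub_mul, ← hL]
  have h2w : a * (w * w) = w * w * a := congrArg Subtype.val (hAc ⟨a, ha⟩ ⟨_, hsqA w⟩)
  rw [show w * (w * a * w⁻¹) = a * w by rw [← mul_assoc, ← mul_assoc, ← h2w]; group,
    show w * a * w⁻¹ * w = w * a by group, neg_sub]

end Cfsg.Agent.Perm.RegLin
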