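/-
Sharply 3-transitive groups of even degree with commutative two-point stabiliser.

* `card_fixed_le_two`, `sq_eq_one_of_exchConj_eq`
* `inverts_of_comm` : the exchanging involution inverts the two-point stabiliser
-/
import Cfsg.Agent.Lib.Perm.SharpThreeExchange

namespace Cfsg.Agent.Perm

open MulAction

variable {α : Type*} [Fintype α] [DecidableEq α] {G : Subgroup (Equiv.Perm α)}

theorem sq_eq_one_of_exchConj_eq (hsharp : ∀ x : Fin 3 ↪ α, stabilizer G x = ⊥) {a b c : α}
    (hab : a ≠ b) (hac : a ≠ c) (hbc : b ≠ c) {s : G} (hsa : s • a = b) (hsb : s • b = a)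
    (hsc : s • c = c) (g : ↥(stabilizer G a ⊓ stabilizer G b)) (hg : exchConj hsa hsb g = g) :
    g * g = 1 := by
  classical
  have hs1 : s ≠ 1 := fun e => hab (by rw [← hsa, e, one_smul])
  let C : Subgroup ↥(stabilizer G a ⊓ stabilizer G b) := (exchConj hsa hsb).eqLocus (MonoidHom.id _)
  have hfix : (Finset.univ.filter fun x : α => s • x = x).card ≤ 2 := by
    by_contra h
    obtain ⟨x, y, z, hx, hy, hz, hxy, hxz, hyz⟩ := Finset.two_lt_card_iff.mp (not_le.mp h)
    simp only [Finset.mem_filter, Finset.mem_univ, true_and] at hx hy hz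
    exact hs1 (key_of_sharp hsharp s x y z hxy hxz hyz hx hy hz)
  have hC : Nat.card C ≤ 2 := by
    refine le_trans (Nat.card_le_card_of_injective (fun g : C =>
      (⟨((g : ↥(stabilizer G a ⊓ stabilizer G b)) : G) • c, by
        rw [Finset.mem_filter]
        exact ⟨Finset.mem_univ _, fix_of_exchConj_eq hsa hsb hsc g.2⟩⟩ :
        {x : α // x ∈ Finset.univ.filter fun x : α => s • x = x})) ?_) ?_
    · intro u v h
      have h' : ((u : ↥(stabilizer G a ⊓ stabilizer G b)) : G) • c = ((v : ↥(stabilizer G a ⊓ stabilizer G b)) : G) • c :=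
        congrArg Subtype.val h
      refine Subtype.ext (Subtype.ext (inv_mul_eq_one.mp ?_).symm)
      refine key_of_sharp hsharp _ a b c hab hac hbc ?_ ?_ ?_
      · rw [mul_smul, show _ • a = a from u.1.2.1, inv_smul_eq_iff]; exact v.1.2.1.symm
      · rw [mul_smul, show _ • b = b from u.1.2.2, inv_smul_eq_iff]; exact v.1.2.2.symm
      · rw [mul_smul, h', inv_smul_smul]
    · rw [Nat.card_eq_fintype_card, Fintype.card_coe]
      exact hfix
  have h1 := pow_card_eq_one' (x := (⟨g, hg⟩ : C))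
  have h0 : 0 < Nat.card C := Nat.card_pos
  interval_cases h : Nat.card C
  · rw [pow_one] at h1
    rw [show g = 1 from congrArg Subtype.val h1, one_mul]
  · rw [pow_two] at h1
    exact congrArg Subtype.val h1

theorem inverts_of_comm (h3 : IsMultiplyPretransitive G α 3) (heven : Even (Fintype.card α))
    (hsharp : ∀ x : Fin 3 ↪ α, stabilizer G x = ⊥) {a b c : α}
    (hab : a ≠ b) (hac : a ≠ c) (hbc : b ≠ c) {s : G} (hsa : s • a = b) (hsb : s • b = a)
    (hsc : s • c = c)
    (hKcomm : ∀ g ∈ stabilizer G a ⊓ stabilizer G b, ∀ h ∈ stabilizer G a ⊓ stabilizer G b,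
      g * h = h * g) :
    ∀ h ∈ stabilizer G a ⊓ stabilizer G b, s * h * s⁻¹ = h⁻¹ := by
  classical
  have hs2 := sq_eq_one_of_exchange hsharp hab hac hbc hsa hsb hsc
  obtain ⟨R, iR, iRf, φ, hφa, hφb, hφc, hcard, htr, hmu, -⟩ :=
    exists_coordinates G h3 (key_of_sharp hsharp) hab hac hbc hKcomm
  have htwo : (2 : R) ≠ 0 := fun h2 => by
    have hd : addOrderOf (1 : R) ∣ 2 := addOrderOf_dvd_of_nsmul_eq_zero (by rw [two_nsmul, one_add_one_eq_two, h2])
    have h1 : addOrderOf (1 : R) ≠ 1 := fun e => one_ne_zero (AddMonoid.addOrderOf_eq_one_iff.mp e)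
    rcases (Nat.dvd_prime Nat.prime_two).mp hd with e | e
    · exact h1 e
    · have h := addOrderOf_dvd_natCard (1 : R)
      rw [e] at h
      obtain ⟨k, hk⟩ := heven
      omega
  choose k hk hkP using hmu
  have hkc : ∀ u : Rˣ, k u • c = φ (PSL2.pt (u : R)) := fun u => by
    rw [← hφc, hkP, PSL2.aff_smul_pt, mul_one, add_zero]
  have heq : ∀ g ∈ stabilizer G a ⊓ stabilizer G b, ∀ h ∈ stabilizer G a ⊓ stabilizer G b,
      g • c = h • c → g = h := fun g hg h hh e => by
    refine (inv_mul_eq_one.mp ?_).symm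
    refine key_of_sharp hsharp _ a b c hab hac hbc ?_ ?_ ?_
    · rw [mul_smul, show g • a = a from hg.1, inv_smul_eq_iff]; exact hh.1.symm
    · rw [mul_smul, show g • b = b from hg.2, inv_smul_eq_iff]; exact hh.2.symm
    · rw [mul_smul, e, inv_smul_smul]
  have hkinj : ∀ u v, k u = k v → u = v := fun u v e =>
    Units.ext (PSL2.pt_inj.mp (φ.injective (by rw [← hkc, ← hkc, e])))
  have hkmul : ∀ u v, k (u * v) = k u * k v := fun u v =>
    heq _ (hk _) _ (mul_mem (hk u) (hk v)) (by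
      rw [hkc, mul_smul, hkc, hkP, PSL2.aff_smul_pt, add_zero, Units.val_mul])
  have hk1 : k 1 = 1 := mul_right_cancel (a := k 1) (b := k 1) (by rw [← hkmul, one_mul, one_mul])
  have hsurj : ∀ g ∈ stabilizer G a ⊓ stabilizer G b, ∃ u, k u = g := fun g hg => by
    obtain ⟨P, hP⟩ := φ.surjective (g • c)
    rcases PSL2.pt_cases P with rfl | ⟨r, rfl⟩
    · rw [hφa] at hP
      exact absurd ((inv_smul_eq_iff.mpr hg.1.symm).symm.trans (inv_smul_eq_iff.mpr hP)) hac
    · have hr : r ≠ 0 := by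
        rintro rfl
        rw [hφb] at hP
        exact hbc ((inv_smul_eq_iff.mpr hg.2.symm).symm.trans (inv_smul_eq_iff.mpr hP))
      exact ⟨Units.mk0 r hr, heq _ (hk _) _ hg (by rw [hkc, Units.val_mk0, hP])⟩
  choose σ hσ using fun u => hsurj _ (exchange_mem hsa hsb ⟨k u, hk u⟩)
  have hσ' : ∀ u, k (σ u) = s * k u * s⁻¹ := hσ
  have hσm : ∀ u v, σ (u * v) = σ u * σ v := fun u v => hkinj _ _ (by
    rw [hσ', hkmul, hkmul, hσ', hσ']; simp [mul_assoc])
  have hσi : ∀ u v, σ u = σ v → u = v := fun u v e => hkinj _ _ (by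
    have := congrArg k e
    rw [hσ', hσ'] at this
    exact mul_left_cancel (mul_right_cancel this))
  have hσσ : ∀ u, σ (σ u) = u := fun u => hkinj _ _ (by
    rw [hσ', hσ', show s⁻¹ = s from inv_eq_of_mul_eq_one_right hs2,
      show s * (s * k u * s) * s = (s * s) * k u * (s * s) by group, hs2, one_mul, mul_one])
  have hσ1 : σ 1 = 1 := mul_right_cancel (a := σ 1) (b := σ 1) (by rw [← hσm, one_mul, one_mul])
  -- the sign
  have hsq : ∀ u, (u * σ u) * (u * σ u) = 1 := fun u => hkinj _ _ (by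
    rw [hk1, hkmul]
    have hmem : k (u * σ u) ∈ stabilizer G a ⊓ stabilizer G b := hk _
    refine congrArg Subtype.val (sq_eq_one_of_exchConj_eq hsharp hab hac hbc hsa hsb hsc
      ⟨_, hmem⟩ (Subtype.ext ?_))
    change s * k (u * σ u) * s⁻¹ = k (u * σ u)
    rw [← hσ', hσm, hσσ, mul_comm])
  let ε : R → R := fun y => if h : y = 0 then 0 else ((Units.mk0 y h * σ (Units.mk0 y h) : Rˣ) : R)
  have hεu : ∀ u : Rˣ, ε u = ((u * σ u : Rˣ) : R) := fun u => by
    simp only [ε, dif_neg u.ne_zero]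
    rw [show Units.mk0 (u : R) u.ne_zero = u from Units.ext rfl]
  have hε : ∀ y, y ≠ 0 → ε y = 1 ∨ ε y = -1 := fun y hy => by
    obtain ⟨u, rfl⟩ : ∃ u : Rˣ, (u : R) = y := ⟨Units.mk0 y hy, rfl⟩
    rw [hεu]
    exact mul_self_eq_one_iff.mp (congrArg Units.val (hsq u))
  have hεm : ∀ x y, x ≠ 0 → y ≠ 0 → ε (x * y) = ε x * ε y := fun x y hx hy => by
    obtain ⟨u, rfl⟩ : ∃ u : Rˣ, (u : R) = x := ⟨Units.mk0 x hx, rfl⟩
    obtain ⟨v, rfl⟩ : ∃ v : Rˣ, (v : R) = y := ⟨Units.mk0 y hy, rfl⟩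
    rw [← Units.val_mul, hεu, hεu, hεu, ← Units.val_mul, hσm]
    congr 1
    exact mul_mul_mul_comm u v (σ u) (σ v)
  have hεn : ε (-1) = 1 := by
    have h : σ (-1 : Rˣ) * σ (-1 : Rˣ) = 1 := by rw [← hσm, neg_one_mul, neg_neg, hσ1]
    rcases mul_self_eq_one_iff.mp (congrArg Units.val h) with h' | h'
    · have h2 : (-1 : Rˣ) = 1 := hσi _ _ (by rw [hσ1]; exact Units.ext h')
      have h3 : (-1 : R) = 1 := congrArg Units.val h2
      exact absurd (by linear_combination -h3 : (2 : R) = 0) htwo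
    · rw [show (-1 : R) = ((-1 : Rˣ) : R) from rfl, hεu, Units.val_mul, h']
      simp
  -- the element of order three
  obtain ⟨t, ht⟩ := htr 1
  obtain ⟨r, hrdef⟩ : ∃ r, r = s * t * k (-1) := ⟨_, rfl⟩
  have htm : ∀ x, (t * k (-1)) • φ (PSL2.pt x) = φ (PSL2.pt (1 - x)) := fun x => by
    rw [mul_smul, hkP, PSL2.aff_smul_pt, ht, PSL2.aff_smul_pt]
    congr 2
    simp [sub_eq_neg_add]
  have hra : r • a = b := by
    rw [hrdef, mul_assoc, mul_smul, mul_smul, show k (-1) • a = a from (hk _).1, ← hφa, ht,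
      PSL2.aff_smul_pinf, hφa, hsa]
  have hrb : r • b = c := by
    rw [hrdef, mul_assoc, mul_smul, ← hφb, htm, sub_zero, hφc, hsc]
  have hrc : r • c = a := by
    rw [hrdef, mul_assoc, mul_smul, ← hφc, htm, sub_self, hφb, hsb]
  have hr3 : r * r * r = 1 := key_of_sharp hsharp _ a b c hab hac hbc
    (by rw [mul_smul, mul_smul, hra, hrb, hrc]) (by rw [mul_smul, mul_smul, hrb, hrc, hra])
    (by rw [mul_smul, mul_smul, hrc, hra, hrb])
  have hr : ∀ y, y ≠ 0 → r • φ (PSL2.pt (1 - y)) = φ (PSL2.pt (ε y * y⁻¹)) := fun y hy => by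
    obtain ⟨u, rfl⟩ : ∃ u : Rˣ, (u : R) = y := ⟨Units.mk0 y hy, rfl⟩
    rw [hrdef, mul_assoc, mul_smul, htm, sub_sub_cancel, ← hkc, hεu, Units.val_mul, mul_comm (u : R),
      mul_assoc, mul_inv_cancel₀ u.ne_zero, mul_one, ← hkc, hσ', mul_smul, mul_smul,
      show s⁻¹ • c = c from inv_smul_eq_iff.mpr hsc.symm]
  have hquad : ∀ y, y ≠ 0 → ε y = -1 → y * y = y + 1 := by
    intro y hy hey
    have hy1 : y + 1 ≠ 0 := fun e => by
      rw [eq_neg_of_add_eq_zero_left e, hεn] at hey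
      exact htwo (by linear_combination hey)
    have hε1 : ε 1 = 1 := by
      have := congrArg Units.val (show (1 : Rˣ) * σ 1 = 1 by rw [hσ1, one_mul])
      rwa [← hεu] at this
    have hεinv : ∀ z, z ≠ 0 → ε z⁻¹ = ε z := fun z hz => by
      have h := hεm z z⁻¹ hz (inv_ne_zero hz)
      rw [mul_inv_cancel₀ hz, hε1] at h
      rcases hε z hz with e | e <;> rw [e] at h ⊢
      · rw [one_mul] at h; exact h.symm
      · linear_combination h
    have step1 : r • φ (PSL2.pt (1 - y)) = φ (PSL2.pt (1 - (y + 1) * y⁻¹)) := by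
      rw [hr y hy, hey]; congr 2; field_simp; ring
    have hy1' : (y + 1) * y⁻¹ ≠ 0 := mul_ne_zero hy1 (inv_ne_zero hy)
    have hfin : r • r • r • φ (PSL2.pt (1 - y)) = φ (PSL2.pt (1 - y)) := by
      rw [← mul_smul, ← mul_smul, hr3, one_smul]
    rw [step1, hr _ hy1', hεm _ _ hy1 (inv_ne_zero hy), hεinv y hy, hey] at hfin
    rcases hε (y + 1) hy1 with e | e <;> rw [e] at hfin
    · by_cases h0 : (2 * y + 1) = 0
      · rw [show (1 : R) * -1 * ((y + 1) * y⁻¹)⁻¹ = 1 by
          field_simp; linear_combination -h0, hφc, hrc, ← hφa] at hfin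
        exact absurd (φ.injective hfin) (PSL2.pinf_ne_pt _)
      rw [show (1 : R) * -1 * ((y + 1) * y⁻¹)⁻¹ = 1 - (2 * y + 1) * (y + 1)⁻¹ by field_simp; ring,
        hr _ (mul_ne_zero h0 (inv_ne_zero hy1))] at hfin
      have h := PSL2.pt_inj.mp (φ.injective hfin)
      rcases hε _ (mul_ne_zero h0 (inv_ne_zero hy1)) with e' | e' <;> rw [e'] at h <;> field_simp at h
      · exact absurd (mul_eq_zero.mp (by linear_combination h : (2 : R) * (y * y) = 0)) (by
          rintro (h' | h')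
          · exact htwo h'
          · exact hy (mul_self_eq_zero.mp h'))
      · apply mul_left_cancel₀ htwo
        linear_combination h
    · rw [show (-1 : R) * -1 * ((y + 1) * y⁻¹)⁻¹ = 1 - (y + 1)⁻¹ by field_simp; ring,
        hr _ (inv_ne_zero hy1), hεinv _ hy1, e, inv_inv] at hfin
      have h := PSL2.pt_inj.mp (φ.injective hfin)
      exact absurd (by linear_combination -h : (2 : R) = 0) htwo
  intro h hh
  obtain ⟨u, rfl⟩ := hsurj h hh
  have hu : u * σ u = 1 := by
    rcases hε (u : R) u.ne_zero with e | e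
    · exact Units.ext (by rw [← hεu, e]; rfl)
    · exfalso
      have h1 := hquad _ u.ne_zero e
      have h2 := hquad (-(u : R)) (neg_ne_zero.mpr u.ne_zero) (by
        rw [← neg_one_mul, hεm _ _ (neg_ne_zero.mpr one_ne_zero) u.ne_zero, hεn, one_mul, e])
      exact mul_ne_zero htwo u.ne_zero (by linear_combination h2 - h1)
  rw [← hσ', eq_inv_iff_mul_eq_one, ← hkmul, mul_comm, hu, hk1]

end Cfsg.Agent.Perm
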