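/-
Wagner's theorem: a non-trivial normal subgroup of a triply transitive group of odd degree at least
5 is triply transitive.

* `wagner_triply_transitive`
-/
import Cfsg.Agent.Lib.Perm.Basic
import Cfsg.Agent.Lib.Perm.NormalSubgroups

namespace Cfsg.Agent.Perm

open MulAction

open scoped Pointwise

universe u

/-- Sylow step: two 2-groups of maximal order in `K` are conjugate in `K`. -/
theorem exists_conj_of_two_groups_max {A : Type*} [Group A] [Finite A] {K P Q : Subgroup A}
    (hP : IsPGroup 2 P) (hQ : IsPGroup 2 Q) (hPK : P ≤ K) (hQK : Q ≤ K)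
    (hPQ : Nat.card Q = Nat.card P)
    (hmax : ∀ R : Subgroup A, IsPGroup 2 R → R ≤ K → Nat.card R ≤ Nat.card P) :
    ∃ k ∈ K, Q.map (MulAut.conj k).toMonoidHom = P := by
  have : Fact (Nat.Prime 2) := ⟨Nat.prime_two⟩
  have hsyl : ∀ R : Subgroup A, IsPGroup 2 R → R ≤ K → Nat.card R = Nat.card P →
      ∃ S : Sylow 2 K, (S : Subgroup K).map K.subtype = R := by
    intro R hR hRK hcard
    obtain ⟨S, hS⟩ := (hR.comap_subtype (K := K)).exists_le_sylow
    refine ⟨S, ?_⟩
    have hle : R ≤ (S : Subgroup K).map K.subtype := fun r hr =>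
      ⟨⟨r, hRK hr⟩, hS (Subgroup.mem_subgroupOf.mpr hr), rfl⟩
    refine (Subgroup.eq_of_le_of_card_ge hle ?_).symm
    rw [hcard]
    exact hmax _ (S.2.map K.subtype) (Subgroup.map_subtype_le _)
  obtain ⟨S, hS⟩ := hsyl P hP hPK rfl
  obtain ⟨T, hT⟩ := hsyl Q hQ hQK hPQ
  obtain ⟨k, hk⟩ := MulAction.exists_smul_eq K T S
  refine ⟨k, k.2, ?_⟩
  rw [← hS, ← hT, ← hk, Sylow.coe_subgroup_smul, Subgroup.map_map]
  show _ = Subgroup.map K.subtype ((T : Subgroup K).map (MulAut.conj k).toMonoidHom)
  rw [Subgroup.map_map]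
  rfl

theorem wagner_triply_transitive {α : Type u} [Fintype α] [DecidableEq α]
    (G N : Subgroup (Equiv.Perm α)) (hodd : Odd (Fintype.card α)) (h5 : 5 ≤ Fintype.card α)
    (h3 : IsMultiplyPretransitive G α 3) (hNG : N ≤ G) (hN : N ≠ ⊥)
    (hnorm : ∀ g ∈ G, ∀ x ∈ N, g * x * g⁻¹ ∈ N) : IsMultiplyPretransitive N α 3 := by
  induction hn : Fintype.card α using Nat.strong_induction_on generalizing α with
  | _ n ih =>
    have hdeg : 3 < Nat.card α := by rw [Nat.card_eq_fintype_card]; omega
    have hnormal : (N.subgroupOf G).Normal :=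
      ⟨fun x hx g => Subgroup.mem_subgroupOf.mpr (hnorm g g.2 x (Subgroup.mem_subgroupOf.mp hx))⟩
    have hNne : N.subgroupOf G ≠ ⊥ := by
      rw [ne_eq, Subgroup.subgroupOf_eq_bot, disjoint_iff, inf_eq_left.mpr hNG]
      exact hN
    have hG2 : IsMultiplyPretransitive G α 2 :=
      isMultiplyPretransitive_of_le (n := 3) (by omega) hdeg.le
    have hN2 : IsMultiplyPretransitive N α 2 := by
      rcases jordan_normal (by norm_num) hdeg h3 hNne with h | ⟨-, hc, hexp⟩
      · exact ⟨fun x y => by
          obtain ⟨g, hg⟩ := h.exists_smul_eq x y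
          exact ⟨⟨(g : G), Subgroup.mem_subgroupOf.mp g.2⟩, hg⟩⟩
      · exfalso
        have := isPreprimitive_of_is_two_pretransitive hG2
        have ht := isPretransitive_of_normal_ne_bot (X := α) hNne
        have hne : Nonempty α := Fintype.card_pos_iff.mp (by omega)
        have hc' := card_eq_of_regular ht (stabilizer_eq_bot_of_isMulCommutative ht hc)
        have : Fact (Nat.Prime 2) := ⟨Nat.prime_two⟩
        have hpg : IsPGroup 2 (N.subgroupOf G) := fun x => ⟨1, by rw [pow_one]; exact hexp x⟩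
        obtain ⟨m, hm⟩ := IsPGroup.iff_card.mp hpg
        rw [hc', Nat.card_eq_fintype_card] at hm
        rcases Nat.eq_zero_or_pos m with rfl | hm0
        · rw [pow_zero] at hm; omega
        · rw [hm, Nat.odd_pow_iff (by omega)] at hodd
          exact (by decide : ¬ Odd 2) hodd
    obtain ⟨a, b, hab⟩ := Fintype.exists_pair_of_one_lt_card (show 1 < Fintype.card α by omega)
    let Nab : Subgroup (Equiv.Perm α) :=
      N ⊓ stabilizer (Equiv.Perm α) a ⊓ stabilizer (Equiv.Perm α) b
    have hNab : ∀ g, g ∈ Nab ↔ g ∈ N ∧ g • a = a ∧ g • b = b := fun g => by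
      simp only [Nab, Subgroup.mem_inf, mem_stabilizer_iff, and_assoc]
    let S : Subgroup (Equiv.Perm α) :=
      G ⊓ stabilizer (Equiv.Perm α) a ⊓ stabilizer (Equiv.Perm α) b
    have hS : ∀ g, g ∈ S ↔ g ∈ G ∧ g • a = a ∧ g • b = b := fun g => by
      simp only [S, Subgroup.mem_inf, mem_stabilizer_iff, and_assoc]
    have hfix : ∀ {g : Equiv.Perm α} {x y : α}, g • y = y → x ≠ y → g • x ≠ y :=
      fun hy hxy e => hxy (MulAction.injective _ (e.trans hy.symm))
    let U : SubMulAction S α :=
      { carrier := {x | x ≠ a ∧ x ≠ b}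
        smul_mem' := fun g x hx =>
          ⟨hfix ((hS g).mp g.2).2.1 hx.1, hfix ((hS g).mp g.2).2.2 hx.2⟩ }
    have hUt : IsPretransitive S U := by
      refine ⟨fun x y => ?_⟩
      obtain ⟨⟨g, hg⟩, h1, h2, h3'⟩ := exists_smul_triple h3 hab x.2.1.symm x.2.2.symm
        hab y.2.1.symm y.2.2.symm
      exact ⟨⟨g, (hS g).mpr ⟨hg, h1, h2⟩⟩, Subtype.ext h3'⟩
    -- the orbits of `Nab` off `{a, b}` have odd size
    have horb : ∀ z, z ≠ a → z ≠ b → Odd (orbit Nab z).ncard := by
      intro z hza hzb
      let M : Subgroup S := Nab.subgroupOf S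
      have hM : M.Normal := ⟨fun x hx g => by
        rw [Subgroup.mem_subgroupOf, hNab] at hx ⊢
        obtain ⟨hgG, hga, hgb⟩ := (hS g).mp g.2
        refine ⟨hnorm g hgG x hx.1, ?_, ?_⟩
        · rw [Subgroup.coe_mul, Subgroup.coe_mul, Subgroup.coe_inv, conj_smul_of_fix _ hga, hx.2.1,
            hga]
        · rw [Subgroup.coe_mul, Subgroup.coe_mul, Subgroup.coe_inv, conj_smul_of_fix _ hgb, hx.2.2,
            hgb]⟩
      have hz : z ∈ U := ⟨hza, hzb⟩
      have hblock : IsBlock S (orbit M (⟨z, hz⟩ : U)) := IsBlock.orbit_of_normal _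
      have hdvd := hblock.ncard_dvd_card (nonempty_orbit _)
      have himg : orbit Nab z = Subtype.val '' orbit M (⟨z, hz⟩ : U) := by
        ext w
        constructor
        · rintro ⟨⟨g, hg⟩, rfl⟩
          have hgS : g ∈ S := (hS g).mpr ⟨hNG ((hNab g).mp hg).1, ((hNab g).mp hg).2⟩
          exact ⟨_, ⟨(⟨⟨g, hgS⟩, Subgroup.mem_subgroupOf.mpr hg⟩ : M), rfl⟩, rfl⟩
        · rintro ⟨_, ⟨g, rfl⟩, rfl⟩
          exact ⟨⟨g.1.1, Subgroup.mem_subgroupOf.mp g.2⟩, rfl⟩
      have hUcard : Nat.card U = Fintype.card α - 2 := by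
        have h : Nat.card U = ({a, b}ᶜ : Set α).ncard := by
          rw [← Nat.card_coe_set_eq]
          exact Nat.card_congr (Equiv.subtypeEquivRight fun x => by
            show (x ≠ a ∧ x ≠ b) ↔ _
            simp)
        rw [h, Set.ncard_compl, Set.ncard_pair hab, Nat.card_eq_fintype_card]
      rw [himg, Set.ncard_image_of_injective _ Subtype.val_injective]
      rw [hUcard] at hdvd
      exact (Nat.Odd.sub_even (by omega) hodd even_two).of_dvd_nat hdvd
    -- an element of `N` swapping `a` and `b` preserves each orbit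
    have hswap : ∀ t ∈ N, t • a = b → t • b = a → ∀ z, z ≠ a → z ≠ b → t • z ∈ orbit Nab z := by
      intro t ht hta htb
      have hN' : ∀ z, z ≠ a → z ≠ b → t • z ≠ a ∧ t • z ≠ b := fun z h1 h2 =>
        ⟨fun e => h2 (MulAction.injective t (e.trans htb.symm)),
          fun e => h1 (MulAction.injective t (e.trans hta.symm))⟩
      obtain ⟨u, hu, ⟨k, hk⟩, hua, hub⟩ := exists_two_element_of_swap hta htb
      have huN : u ∈ N := Subgroup.zpowers_le.mpr ht hu
      have : Fact (Nat.Prime 2) := ⟨Nat.prime_two⟩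
      have hup : IsPGroup 2 (Subgroup.zpowers u) := by
        rintro ⟨_, i, rfl⟩
        refine ⟨k, Subtype.ext ?_⟩
        show (u ^ i) ^ 2 ^ k = 1
        rw [← zpow_natCast (u ^ i), ← zpow_mul, mul_comm, zpow_mul, zpow_natCast, hk, one_zpow]
      obtain ⟨x, ⟨hxa, hxb⟩, hx⟩ := exists_fixed_of_odd_set hup (S := {x | x ≠ a ∧ x ≠ b}) (by
        have h : {x : α | x ≠ a ∧ x ≠ b} = ({a, b}ᶜ : Set α) := by ext x; simp
        rw [h, Set.ncard_compl, Set.ncard_pair hab, Nat.card_eq_fintype_card]
        exact Nat.Odd.sub_even (by omega) hodd even_two) (by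
        intro p hp z hz
        -- powers of `u` stabilise `{a, b}` setwise
        have key : ∀ w, (w = a ∨ w = b) → (p • w = a ∨ p • w = b) := by
          have hsub : Subgroup.zpowers u ≤ stabilizer (Equiv.Perm α) ({a, b} : Finset α) := by
            rw [Subgroup.zpowers_le, mem_stabilizer_iff, Finset.smul_finset_insert,
              Finset.smul_finset_singleton, hua, hub, Finset.pair_comm]
          intro w hw
          have := Finset.smul_mem_smul_finset (a := p) (show w ∈ ({a, b} : Finset α) by simpa using hw)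
          rw [mem_stabilizer_iff.mp (hsub hp)] at this
          simpa using this
        have hpa := key a (Or.inl rfl)
        have hpb := key b (Or.inr rfl)
        have hinj : p • a ≠ p • b := fun e => hab (MulAction.injective p e)
        constructor <;> intro e
        · rcases hpa with h | h
          · exact hz.1 (MulAction.injective p (e.trans h.symm))
          · rcases hpb with h' | h'
            · exact hz.2 (MulAction.injective p (e.trans h'.symm))
            · exact hinj (h.trans h'.symm)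
        · rcases hpb with h | h
          · rcases hpa with h' | h'
            · exact hinj (h'.trans h.symm)
            · exact hz.1 (MulAction.injective p (e.trans h'.symm))
          · exact hz.2 (MulAction.injective p (e.trans h.symm)))
      have hux : u • x = x := hx u (Subgroup.mem_zpowers u)
      intro z hza hzb
      obtain ⟨g, hg⟩ := hUt.exists_smul_eq ⟨x, hxa, hxb⟩ ⟨z, hza, hzb⟩
      have hgx : (g : Equiv.Perm α) • x = z := congrArg Subtype.val hg
      obtain ⟨hgG, hga, hgb⟩ := (hS g).mp g.2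
      -- `u' := g u g⁻¹` swaps `a`, `b` and fixes `z`
      set u' := (g : Equiv.Perm α) * u * (g : Equiv.Perm α)⁻¹
      have hu'z : u' • z = z := by
        rw [← hgx, mul_smul, mul_smul, inv_smul_smul, hux]
      have hu'a : u' • a = b := by rw [conj_smul_of_fix _ hga, hua, hgb]
      have hu'b : u' • b = a := by rw [conj_smul_of_fix _ hgb, hub, hga]
      refine ⟨⟨t * u'⁻¹, (hNab _).mpr ⟨mul_mem ht (inv_mem (hnorm g hgG u huN)), ?_, ?_⟩⟩, ?_⟩
      · rw [mul_smul, inv_smul_eq_iff.mpr hu'b.symm, htb]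
      · rw [mul_smul, inv_smul_eq_iff.mpr hu'a.symm, hta]
      · show (t * u'⁻¹) • z = t • z
        rw [mul_smul, inv_smul_eq_iff.mpr hu'z.symm]
    -- it suffices that there is only one orbit
    suffices h1 : ∀ x z : α, x ≠ a → x ≠ b → z ≠ a → z ≠ b → z ∈ orbit Nab x by
      refine isMultiplyPretransitive_three_of_stabilizer hN2 a b hab fun x z h1' h2' h3' h4' => ?_
      obtain ⟨⟨g, hg⟩, hgx⟩ := h1 x z h1' h2' h3' h4'
      obtain ⟨hgN, hga, hgb⟩ := (hNab g).mp hg
      exact ⟨⟨g, hgN⟩, hga, hgb, hgx⟩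
    have : Fact (Nat.Prime 2) := ⟨Nat.prime_two⟩
    obtain ⟨P0⟩ : Nonempty (Sylow 2 Nab) := inferInstance
    let P : Subgroup (Equiv.Perm α) := (P0 : Subgroup Nab).map Nab.subtype
    have hPle : P ≤ Nab := Subgroup.map_subtype_le _
    have hP2 : IsPGroup 2 P := P0.2.map _
    -- maximality of `P` among 2-subgroups of two-point stabilisers in `N`
    have hbound : ∀ (R : Subgroup (Equiv.Perm α)) (x y : α), x ≠ y → IsPGroup 2 R →
        R ≤ N ⊓ stabilizer (Equiv.Perm α) x ⊓ stabilizer (Equiv.Perm α) y →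
        Nat.card R ≤ Nat.card P := by
      intro R x y hxy hR hle
      obtain ⟨⟨m, hm⟩, hmx, hmy⟩ := is_two_pretransitive_iff.mp hN2 hxy hab
      rw [Subgroup.mk_smul] at hmx hmy
      let R' := R.map (MulAut.conj m).toMonoidHom
      have hR' : R' ≤ Nab := by
        rintro _ ⟨r, hr, rfl⟩
        obtain ⟨⟨hrN, hrx⟩, hry⟩ := hle hr
        refine (hNab _).mpr ⟨mul_mem (mul_mem hm hrN) (inv_mem hm), ?_, ?_⟩
        · show (m * r * m⁻¹) • a = a
          rw [mul_smul, mul_smul, inv_smul_eq_iff.mpr hmx.symm, mem_stabilizer_iff.mp hrx]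
          exact hmx
        · show (m * r * m⁻¹) • b = b
          rw [mul_smul, mul_smul, inv_smul_eq_iff.mpr hmy.symm, mem_stabilizer_iff.mp hry]
          exact hmy
      obtain ⟨S', hS'⟩ := ((hR.map (MulAut.conj m).toMonoidHom).comap_subtype (K := Nab)).exists_le_sylow
      calc Nat.card R = Nat.card R' :=
            Nat.card_congr (R.equivMapOfInjective _ (MulEquiv.injective _)).toEquiv
        _ = Nat.card (R'.subgroupOf Nab) :=
            (Nat.card_congr (Subgroup.subgroupOfEquivOfLe hR').toEquiv).symm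
        _ ≤ Nat.card (S' : Subgroup Nab) := Subgroup.card_le_of_le hS'
        _ = Nat.card (P0 : Subgroup Nab) := by
            rw [Sylow.card_eq_multiplicity, Sylow.card_eq_multiplicity]
        _ = Nat.card P := Nat.card_congr
            ((P0 : Subgroup Nab).equivMapOfInjective _ Nab.subtype_injective).toEquiv
    by_cases hP : P = ⊥
    · -- two-point stabilisers in `N` have odd order
      have hoddcard : ∀ g ∈ Nab, Odd (orderOf g) := by
        intro g hg
        by_contra heven
        rw [Nat.not_odd_iff_even] at heven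
        have hne : g ^ (orderOf g / 2) ≠ 1 := fun e => by
          have h0 := orderOf_pos g
          obtain ⟨m, hm⟩ := heven
          have := Nat.le_of_dvd (by omega) (orderOf_dvd_of_pow_eq_one e)
          omega
        have h2' : IsPGroup 2 (Subgroup.zpowers (g ^ (orderOf g / 2))) := IsPGroup.of_card (n := 1) (by
          rw [pow_one, Nat.card_zpowers, orderOf_eq_prime (p := 2)]
          · rw [← pow_mul, Nat.div_mul_cancel heven.two_dvd, pow_orderOf_eq_one]
          · exact hne)
        have hle := hbound _ a b hab h2' (Subgroup.zpowers_le.mpr (pow_mem hg _))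
        rw [hP, Subgroup.card_bot, Finite.card_le_one_iff_subsingleton] at hle
        exact hne (congrArg Subtype.val
          (hle.elim ⟨_, Subgroup.mem_zpowers _⟩ (1 : Subgroup.zpowers (g ^ (orderOf g / 2)))))
      obtain ⟨⟨t, htN⟩, hta, htb⟩ := is_two_pretransitive_iff.mp hN2 hab hab.symm
      rw [Subgroup.mk_smul] at hta htb
      obtain ⟨u, hu, hu2, hua, hub⟩ := exists_mul_self_eq_one_of_swap (g := t) hta htb
        (hoddcard _ ((hNab _).mpr ⟨pow_mem htN 2, by
          rw [pow_two, mul_smul]; exact (congrArg (t • ·) hta).trans htb, by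
          rw [pow_two, mul_smul]; exact (congrArg (t • ·) htb).trans hta⟩))
      have huN : u ∈ N := Subgroup.zpowers_le.mpr htN hu
      have huone : ∀ x y : α, u • x = x → u • y = y → x = y := by
        intro x y hx hy
        by_contra hxy
        have hune : u ≠ 1 := fun e => hab (by rw [← hua, e, one_smul])
        have h2' : IsPGroup 2 (Subgroup.zpowers u) := IsPGroup.of_card (n := 1) (by
          rw [pow_one, Nat.card_zpowers, orderOf_eq_prime (by rw [pow_two]; exact hu2) hune])
        have hle := hbound _ x y hxy h2' (Subgroup.zpowers_le.mpr ⟨⟨huN, hx⟩, hy⟩)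
        rw [hP, Subgroup.card_bot, Finite.card_le_one_iff_subsingleton] at hle
        exact hune (congrArg Subtype.val
          (hle.elim ⟨_, Subgroup.mem_zpowers _⟩ (1 : Subgroup.zpowers u)))
      have hfix' : ∀ z, z ≠ a → z ≠ b → ∃ c ∈ orbit Nab z, u • c = c := by
        intro z hza hzb
        have h2' : IsPGroup 2 (Subgroup.zpowers u) := IsPGroup.of_card (n := 1) (by
          rw [pow_one, Nat.card_zpowers, orderOf_eq_prime (by rw [pow_two]; exact hu2)
            fun e => hab (by rw [← hua, e, one_smul])])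
        have hstep : ∀ w ∈ orbit Nab z, u • w ∈ orbit Nab z := by
          rintro _ ⟨⟨g, hg⟩, rfl⟩
          obtain ⟨-, hga, hgb⟩ := (hNab g).mp hg
          have h1 := hswap u huN hua hub _ (hfix hga hza) (hfix hgb hzb)
          rw [← orbit_eq_iff.mpr (mem_orbit z (⟨g, hg⟩ : Nab))]
          exact h1
        obtain ⟨c, hc, hcu⟩ := exists_fixed_of_odd_set h2' (horb z hza hzb) (by
          intro p hp w hw
          obtain ⟨i, rfl⟩ := Submonoid.mem_powers_iff _ _ |>.mp (mem_powers_iff_mem_zpowers.mpr hp)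
          induction i with
          | zero => rwa [pow_zero, one_smul]
          | succ i ihi =>
            rw [pow_succ', mul_smul]
            exact hstep _ (ihi (Subgroup.pow_mem _ (Subgroup.mem_zpowers u) i)))
        exact ⟨c, hc, hcu u (Subgroup.mem_zpowers u)⟩
      intro x z hxa hxb hza hzb
      obtain ⟨c, hc, hcu⟩ := hfix' x hxa hxb
      obtain ⟨c', hc', hcu'⟩ := hfix' z hza hzb
      rw [huone _ _ hcu' hcu] at hc'
      rw [← orbit_eq_iff.mpr hc, orbit_eq_iff.mpr hc']
      exact mem_orbit_self z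
    -- non-trivial Sylow 2-subgroup: pass to its fixed points
    let G' := G ⊓ Subgroup.normalizer (P : Set (Equiv.Perm α))
    let F : SubMulAction G' α :=
      { carrier := {x | ∀ p ∈ P, p • x = x}
        smul_mem' := fun g x hx p hp => by
          have hp' : (g : Equiv.Perm α)⁻¹ * p * (g : Equiv.Perm α) ∈ P :=
            (Subgroup.mem_normalizer_iff''.mp g.2.2 p).mp hp
          have := hx _ hp'
          rw [mul_smul, mul_smul, inv_smul_eq_iff] at this
          exact this }
    classical
    let : Fintype F := Fintype.ofFinite _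
    have haF : a ∈ F := fun p hp => ((hNab p).mp (hPle hp)).2.1
    have hbF : b ∈ F := fun p hp => ((hNab p).mp (hPle hp)).2.2
    have hrep : ∀ z, z ≠ a → z ≠ b → ∃ c ∈ orbit Nab z, c ∈ F := fun z hza hzb => by
      obtain ⟨c, hc, hcf⟩ := exists_fixed_of_odd_set hP2 (horb z hza hzb)
        (fun p hp w hw => (orbit_eq_iff.mpr hw).le ⟨⟨p, hPle hp⟩, rfl⟩)
      exact ⟨c, hc, hcf⟩
    have hFab : ∀ z, z ≠ a → z ≠ b → ∀ c ∈ orbit Nab z, c ≠ a ∧ c ≠ b := by
      rintro z hza hzb _ ⟨⟨g, hg⟩, rfl⟩
      exact ⟨hfix ((hNab g).mp hg).2.1 hza, hfix ((hNab g).mp hg).2.2 hzb⟩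
    -- moving into the normaliser of `P`
    have hnormalizing : ∀ (g : Equiv.Perm α), g ∈ G → ∀ T : Finset α, 2 ≤ T.card →
        (∀ x ∈ T, ∀ p ∈ P, p • x = x) → (∀ x ∈ T, ∀ p ∈ P, (g * p * g⁻¹) • x = x) →
        ∃ k ∈ N, (∀ x ∈ T, k • x = x) ∧ k * g ∈ Subgroup.normalizer (P : Set (Equiv.Perm α)) := by
      intro g hg T hT hPT hgT
      obtain ⟨x, hx, y, hy, hxy⟩ := Finset.one_lt_card.mp hT
      let K := N ⊓ fixingSubgroup (Equiv.Perm α) (T : Set α)
      have hK : ∀ k, k ∈ K ↔ k ∈ N ∧ ∀ x ∈ T, k • x = x := fun k => by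
        simp [K, Subgroup.mem_inf, mem_fixingSubgroup_iff]
      let Q := P.map (MulAut.conj g).toMonoidHom
      have hQK : Q ≤ K := by
        rintro _ ⟨p, hp, rfl⟩
        exact (hK _).mpr ⟨hnorm g hg p ((hNab p).mp (hPle hp)).1, fun z hz => hgT z hz p hp⟩
      have hmax : ∀ R : Subgroup (Equiv.Perm α), IsPGroup 2 R → R ≤ K → Nat.card R ≤ Nat.card P :=
        fun R hR hRK => hbound R x y hxy hR fun r hr =>
          ⟨⟨((hK r).mp (hRK hr)).1, ((hK r).mp (hRK hr)).2 x hx⟩, ((hK r).mp (hRK hr)).2 y hy⟩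
      obtain ⟨k, hk, hkQ⟩ := exists_conj_of_two_groups_max hP2 (hP2.map _)
        (fun p hp => (hK p).mpr ⟨((hNab p).mp (hPle hp)).1, fun z hz => hPT z hz p hp⟩) hQK
        (Nat.card_congr (P.equivMapOfInjective _ (MulEquiv.injective _)).toEquiv).symm hmax
      refine ⟨k, ((hK k).mp hk).1, ((hK k).mp hk).2, Subgroup.mem_normalizer_iff.mpr fun p => ?_⟩
      have heq : P.map (MulAut.conj (k * g)).toMonoidHom = P := by
        conv_rhs => rw [← hkQ, Subgroup.map_map]
        congr 1
      conv_rhs => rw [← heq]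
      exact (Subgroup.mem_map_iff_mem
        (f := (MulAut.conj (k * g)).toMonoidHom) (MulEquiv.injective _)).symm
    have hkey : ∀ g : Equiv.Perm α, g ∈ G → ∀ T : Finset α, 2 ≤ T.card → (∀ x ∈ T, x ∈ F) →
        (∀ x ∈ T, g⁻¹ • x ∈ F) → ∃ k ∈ N, (∀ x ∈ T, k • x = x) ∧ k * g ∈ G' := by
      intro g hg T hT hTF hgF
      obtain ⟨k, hkN, hkT, hkn⟩ := hnormalizing g hg T hT hTF fun x hx p hp => by
        rw [mul_smul, mul_smul, hgF x hx p hp, smul_inv_smul]
      exact ⟨k, hkN, hkT, mul_mem (hNG hkN) hg, hkn⟩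
    let hom := MulAction.toPermHom G' F
    let L := hom.range
    let LN := (N.subgroupOf G').map hom
    have hLN : LN ≤ L := Subgroup.map_le_range _ _
    have hL3 : IsMultiplyPretransitive L F 3 := by
      refine ⟨fun u v => ?_⟩
      have h01 : (0 : Fin 3) ≠ 1 := by decide
      have h02 : (0 : Fin 3) ≠ 2 := by decide
      have h12 : (1 : Fin 3) ≠ 2 := by decide
      have hne : ∀ (w : Fin 3 ↪ F) {i j : Fin 3}, i ≠ j → (w i : α) ≠ w j := fun w i j hij e =>
        hij (w.injective (Subtype.ext e))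
      obtain ⟨⟨g, hg⟩, h0, h1, h2⟩ := exists_smul_triple h3 (hne u h01) (hne u h02) (hne u h12)
        (hne v h01) (hne v h02) (hne v h12)
      rw [Subgroup.mk_smul] at h0 h1 h2
      obtain ⟨k, hkN, hkT, hkG⟩ := hkey g hg {(v 0 : α), (v 1 : α), (v 2 : α)}
        (by
          rw [Finset.card_insert_of_notMem (by simp [hne v h01, hne v h02]),
            Finset.card_pair (hne v h12)]
          omega)
        (by
          intro x hx
          simp only [Finset.mem_insert, Finset.mem_singleton] at hx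
          rcases hx with rfl | rfl | rfl <;> exact (v _).2)
        (by
          intro x hx
          simp only [Finset.mem_insert, Finset.mem_singleton] at hx
          rcases hx with rfl | rfl | rfl
          · rw [inv_smul_eq_iff.mpr h0.symm]; exact (u _).2
          · rw [inv_smul_eq_iff.mpr h1.symm]; exact (u _).2
          · rw [inv_smul_eq_iff.mpr h2.symm]; exact (u _).2)
      refine ⟨⟨hom ⟨k * g, hkG⟩, _, rfl⟩, ?_⟩
      ext i
      show ((k * g : Equiv.Perm α) • (u i : α)) = v i
      rw [mul_smul]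
      fin_cases i
      · exact (congrArg (k • ·) h0).trans (hkT _ (by simp))
      · exact (congrArg (k • ·) h1).trans (hkT _ (by simp))
      · exact (congrArg (k • ·) h2).trans (hkT _ (by simp))
    by_cases hsmall : Nat.card F ≤ 3
    · intro x z hxa hxb hza hzb
      obtain ⟨c, hc, hcF⟩ := hrep x hxa hxb
      obtain ⟨c', hc', hcF'⟩ := hrep z hza hzb
      obtain ⟨hca, hcb⟩ := hFab x hxa hxb c hc
      obtain ⟨hca', hcb'⟩ := hFab z hza hzb c' hc'
      have hcc : c = c' := by
        by_contra hne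
        have hle : ({a, b, c, c'} : Finset α).card ≤ 3 := by
          refine le_trans (le_trans (Finset.card_le_card
            (t := Finset.univ.filter fun w => w ∈ F) ?_) (le_of_eq ?_)) hsmall
          · intro w hw
            simp only [Finset.mem_insert, Finset.mem_singleton] at hw
            rcases hw with rfl | rfl | rfl | rfl <;> simp [haF, hbF, hcF, hcF']
          · rw [← Fintype.card_subtype, Nat.card_eq_fintype_card]
        rw [Finset.card_insert_of_notMem, Finset.card_insert_of_notMem, Finset.card_pair hne]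
          at hle
        · omega
        · simp [hcb.symm, hcb'.symm]
        · simp [hab, hca.symm, hca'.symm]
      subst hcc
      rw [← orbit_eq_iff.mpr hc, orbit_eq_iff.mpr hc']
      exact mem_orbit_self z
    have hFodd : Odd (Fintype.card F) := by
      have hm := hP2.card_modEq_card_fixedPoints α
      have h : Nat.card (fixedPoints P α) = Nat.card F :=
        Nat.card_congr (Equiv.subtypeEquivRight fun x =>
          ⟨fun h p hp => h ⟨p, hp⟩, fun h p => h p p.2⟩)
      rw [h, Nat.card_eq_fintype_card, Nat.card_eq_fintype_card] at hm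
      rw [Nat.odd_iff] at hodd ⊢
      rw [Nat.ModEq] at hm
      omega
    have hFlt : Fintype.card F < n := by
      rw [← hn]
      obtain ⟨⟨p, hp⟩, hp1'⟩ := Subgroup.ne_bot_iff_exists_ne_one.mp hP
      have hp1 : p ≠ 1 := fun e => hp1' (Subtype.ext e)
      obtain ⟨x, hx⟩ : ∃ x, p • x ≠ x := by
        by_contra h
        push Not at h
        exact hp1 (Equiv.ext h)
      refine Fintype.card_lt_of_injective_not_surjective (fun y : F => (y : α)) Subtype.val_injective ?_
      intro hs
      obtain ⟨y, hy⟩ := hs x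
      exact hx (hy ▸ y.2 p hp)
    have hLNne : LN ≠ ⊥ := by
      intro h
      obtain ⟨⟨m, hm⟩, hma, hmb⟩ := is_two_pretransitive_iff.mp hN2 hab hab.symm
      rw [Subgroup.mk_smul] at hma hmb
      obtain ⟨k, hkN, hkT, hkG⟩ := hkey m (hNG hm) {a, b} (by rw [Finset.card_pair hab])
        (by simp [haF, hbF]) (by
          intro x hx
          simp only [Finset.mem_insert, Finset.mem_singleton] at hx
          rcases hx with rfl | rfl
          · rw [inv_smul_eq_iff.mpr hmb.symm]; exact hbF
          · rw [inv_smul_eq_iff.mpr hma.symm]; exact haF)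
      have hmem : hom ⟨k * m, hkG⟩ ∈ LN :=
        Subgroup.mem_map_of_mem _ (Subgroup.mem_subgroupOf.mpr (mul_mem hkN hm))
      rw [h, Subgroup.mem_bot] at hmem
      have : (k * m) • a = a :=
        congrArg Subtype.val (congrArg (fun σ : Equiv.Perm F => σ ⟨a, haF⟩) hmem)
      rw [mul_smul, hma, hkT b (by simp)] at this
      exact hab this.symm
    have hIH := ih (Fintype.card F) hFlt L LN hFodd
      (by
        rw [← Nat.card_eq_fintype_card]
        have := Nat.card_eq_fintype_card (α := F) ▸ hFodd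
        rw [Nat.odd_iff] at this
        omega) hL3 hLN hLNne (by
        rintro _ ⟨g, rfl⟩ _ ⟨m, hm, rfl⟩
        rw [← map_inv, ← map_mul, ← map_mul]
        exact Subgroup.mem_map_of_mem _ (Subgroup.mem_subgroupOf.mpr
          (hnorm g g.2.1 m (Subgroup.mem_subgroupOf.mp hm)))) rfl
    intro x z hxa hxb hza hzb
    obtain ⟨c, hc, hcF⟩ := hrep x hxa hxb
    obtain ⟨c', hc', hcF'⟩ := hrep z hza hzb
    obtain ⟨hca, hcb⟩ := hFab x hxa hxb c hc
    obtain ⟨hca', hcb'⟩ := hFab z hza hzb c' hc'
    obtain ⟨⟨_, m, hm, rfl⟩, h1, h2, h3'⟩ := exists_smul_triple hIH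
      (a := ⟨a, haF⟩) (b := ⟨b, hbF⟩) (c := ⟨c, hcF⟩)
      (x := ⟨a, haF⟩) (y := ⟨b, hbF⟩) (z := ⟨c', hcF'⟩)
      (fun e => hab (congrArg Subtype.val e)) (fun e => hca.symm (congrArg Subtype.val e))
      (fun e => hcb.symm (congrArg Subtype.val e)) (fun e => hab (congrArg Subtype.val e))
      (fun e => hca'.symm (congrArg Subtype.val e)) (fun e => hcb'.symm (congrArg Subtype.val e))
    have : c' ∈ orbit Nab c := ⟨⟨((m : G') : Equiv.Perm α), (hNab _).mpr
      ⟨Subgroup.mem_subgroupOf.mp hm, congrArg Subtype.val h1, congrArg Subtype.val h2⟩⟩,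
      congrArg Subtype.val h3'⟩
    rw [← orbit_eq_iff.mpr hc, ← orbit_eq_iff.mpr this, orbit_eq_iff.mpr hc']
    exact mem_orbit_self z

end Cfsg.Agent.Perm
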